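import Cfsg.Agent.Omega.NO3S.SFive.Lit

/-!
# GammaFF (S5): the cell lemma (#22571 (1)-(3))

* `Ctr.conj` : conjugation;
* `cell` : a family `(F_i, ρ_i)` with `two`, `out` and a common fixed vector `v ∈ F'`: all `W_i` centralise `s`;
* `TyD` : the type data; `OutD.cent_s` : `K ≤ C(s)`.
-/

set_option autoImplicit false

namespace Cfsg.Agent.Omega.NO3S.SFive

open Subgroup Cfsg Cfsg.Agent.ZN
open Cfsg.Agent.Omega.NOne.Flat (Hyp EE WW conj_eq_of_norm EE_conj WW_conj conj_centralizer)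
open Cfsg.Agent.Omega.NOThreeL.NF (MinOffM)
open Cfsg.Agent.Omega.NoFF.Basic (conj_conj mem_conj conj_le_iff conj_le_centralizer)
open scoped Pointwise commutatorElement

universe u

variable {G : Type u} [Group G]

theorem conj_normalizer_le {m : G} {W Y : Subgroup G} :
    MulAut.conj m • W ≤ normalizer (Y : Set G) ↔ W ≤ normalizer ((MulAut.conj m⁻¹ • Y : Subgroup G) : Set G) := by
  constructor
  · intro h w hw
    rw [mem_normalizer_iff]
    intro y
    rw [mem_conj, mem_conj, inv_inv]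
    have h1 : m * w * m⁻¹ ∈ normalizer (Y : Set G) := h (by rw [mem_conj]; simpa [mul_assoc] using hw)
    have h2 := mem_normalizer_iff.1 h1 (m * y * m⁻¹)
    have e : m * w * m⁻¹ * (m * y * m⁻¹) * (m * w * m⁻¹)⁻¹ = m * (w * y * w⁻¹) * m⁻¹ := by group
    rw [e] at h2
    exact h2
  · intro h x hx
    rw [mem_conj] at hx
    have h1 := h hx
    rw [mem_normalizer_iff]
    intro y
    have h2 := mem_normalizer_iff.1 h1 (m⁻¹ * y * m)
    rw [mem_conj, mem_conj, inv_inv] at h2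
    have e1 : m * (m⁻¹ * y * m) * m⁻¹ = y := by group
    have e2 : m * (m⁻¹ * x * m * (m⁻¹ * y * m) * (m⁻¹ * x * m)⁻¹) * m⁻¹ = x * y * x⁻¹ := by group
    rw [e1, e2] at h2
    exact h2

theorem comm_le_left {A B : Subgroup G} (h : B ≤ normalizer (A : Set G)) : ⁅A, B⁆ ≤ A := by
  rw [commutator_le]
  intro l hl w hw
  have h9 := (mem_normalizer_iff.1 (h hw) l⁻¹).1 (inv_mem hl)
  have e : ⁅l, w⁆ = l * (w * l⁻¹ * w⁻¹) := by rw [commutatorElement_def]; group
  rw [e]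
  exact mul_mem hl h9

theorem Ctr.conj {V F ρ : Subgroup G} (h : Ctr V F ρ) {m : G} (hm : m ∈ normalizer (V : Set G)) :
    Ctr V (MulAut.conj m • F) (MulAut.conj m • ρ) where
  le := conj_le_iff.2 h.le
  mem := by
    intro Y hY hW hF
    rw [← EE_conj hm] at hY
    rw [← WW_conj hm, conj_normalizer_le] at hW
    have h1 : MulAut.conj m⁻¹ • Y ≤ EE V F := by
      have := conj_le_iff (g := m⁻¹).2 hY
      rwa [conj_conj, inv_mul_cancel, map_one, one_smul] at this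
    have h2 := h.mem _ h1 hW (fun h3 => hF (by
      have := conj_le_iff (g := m).2 h3
      rwa [conj_conj, mul_inv_cancel, map_one, one_smul] at this))
    have := conj_le_iff (g := m).2 h2
    rwa [conj_conj, mul_inv_cancel, map_one, one_smul] at this

/-- **The cell lemma.** -/
theorem cell {V F' s : Subgroup G} {𝓕 : Set (Subgroup G)} (hs : Small V 𝓕) (hF' : F' ∈ 𝓕) (c' : Ctr V F' s)
    {ι : Type*} (F ρ : ι → Subgroup G) (hF : ∀ i, F i ∈ 𝓕) (hc : ∀ i, Ctr V (F i) (ρ i))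
    (two : ∀ a b, ∃ d, ¬ ρ a ≤ F d ∧ ¬ ρ d ≤ F b) (out : ∃ a, ¬ ρ a ≤ EE V F')
    {v : G} (hv : v ≠ 1) (hvF' : v ∈ F') (hvF : ∀ i, v ∈ F i) (i : ι) : s ≤ F i := by
  by_contra hsi
  refine hv (hs (insert F' (Set.range F)) ?_ ⟨F', Set.mem_insert _ _⟩ ?_ v ?_)
  · rintro _ (rfl | ⟨j, rfl⟩)
    · exact hF'
    · exact hF j
  · intro Y hY
    have hY' := hY F' (Set.mem_insert _ _)
    have hYi : ∀ j, Y ≤ EE V (F j) ∧ WW V (F j) ≤ normalizer (Y : Set G) := fun j =>
      hY _ (Set.mem_insert_of_mem _ ⟨j, rfl⟩)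
    -- one centre in `Y` gives all centres in `Y`
    have key : ∀ a, ¬ Y ≤ F a → False := by
      intro a ha
      have h1 : ρ a ≤ Y := (hc a).mem Y (hYi a).1 (hYi a).2 ha
      have hall : ∀ b, ρ b ≤ Y := by
        intro b
        obtain ⟨d, hd1, hd2⟩ := two a b
        have h2 : ρ d ≤ Y := (hc d).mem Y (hYi d).1 (hYi d).2 fun h3 => hd1 (h1.trans h3)
        exact (hc b).mem Y (hYi b).1 (hYi b).2 fun h3 => hd2 (h2.trans h3)
      obtain ⟨b, hb⟩ := out
      exact hb ((hall b).trans hY'.1)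
    rintro _ (rfl | ⟨j, rfl⟩)
    · by_contra hYF
      have h1 : s ≤ Y := c'.mem Y hY'.1 hY'.2 hYF
      exact key i fun h2 => hsi (h1.trans h2)
    · by_contra hYF
      exact key j hYF
  · rintro _ (rfl | ⟨j, rfl⟩)
    · exact hvF'
    · exact hvF j

/-- `Λ = ⟨B^y : y ∈ K⟩` -/
def Lam (B K : Subgroup G) : Subgroup G := ⨆ y : K, MulAut.conj (y : G) • B

/-- The derived group of `Λ`. -/
def Der (B K : Subgroup G) : Subgroup G := ⁅Lam B K, Lam B K⁆

/-- **The type data** (#22571 (2), (3), (5)): `A`, `B ≤ S` root groups (transpositions) on `L = zl S P`, `N` the block of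
`B`, `K` generated by `P`-conjugates of `A`. -/
structure TyD (S P A B N K : Subgroup G) : Prop where
  NL : N ≤ zl S P
  BN : ⁅zl S P, B⁆ ≤ N
  KN : K ≤ normalizer (N : Set G)
  cells : ∃ (γ : Type) (c : γ → Set G), (∀ i, ∀ a ∈ c i, a ∈ P) ∧
    K = (⨆ i, ⨆ a : c i, MulAut.conj (a : G) • A) ∧
    (∀ i, ∀ a ∈ c i, ∀ b ∈ c i, ∃ d ∈ c i,
      ¬ MulAut.conj a • ⁅zl S P, A⁆ ≤ centralizer ((MulAut.conj d • A : Subgroup G) : Set G) ∧
      ¬ MulAut.conj d • ⁅zl S P, A⁆ ≤ centralizer ((MulAut.conj b • A : Subgroup G) : Set G)) ∧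
    (∀ i, ∃ a ∈ c i, ¬ MulAut.conj a • ⁅zl S P, A⁆ ≤ centralizer (B : Set G)) ∧
    ∀ i, ∃ C : Subgroup G, C ≤ zl S P ∧ C ≤ centralizer (B : Set G) ∧
      (∀ a ∈ c i, C ≤ centralizer ((MulAut.conj a • A : Subgroup G) : Set G)) ∧
      Nat.card ↥(⁅zl S P, B⁆ : Subgroup G) < Nat.card C
  irr : ∀ U : Subgroup G, U ≤ N → U ≠ ⊥ → Der B K ≤ normalizer (U : Set G) → N ≤ U
  nt : ¬ Der B K ≤ centralizer (N : Set G)
  dis : ∀ p ∈ P, MulAut.conj p • N = N ∨ Der B K ≤ centralizer ((MulAut.conj p • N : Subgroup G) : Set G)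
  gen : zl S P ≤ ⨆ p : P, MulAut.conj (p : G) • N

section main

variable [Finite G] {S : Sylow 2 G} {P V M F F' B s : Subgroup G}

theorem OutD.F'_le_V (o : OutD S P V M F F' B s) (hMV : M ≤ normalizer (V : Set G)) : F' ≤ V := by
  obtain ⟨m, hm, rfl⟩ := o.conj
  rw [← conj_eq_of_norm (hMV hm)]
  exact conj_le_iff.2 o.hyp.F_le_V

/-- `s` is centralised by `K`. -/
theorem OutD.cent_s (o : OutD S P V M F F' B s) (hMV : M ≤ normalizer (V : Set G)) (hPM : P ≤ M)
    (hSP : (S : Subgroup G) ≤ P)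
    (hLV : zl (S : Subgroup G) P ≤ V) (hs : Small V (Cls M F)) {N K : Subgroup G}
    (t : TyD (S : Subgroup G) P (WW V F) B N K) : K ≤ centralizer (s : Set G) := by
  obtain ⟨γ, c, hcP, rfl, htwo, hout, hfx⟩ := t.cells
  have hPV := hPM.trans hMV
  -- `conj a • F` is centralised by `conj a • W`
  have hFW : ∀ a ∈ P, MulAut.conj a • F ≤ centralizer ((MulAut.conj a • WW V F : Subgroup G) : Set G) := by
    intro a _
    rw [← conj_centralizer]
    exact conj_le_iff.2 (le_centralizer_iff.1 Hyp.W_le_X)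
  have hFW' : ∀ a ∈ P, V ⊓ centralizer ((MulAut.conj a • WW V F : Subgroup G) : Set G) ≤ MulAut.conj a • F := by
    intro a ha
    have h1 : V ⊓ centralizer (WW V F : Set G) = F := o.hyp.cent_VW
    have h2 : MulAut.conj a • (V ⊓ centralizer (WW V F : Set G)) = MulAut.conj a • F := by rw [h1]
    rw [← h2, Subgroup.smul_inf, conj_eq_of_norm (hPV ha), conj_centralizer]
  refine iSup_le fun i => iSup_le fun a => ?_
  obtain ⟨a, ha⟩ := a
  obtain ⟨C, hCL, hCB, hCA, hcard⟩ := hfx i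
  -- a fixed vector in `F'`
  obtain ⟨v, hv, hvC, hvF'⟩ : ∃ v, v ≠ 1 ∧ v ∈ C ∧ v ∈ F' := by
    by_contra hcon
    push Not at hcon
    have h1 : C ⊓ F' = ⊥ := by
      rw [eq_bot_iff]
      rintro x ⟨hx1, hx2⟩
      by_contra hx
      exact hcon x (fun h => hx (by rw [h]; exact one_mem _)) hx1 hx2
    have h2 : F'.relIndex C = Nat.card C := by
      rw [← inf_relIndex_right, inf_comm, h1, relIndex_bot_left]
    have h3 : F'.relIndex C ≤ F'.relIndex (V ⊓ centralizer (B : Set G)) :=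
      relIndex_le_of_le_right (le_inf (hCL.trans hLV) hCB) index_ne_zero_of_finite
    have h4 := o.idx
    omega
  have h5 : s ≤ MulAut.conj a • F := by
    have hF'c : F' ∈ Cls M F := o.conj
    refine cell hs hF'c o.ctr' (ι := c i) (fun a => MulAut.conj (a : G) • F)
      (fun a => MulAut.conj (a : G) • ⁅zl (S : Subgroup G) P, WW V F⁆) ?_ ?_ ?_ ?_ hv hvF' ?_ ⟨a, ha⟩
    · exact fun j => ⟨j, hPM (hcP i j j.2), rfl⟩
    · exact fun j => o.ctr.conj (hPV (hcP i j j.2))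
    · intro x y
      obtain ⟨d, hd, h6, h7⟩ := htwo i x x.2 y y.2
      exact ⟨⟨d, hd⟩, fun h8 => h6 (h8.trans (hFW d (hcP i d hd))), fun h8 => h7 (h8.trans (hFW y (hcP i y y.2)))⟩
    · obtain ⟨b, hb, h6⟩ := hout i
      refine ⟨⟨b, hb⟩, fun h8 => h6 ?_⟩
      refine le_trans (le_inf ?_ h8) o.BE
      have hbL : MulAut.conj b • zl (S : Subgroup G) P = zl (S : Subgroup G) P :=
        conj_eq_of_norm (Cfsg.Agent.MinSimple.VModule.le_normalizer_zl _ _ (hcP i b hb))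
      have h9 : ⁅zl (S : Subgroup G) P, WW V F⁆ ≤ zl (S : Subgroup G) P :=
        comm_le_left (o.WS.trans (hSP.trans (Cfsg.Agent.MinSimple.VModule.le_normalizer_zl _ _)))
      have h10 := conj_le_iff (g := b).2 h9
      rwa [hbL] at h10
    · exact fun j => hFW' j (hcP i j j.2) ⟨hLV (hCL hvC), hCA j j.2 hvC⟩
  exact le_centralizer_iff.1 (h5.trans (hFW a (hcP i a ha)))

end main

end Cfsg.Agent.Omega.NO3S.SFive
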