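import Cfsg.Agent.Omega.FFThmM
import Cfsg.Agent.Omega.NOne.NearFF

/-!
# GammaFF (S5): the commutator offender (LEMMA (A) of helper800, #23098)

`V` an elementary abelian 2-group, `B` and `a` normalise `V`, `[V, B, B] = 1`, `[V, a, a] = 1`, `[V, a, B] = 1`.  For
`b ∈ B` the commutator `[b, a]` acts on `V` as `v ↦ v [[v, b], a]`.  So, if every `b ∈ B ∖ C(V)` has some `[v, b]` which
is moved by `a`, and `|V : H| ≤ |B : C_B(V)|` for some `H ≤ V` with `[[H, B], a] = 1`, the group generated by the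
`[b, a]`, `b ∈ B`, is an offender on `V`.

* `Dat V B a` : the quadratic data;
* `Dat.cc` : `c v (b a b⁻¹ a⁻¹) = c (c v b) a`;
* **`Dat.exists_off`** : `∃ A ≤ B ⊔ zpowers a, OffM V A`;
* `Dat.exists_off_K`, `Dat.false_of_K` : the same with `|B : B ∩ K|`, `[V, b, a] ≠ 1` for `b ∈ B ∖ K`;
* `Dat.false_of`, **`Dat.false_of_D`** : impossible if `V` has no offender.
-/

set_option autoImplicit false

namespace Cfsg.Agent.Omega.NO3S.SFive.CommOff

open Subgroup Cfsg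
open Cfsg.Agent.Omega.NOne.NearFF (c c_def)
open Cfsg.Agent.Omega.FFThm (OffM ElemM)

universe u

variable {G : Type u} [Group G] {V B : Subgroup G} {a : G}

/-- The quadratic data. -/
structure Dat (V B : Subgroup G) (a : G) : Prop where
  sq : ∀ v ∈ V, v * v = 1
  comm : ∀ v ∈ V, ∀ w ∈ V, v * w = w * v
  BV : B ≤ normalizer (V : Set G)
  aV : a ∈ normalizer (V : Set G)
  qB : ∀ v ∈ V, ∀ b ∈ B, ∀ b' ∈ B, c (c v b) b' = 1
  qa : ∀ v ∈ V, c (c v a) a = 1
  aB : ∀ v ∈ V, ∀ b ∈ B, c (c v a) b = 1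

section basic

/-- `x v x⁻¹ = v [v, x]` -/
theorem cj_eq (sq : ∀ v ∈ V, v * v = 1) {x v : G}
    (hx : x ∈ normalizer (V : Set G)) (hv : v ∈ V) : x * v * x⁻¹ = v * c v x := by
  have h1 : x * v * x⁻¹ ∈ V := (mem_normalizer_iff.1 hx v).1 hv
  have h2 : (x * v * x⁻¹)⁻¹ = x * v * x⁻¹ := inv_eq_of_mul_eq_one_right (sq _ h1)
  have h3 : c v x = v * (x * v * x⁻¹) := by
    rw [← h2, c_def]; group
  rw [h3, ← mul_assoc, sq v hv, one_mul]

/-- `[v, x] = v (x v x⁻¹)` -/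
theorem c_eq (sq : ∀ v ∈ V, v * v = 1) {x v : G} (hx : x ∈ normalizer (V : Set G)) (hv : v ∈ V) :
    c v x = v * (x * v * x⁻¹) := by
  have h1 : x * v * x⁻¹ ∈ V := (mem_normalizer_iff.1 hx v).1 hv
  have h2 : (x * v * x⁻¹)⁻¹ = x * v * x⁻¹ := inv_eq_of_mul_eq_one_right (sq _ h1)
  rw [← h2, c_def]; group

theorem c_mem {x v : G} (hx : x ∈ normalizer (V : Set G)) (hv : v ∈ V) : c v x ∈ V := by
  have h1 : x * v * x⁻¹ ∈ V := (mem_normalizer_iff.1 hx v).1 hv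
  have h3 : c v x = v * (x * v * x⁻¹)⁻¹ := by rw [c_def]; group
  rw [h3]
  exact V.mul_mem hv (V.inv_mem h1)

theorem c_one_right (v : G) : c v 1 = 1 := by rw [c_def]; group

theorem c_one_left (x : G) : c 1 x = 1 := by rw [c_def]; group

theorem c_mul_left (sq : ∀ v ∈ V, v * v = 1) (comm : ∀ v ∈ V, ∀ w ∈ V, v * w = w * v) {x v w : G}
    (hx : x ∈ normalizer (V : Set G)) (hv : v ∈ V) (hw : w ∈ V) : c (v * w) x = c v x * c w x := by
  have h1 : x * v * x⁻¹ ∈ V := (mem_normalizer_iff.1 hx v).1 hv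
  have h2 : x * w * x⁻¹ ∈ V := (mem_normalizer_iff.1 hx w).1 hw
  rw [c_eq sq hx (V.mul_mem hv hw), c_eq sq hx hv, c_eq sq hx hw]
  have e : x * (v * w) * x⁻¹ = (x * v * x⁻¹) * (x * w * x⁻¹) := by group
  rw [e]
  calc v * w * (x * v * x⁻¹ * (x * w * x⁻¹)) = v * (w * (x * v * x⁻¹)) * (x * w * x⁻¹) := by group
    _ = v * ((x * v * x⁻¹) * w) * (x * w * x⁻¹) := by rw [comm w hw _ h1]
    _ = _ := by group

theorem c_mul_right (sq : ∀ v ∈ V, v * v = 1) {x y v : G}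
    (hx : x ∈ normalizer (V : Set G)) (hy : y ∈ normalizer (V : Set G)) (hv : v ∈ V) :
    c v (x * y) = c v x * c v y * c (c v y) x := by
  have hcy := c_mem hy hv
  have hcx := c_mem hx hv
  have h1 : x * y * v * (x * y)⁻¹ = v * (c v x * c v y * c (c v y) x) := by
    calc x * y * v * (x * y)⁻¹ = x * (y * v * y⁻¹) * x⁻¹ := by group
      _ = x * (v * c v y) * x⁻¹ := by rw [cj_eq sq hy hv]
      _ = (x * v * x⁻¹) * (x * c v y * x⁻¹) := by group
      _ = (v * c v x) * (c v y * c (c v y) x) := by rw [cj_eq sq hx hv, cj_eq sq hx hcy]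
      _ = _ := by group
  rw [c_eq sq (mul_mem hx hy) hv, h1, ← mul_assoc, sq v hv, one_mul]

theorem card_rel {H K : Subgroup G} (h : H ≤ K) : H.relIndex K * Nat.card H = Nat.card K := by
  rw [mul_comm, ← relIndex_bot_left, ← relIndex_bot_left]
  exact relIndex_mul_relIndex ⊥ H K bot_le h

/-- centralisers by commutators -/
theorem mem_cent {x : G} : x ∈ centralizer (V : Set G) ↔ ∀ v ∈ V, c v x = 1 := by
  rw [mem_centralizer_iff]
  constructor
  · intro h v hv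
    rw [c_def, h v hv]; group
  · intro h v hv
    have h1 := h v hv
    rw [c_def, mul_inv_eq_one, mul_inv_eq_iff_eq_mul] at h1
    exact h1

end basic

namespace Dat

variable (D : Dat V B a)
include D

theorem cj {x v : G} (hx : x ∈ normalizer (V : Set G)) (hv : v ∈ V) : x * v * x⁻¹ = v * c v x :=
  cj_eq D.sq hx hv

/-- `x` acts on `V` as `v ↦ v [[v, b], a]` -/
def Act (_ : Dat V B a) (x b : G) : Prop := x ∈ normalizer (V : Set G) ∧ ∀ v ∈ V, c v x = c (c v b) a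

/-- **`[v, [b, a]] = [[v, b], a]`** -/
theorem cc {b : G} (hb : b ∈ B) : D.Act (b * a * b⁻¹ * a⁻¹) b := by
  have hbV := D.BV hb
  have hxV : b * a * b⁻¹ * a⁻¹ ∈ normalizer (V : Set G) :=
    mul_mem (mul_mem (mul_mem hbV D.aV) (inv_mem hbV)) (inv_mem D.aV)
  refine ⟨hxV, fun v hv => ?_⟩
  -- `v = w ^ {(a b)}`
  have habV : a * b ∈ normalizer (V : Set G) := mul_mem D.aV hbV
  obtain ⟨w, hw, rfl⟩ : ∃ w ∈ V, v = (a * b) * w * (a * b)⁻¹ := by
    refine ⟨(a * b)⁻¹ * v * (a * b)⁻¹⁻¹, (mem_normalizer_iff.1 (inv_mem habV) v).1 hv, by group⟩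
  have hcb := c_mem hbV hw
  have hca := c_mem D.aV hw
  have hcba := c_mem D.aV hcb
  -- the action of `b a` and `a b`
  have h1 : c w (b * a) = c w b * c w a := by
    rw [c_mul_right D.sq hbV D.aV hw, D.aB w hw b hb, mul_one]
  have h2 : c w (a * b) = c w a * c w b * c (c w b) a := c_mul_right D.sq D.aV hbV hw
  have h3 : (a * b) * w * (a * b)⁻¹ = w * (c w a * c w b * c (c w b) a) := by rw [D.cj habV hw, h2]
  have h4 : c ((a * b) * w * (a * b)⁻¹) b = c w b := by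
    rw [h3, c_mul_left D.sq D.comm hbV hw (V.mul_mem (V.mul_mem hca hcb) hcba),
      c_mul_left D.sq D.comm hbV (V.mul_mem hca hcb) hcba, c_mul_left D.sq D.comm hbV hca hcb,
      D.aB w hw b hb, D.qB w hw b hb b hb, D.aB _ hcb b hb, one_mul, one_mul, mul_one]
  rw [h4, c_eq D.sq hxV hv]
  have h5 : b * a * b⁻¹ * a⁻¹ * (a * b * w * (a * b)⁻¹) * (b * a * b⁻¹ * a⁻¹)⁻¹ = b * a * w * (b * a)⁻¹ := by group
  rw [h5, D.cj (mul_mem hbV D.aV) hw, h1, h3]
  calc w * (c w a * c w b * c (c w b) a) * (w * (c w b * c w a))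
      = w * (c w a * c w b * c (c w b) a) * (c w b * c w a * w) := by
        rw [D.comm w hw _ (V.mul_mem hcb hca)]
    _ = w * (c w a * c w b) * (c (c w b) a * (c w b * c w a)) * w := by group
    _ = w * (c w a * c w b) * ((c w b * c w a) * c (c w b) a) * w := by
        rw [D.comm _ hcba _ (V.mul_mem hcb hca)]
    _ = w * (c w a * (c w b * c w b) * c w a) * c (c w b) a * w := by group
    _ = w * c (c w b) a * w := by rw [D.sq _ hcb, mul_one, D.sq _ hca, mul_one]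
    _ = c (c w b) a * w * w := by rw [D.comm w hw _ hcba]
    _ = c (c w b) a := by rw [mul_assoc, D.sq w hw, mul_one]

theorem Act.one : D.Act 1 1 := ⟨one_mem _, fun v _ => by rw [c_one_right, c_one_left]⟩

/-- the operators compose to zero -/
theorem zero {b b' v : G} (hb : b ∈ B) (hb' : b' ∈ B) (hv : v ∈ V) : c (c (c (c v b) a) b') a = 1 := by
  rw [D.aB _ (c_mem (D.BV hb) hv) b' hb', c_one_left]

theorem Act.mul {x y b b' : G} (hb : b ∈ B) (hb' : b' ∈ B) (h : D.Act x b) (h' : D.Act y b') :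
    D.Act (x * y) (b * b') := by
  refine ⟨mul_mem h.1 h'.1, fun v hv => ?_⟩
  have hbV := D.BV hb
  have hbV' := D.BV hb'
  rw [c_mul_right D.sq h.1 h'.1 hv, h.2 v hv, h'.2 v hv,
    h.2 _ (c_mem D.aV (c_mem hbV' hv)), D.zero hb' hb hv, mul_one,
    c_mul_right D.sq hbV hbV' hv, D.qB v hv b' hb' b hb, mul_one,
    c_mul_left D.sq D.comm D.aV (c_mem hbV hv) (c_mem hbV' hv)]

theorem Act.inv {x b : G} (hb : b ∈ B) (h : D.Act x b) : D.Act x⁻¹ b := by
  refine ⟨inv_mem h.1, fun v hv => ?_⟩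
  have hcx := c_mem h.1 hv
  have h0 : c (c v x) x = 1 := by
    rw [h.2 _ hcx, h.2 v hv, D.zero hb hb hv]
  have h1 : x * (v * c v x) * x⁻¹ = v := by
    calc x * (v * c v x) * x⁻¹ = (x * v * x⁻¹) * (x * c v x * x⁻¹) := by group
      _ = (v * c v x) * (c v x * c (c v x) x) := by rw [D.cj h.1 hv, D.cj h.1 hcx]
      _ = v * (c v x * c v x) := by rw [h0]; group
      _ = v := by rw [D.sq _ hcx, mul_one]
  have h2 : x⁻¹ * v * x⁻¹⁻¹ = v * c v x := by
    rw [inv_inv]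
    calc x⁻¹ * v * x = x⁻¹ * (x * (v * c v x) * x⁻¹) * x := by rw [h1]
      _ = _ := by group
  rw [c_eq D.sq (inv_mem h.1) hv, h2, ← mul_assoc, D.sq v hv, one_mul, h.2 v hv]

/-- the group of the commutators -/
def AA (_ : Dat V B a) : Subgroup G := closure {x | ∃ b ∈ B, x = b * a * b⁻¹ * a⁻¹}

theorem AA_le : D.AA ≤ B ⊔ zpowers a := by
  rw [AA, closure_le]
  rintro x ⟨b, hb, rfl⟩
  have h1 : b ∈ B ⊔ zpowers a := le_sup_left (a := B) hb
  have h2 : a ∈ B ⊔ zpowers a := le_sup_right (a := B) (mem_zpowers a)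
  exact mul_mem (mul_mem (mul_mem h1 h2) (inv_mem h1)) (inv_mem h2)

theorem mem_AA {b : G} (hb : b ∈ B) : b * a * b⁻¹ * a⁻¹ ∈ D.AA := subset_closure ⟨b, hb, rfl⟩

theorem exists_act {x : G} (hx : x ∈ D.AA) : ∃ b ∈ B, D.Act x b := by
  refine closure_induction (p := fun x _ => ∃ b ∈ B, D.Act x b) ?_ ?_ ?_ ?_ hx
  · rintro x ⟨b, hb, rfl⟩
    exact ⟨b, hb, D.cc hb⟩
  · exact ⟨1, one_mem _, Act.one D⟩
  · rintro x y _ _ ⟨b, hb, h⟩ ⟨b', hb', h'⟩
    exact ⟨b * b', mul_mem hb hb', Act.mul D hb hb' h h'⟩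
  · rintro x _ ⟨b, hb, h⟩
    exact ⟨b, hb, Act.inv D hb h⟩

theorem AA_norm : D.AA ≤ normalizer (V : Set G) := fun _ hx => (D.exists_act hx).choose_spec.2.1

theorem elemM : ElemM V D.AA where
  sq := fun x hx => by
    obtain ⟨b, hb, h⟩ := D.exists_act hx
    rw [mem_cent]
    intro v hv
    have hcx := c_mem h.1 hv
    rw [pow_two, c_mul_right D.sq h.1 h.1 hv, D.sq _ hcx, one_mul, h.2 _ hcx, h.2 v hv, D.zero hb hb hv]
  comm := fun x hx y hy => by
    obtain ⟨b, hb, h⟩ := D.exists_act hx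
    obtain ⟨b', hb', h'⟩ := D.exists_act hy
    -- `x y` and `y x` act in the same way
    have key : ∀ v ∈ V, x * y * v * (x * y)⁻¹ = y * x * v * (y * x)⁻¹ := by
      intro v hv
      rw [D.cj (mul_mem h.1 h'.1) hv, D.cj (mul_mem h'.1 h.1) hv, c_mul_right D.sq h.1 h'.1 hv,
        c_mul_right D.sq h'.1 h.1 hv, h.2 _ (c_mem h'.1 hv), h'.2 _ (c_mem h.1 hv), h'.2 v hv, h.2 v hv,
        D.zero hb' hb hv, D.zero hb hb' hv, D.comm _ (c_mem D.aV (c_mem (D.BV hb) hv)) _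
          (c_mem D.aV (c_mem (D.BV hb') hv))]
    have hyx : y * x ∈ normalizer (V : Set G) := mul_mem h'.1 h.1
    rw [mem_centralizer_iff]
    intro v hv
    obtain ⟨w, hw, rfl⟩ : ∃ w ∈ V, v = (y * x) * w * (y * x)⁻¹ :=
      ⟨(y * x)⁻¹ * v * (y * x)⁻¹⁻¹, (mem_normalizer_iff.1 (inv_mem hyx) v).1 hv, by group⟩
    have h1 := key w hw
    have h2 : x * y * x⁻¹ * y⁻¹ * (y * x * w * (y * x)⁻¹) * (x * y * x⁻¹ * y⁻¹)⁻¹ = y * x * w * (y * x)⁻¹ := by
      calc x * y * x⁻¹ * y⁻¹ * (y * x * w * (y * x)⁻¹) * (x * y * x⁻¹ * y⁻¹)⁻¹ = x * y * w * (x * y)⁻¹ := by group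
        _ = _ := h1
    rw [mul_inv_eq_iff_eq_mul] at h2
    exact h2.symm

/-- `|B : B ∩ K| ≤ |A : C_A(V)|` if `a` moves `[V, b]` for `b ∈ B ∖ K` -/
theorem relIndex_le_K [Finite G] {K : Subgroup G} (mv : ∀ b ∈ B, b ∉ K → ∃ v ∈ V, c (c v b) a ≠ 1) :
    K.relIndex B ≤ (centralizer (V : Set G)).relIndex D.AA := by
  set C := centralizer (V : Set G) with hC
  let f : B ⧸ K.subgroupOf B → D.AA ⧸ C.subgroupOf D.AA := fun q =>
    QuotientGroup.mk ⟨(q.out : G) * a * (q.out : G)⁻¹ * a⁻¹, D.mem_AA q.out.2⟩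
  have hf : Function.Injective f := by
    intro q q' h
    have h1 := QuotientGroup.eq.1 h
    rw [mem_subgroupOf] at h1
    simp only [Subgroup.coe_mul, Subgroup.coe_inv] at h1
    set b : G := (q.out : G) with hb
    set b' : G := (q'.out : G) with hb'
    have hbB : b ∈ B := q.out.2
    have hbB' : b' ∈ B := q'.out.2
    have h2 : D.Act ((b * a * b⁻¹ * a⁻¹)⁻¹ * (b' * a * b'⁻¹ * a⁻¹)) (b * b') :=
      Act.mul D hbB hbB' (Act.inv D hbB (D.cc hbB)) (D.cc hbB')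
    have h3 : b * b' ∈ K := by
      by_contra hcon
      obtain ⟨v, hv, hne⟩ := mv _ (mul_mem hbB hbB') hcon
      apply hne
      rw [← h2.2 v hv]
      exact mem_cent.1 h1 v hv
    have h4 : b * b ∈ K := by
      by_contra hcon
      obtain ⟨v, hv, hne⟩ := mv _ (mul_mem hbB hbB) hcon
      apply hne
      have h5 : c v (b * b) = 1 := by
        rw [c_mul_right D.sq (D.BV hbB) (D.BV hbB) hv, D.sq _ (c_mem (D.BV hbB) hv), one_mul,
          D.qB v hv b hbB b hbB]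
      rw [h5, c_one_left]
    have h5 : b⁻¹ * b' ∈ K := by
      have h6 : b⁻¹ * b' = (b * b)⁻¹ * (b * b') := by group
      rw [h6]
      exact mul_mem (inv_mem h4) h3
    have h7 : (QuotientGroup.mk q.out : B ⧸ K.subgroupOf B) = QuotientGroup.mk q'.out := by
      rw [QuotientGroup.eq, mem_subgroupOf]
      exact h5
    rwa [QuotientGroup.out_eq', QuotientGroup.out_eq'] at h7
  exact Nat.card_le_card_of_injective f hf

/-- `|B : C_B(V)| ≤ |A : C_A(V)|` if `a` moves `[V, b]` for `b ∈ B ∖ C(V)` -/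
theorem relIndex_le [Finite G] (mv : ∀ b ∈ B, b ∉ centralizer (V : Set G) → ∃ v ∈ V, c (c v b) a ≠ 1) :
    (centralizer (V : Set G)).relIndex B ≤ (centralizer (V : Set G)).relIndex D.AA := D.relIndex_le_K mv

/-- **LEMMA (A)**: the commutator offender; `K` = the elements `b` with `[V, b, a] = 1`. -/
theorem exists_off_K [Finite G] {K : Subgroup G} (mv : ∀ b ∈ B, b ∉ K → ∃ v ∈ V, c (c v b) a ≠ 1)
    (ne : ¬ B ≤ K) {H : Subgroup G} (hHV : H ≤ V)
    (hH : ∀ h ∈ H, ∀ b ∈ B, c (c h b) a = 1)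
    (hcard : H.relIndex V ≤ K.relIndex B) : ∃ A ≤ B ⊔ zpowers a, OffM V A := by
  refine ⟨D.AA, D.AA_le, D.elemM, ?_, ?_⟩
  · intro hcon
    obtain ⟨b, hb, hbc⟩ := SetLike.not_le_iff_exists.1 ne
    obtain ⟨v, hv, hne⟩ := mv b hb hbc
    apply hne
    rw [← (D.cc hb).2 v hv]
    exact mem_cent.1 (hcon (D.mem_AA hb)) v hv
  · have h1 : H ≤ V ⊓ centralizer (D.AA : Set G) := by
      intro h hh
      refine ⟨hHV hh, mem_centralizer_iff.2 ?_⟩
      intro x hx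
      obtain ⟨b, hb, hact⟩ := D.exists_act hx
      have h2 := hact.2 h (hHV hh)
      rw [hH h hh b hb, c_def, mul_inv_eq_one, mul_inv_eq_iff_eq_mul] at h2
      exact h2.symm
    have h2 := D.relIndex_le_K mv
    have h3 : H.relIndex V * Nat.card H = Nat.card V := card_rel hHV
    have h4 : (centralizer (V : Set G)).relIndex D.AA * Nat.card ↥(D.AA ⊓ centralizer (V : Set G)) =
        Nat.card D.AA := by
      rw [← inf_relIndex_left]
      exact card_rel inf_le_left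
    have h5 : Nat.card H ≤ Nat.card ↥(V ⊓ centralizer (D.AA : Set G)) := by
      exact Nat.card_le_card_of_injective (inclusion h1) (inclusion_injective h1)
    calc Nat.card V * Nat.card ↥(D.AA ⊓ centralizer (V : Set G))
        = H.relIndex V * Nat.card H * Nat.card ↥(D.AA ⊓ centralizer (V : Set G)) := by rw [h3]
      _ ≤ (centralizer (V : Set G)).relIndex D.AA * Nat.card ↥(V ⊓ centralizer (D.AA : Set G)) *
          Nat.card ↥(D.AA ⊓ centralizer (V : Set G)) :=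
        Nat.mul_le_mul_right _ (Nat.mul_le_mul (hcard.trans h2) h5)
      _ = (centralizer (V : Set G)).relIndex D.AA * Nat.card ↥(D.AA ⊓ centralizer (V : Set G)) *
          Nat.card ↥(V ⊓ centralizer (D.AA : Set G)) := by ring
      _ = _ := by rw [h4]

/-- **LEMMA (A)**: the commutator offender. -/
theorem exists_off [Finite G] (mv : ∀ b ∈ B, b ∉ centralizer (V : Set G) → ∃ v ∈ V, c (c v b) a ≠ 1)
    (ne : ¬ B ≤ centralizer (V : Set G)) {H : Subgroup G} (hHV : H ≤ V)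
    (hH : ∀ h ∈ H, ∀ b ∈ B, c (c h b) a = 1)
    (hcard : H.relIndex V ≤ (centralizer (V : Set G)).relIndex B) : ∃ A ≤ B ⊔ zpowers a, OffM V A :=
  D.exists_off_K mv ne hHV hH hcard

/-- **LEMMA (A)** for a `V` without offender, with `K`. -/
theorem false_of_K [Finite G] (noOff : ∀ A ≤ normalizer (V : Set G), ¬ OffM V A) {K : Subgroup G}
    (mv : ∀ b ∈ B, b ∉ K → ∃ v ∈ V, c (c v b) a ≠ 1) (ne : ¬ B ≤ K) {H : Subgroup G} (hHV : H ≤ V)
    (hH : ∀ h ∈ H, ∀ b ∈ B, c (c h b) a = 1) (hcard : H.relIndex V ≤ K.relIndex B) : False := by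
  obtain ⟨A, hA, hoff⟩ := D.exists_off_K mv ne hHV hH hcard
  exact noOff A (hA.trans (sup_le D.BV (by rw [zpowers_le]; exact D.aV))) hoff

/-- **LEMMA (A)** for a `V` without offender. -/
theorem false_of [Finite G] (noOff : ∀ A ≤ normalizer (V : Set G), ¬ OffM V A)
    (mv : ∀ b ∈ B, b ∉ centralizer (V : Set G) → ∃ v ∈ V, c (c v b) a ≠ 1)
    (ne : ¬ B ≤ centralizer (V : Set G)) {H : Subgroup G} (hHV : H ≤ V)
    (hH : ∀ h ∈ H, ∀ b ∈ B, c (c h b) a = 1)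
    (hcard : H.relIndex V ≤ (centralizer (V : Set G)).relIndex B) : False :=
  D.false_of_K noOff mv ne hHV hH hcard

/-- **LEMMA (A)** in the notation of #23098: `[V, b] ≥ D₁` for all `b ∈ B ∖ C(V)`, `a` moves `d₀ ∈ D₁`, `a` centralises
`δ ≥ [H, B]` and `|V : H| ≤ |B : C_B(V)|`. -/
theorem false_of_D [Finite G] (noOff : ∀ A ≤ normalizer (V : Set G), ¬ OffM V A) {D₁ δ H : Subgroup G} {d₀ : G}
    (hD : ∀ b ∈ B, b ∉ centralizer (V : Set G) → ∀ d ∈ D₁, ∃ v ∈ V, c v b = d) (h₀ : d₀ ∈ D₁) (h₀a : c d₀ a ≠ 1)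
    (hδ : ∀ d ∈ δ, c d a = 1) (ne : ¬ B ≤ centralizer (V : Set G)) (hHV : H ≤ V)
    (hH : ∀ h ∈ H, ∀ b ∈ B, c h b ∈ δ)
    (hcard : H.relIndex V ≤ (centralizer (V : Set G)).relIndex B) : False := by
  refine D.false_of noOff ?_ ne hHV (fun h hh b hb => hδ _ (hH h hh b hb)) hcard
  intro b hb hbc
  obtain ⟨v, hv, rfl⟩ := hD b hb hbc _ h₀
  exact ⟨v, hv, h₀a⟩

end Dat

end Cfsg.Agent.Omega.NO3S.SFive.CommOff
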