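import Cfsg.Agent.Omega.NO3S.SFive.PB
import Cfsg.Agent.Omega.NoFF.Basic

/-!
# GammaFF, (S5): LEMMA (PB) of helper422 #22571 (5), one-block form

`P` acts on `V ≥ L`, `L` is generated by the `P`-conjugates of the block `N`, `D ≤ P` acts on `V` with `[V, D] ≤ L`,
irreducibly on `N`, trivially on the other blocks:

* **`pbN`** : no offender of `P` on `V`, `C_V(Q) ≤ L`, `Q ⊴ P` centralises `L` ⟹ `V ≤ L`.
-/

set_option autoImplicit false
set_option linter.unusedSectionVars false

namespace Cfsg.Agent.Omega.NO3S.SFive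

open Subgroup Cfsg
open Cfsg.Agent.Omega.FFThm
open Cfsg.Agent.Omega.NoFF.Basic (mem_conj conj_conj)
open scoped Pointwise commutatorElement

universe u

variable {G : Type u} [Group G]

theorem conj_smul_eq {g : G} {U : Subgroup G} (hg : g ∈ normalizer (U : Set G)) : MulAut.conj g • U = U := by
  ext x
  rw [mem_conj]
  have h := mem_normalizer_iff.mp hg (g⁻¹ * x * g)
  rw [h]
  simp [mul_assoc]

theorem le_normalizer_of' {K U : Subgroup G} (h : ∀ k ∈ K, ∀ u ∈ U, k * u * k⁻¹ ∈ U) :
    K ≤ normalizer (U : Set G) := by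
  intro k hk
  rw [mem_normalizer_iff]
  intro v
  refine ⟨fun hv => h k hk v hv, fun hv => ?_⟩
  have h1 := h k⁻¹ (inv_mem hk) _ hv
  have h2 : k⁻¹ * (k * v * k⁻¹) * k⁻¹⁻¹ = v := by group
  rwa [h2] at h1

section abs

variable {V L P Q D N : Subgroup G}

/-- `ph v r = 1` iff `r` and `v` commute -/
theorem ph_eq_one {v b : G} : ph v b = 1 ↔ b * v = v * b := by
  simp only [ph]
  rw [mul_inv_eq_one, mul_inv_eq_iff_eq_mul]

/-- the elements of `P` acting trivially on `V / L` -/
def trv (hPL : P ≤ normalizer (L : Set G)) (V : Subgroup G) : Subgroup G where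
  carrier := {r | r ∈ P ∧ ∀ v ∈ V, ph v r ∈ L}
  one_mem' := ⟨one_mem _, fun v _ => by simp [ph]⟩
  mul_mem' := by
    rintro a b ⟨ha, ha1⟩ ⟨hb, hb1⟩
    refine ⟨mul_mem ha hb, fun v hv => ?_⟩
    have e : ph v (a * b) = (a * ph v b * a⁻¹) * ph v a := by simp only [ph]; group
    rw [e]
    exact mul_mem ((mem_normalizer_iff.1 (hPL ha) _).1 (hb1 v hv)) (ha1 v hv)
  inv_mem' := by
    rintro a ⟨ha, ha1⟩
    refine ⟨inv_mem ha, fun v hv => ?_⟩
    have e : ph v a⁻¹ = a⁻¹ * (ph v a)⁻¹ * a⁻¹⁻¹ := by simp only [ph]; group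
    rw [e]
    exact (mem_normalizer_iff.1 (inv_mem (hPL ha)) _).1 (inv_mem (ha1 v hv))

/-- `[L, D] ≤ N` -/
theorem comm_mem_of (hVc : V ≤ centralizer (V : Set G)) (hPV : P ≤ normalizer (V : Set G))
    (hDP : D ≤ P) (hL : L ≤ ⨆ p : P, MulAut.conj (p : G) • N) (hNV : ∀ p ∈ P, MulAut.conj p • N ≤ V)
    (hDN : D ≤ normalizer (N : Set G))
    (dis : ∀ p ∈ P, MulAut.conj p • N = N ∨ D ≤ centralizer ((MulAut.conj p • N : Subgroup G) : Set G))
    {d : G} (hd : d ∈ D) {x : G} (hx : x ∈ L) : ph x d ∈ N := by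
  let T : Subgroup G :=
    { carrier := {x | x ∈ V ∧ ph x d ∈ N}
      one_mem' := ⟨one_mem _, by simp [ph]⟩
      mul_mem' := by
        rintro a b ⟨ha, ha1⟩ ⟨hb, hb1⟩
        refine ⟨mul_mem ha hb, ?_⟩
        have hbV : ph b d ∈ V := mul_mem ((mem_normalizer_iff.1 (hPV (hDP hd)) b).1 hb) (inv_mem hb)
        rw [ph_mul_left ha hbV hVc]
        exact mul_mem ha1 hb1
      inv_mem' := by
        rintro a ⟨ha, ha1⟩
        refine ⟨inv_mem ha, ?_⟩
        have hbV : ph a⁻¹ d ∈ V :=
          mul_mem ((mem_normalizer_iff.1 (hPV (hDP hd)) _).1 (inv_mem ha)) (inv_mem (inv_mem ha))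
        have h1 := ph_mul_left ha hbV hVc
        rw [mul_inv_cancel] at h1
        have h2 : ph (1 : G) d = 1 := by simp [ph]
        rw [h2] at h1
        rw [← inv_eq_of_mul_eq_one_right h1.symm]
        exact inv_mem ha1 }
  have h1 : L ≤ T := by
    refine hL.trans (iSup_le fun p y hy => ⟨hNV p p.2 hy, ?_⟩)
    rcases dis p p.2 with h2 | h2
    · rw [h2] at hy
      exact mul_mem ((mem_normalizer_iff.1 (hDN hd) y).1 hy) (inv_mem hy)
    · have h3 : ph y d = 1 := ph_eq_one.2 (mem_centralizer_iff.1 (h2 hd) y hy).symm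
      rw [h3]
      exact one_mem _
  exact (h1 hx).2

/-- **LEMMA (PB)**, one-block form -/
theorem pbN [Finite G] (hVc : V ≤ centralizer (V : Set G)) (hVsq : ∀ v ∈ V, v ^ 2 = 1)
    (hPV : P ≤ normalizer (V : Set G)) (hPL : P ≤ normalizer (L : Set G)) (hLV : L ≤ V) (hQP : Q ≤ P)
    (hQL : Q ≤ centralizer (L : Set G)) (hVQ : V ⊓ centralizer (Q : Set G) ≤ L) (hDP : D ≤ P) (hNL : N ≤ L)
    (hL : L ≤ ⨆ p : P, MulAut.conj (p : G) • N)
    (irr : ∀ U ≤ N, U ≠ ⊥ → D ≤ normalizer (U : Set G) → N ≤ U) (hDN : D ≤ normalizer (N : Set G))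
    (hne : ¬ D ≤ centralizer (N : Set G))
    (dis : ∀ p ∈ P, MulAut.conj p • N = N ∨ D ≤ centralizer ((MulAut.conj p • N : Subgroup G) : Set G))
    (hVD : ⁅V, D⁆ ≤ L) (fix : ∀ U ≤ V, U ≠ ⊥ → P ≤ normalizer (U : Set G) → U ⊓ L ≠ ⊥)
    (noOff : ∀ A ≤ P, ¬ OffM V A) : V ≤ L := by
  set R : Subgroup G := ⨆ p : P, MulAut.conj (p : G) • D with hR
  have hDR : ∀ p : P, MulAut.conj (p : G) • D ≤ R := fun p => le_iSup (fun p : P => MulAut.conj (p : G) • D) p
  have hcL : ∀ p ∈ P, ∀ x ∈ L, p * x * p⁻¹ ∈ L := fun p hp x hx => (mem_normalizer_iff.1 (hPL hp) x).1 hx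
  have hcL' : ∀ p ∈ P, ∀ x ∈ L, p⁻¹ * x * p ∈ L := fun p hp x hx => by
    have := hcL p⁻¹ (inv_mem hp) x hx
    rwa [inv_inv] at this
  have hcV : ∀ p ∈ P, ∀ x ∈ V, p * x * p⁻¹ ∈ V := fun p hp x hx => (mem_normalizer_iff.1 (hPV hp) x).1 hx
  have hcV' : ∀ p ∈ P, ∀ x ∈ V, p⁻¹ * x * p ∈ V := fun p hp x hx => by
    have := hcV p⁻¹ (inv_mem hp) x hx
    rwa [inv_inv] at this
  have hNLp : ∀ p ∈ P, MulAut.conj p • N ≤ L := by
    intro p hp x hx
    rw [mem_conj] at hx
    have h1 := hcL p hp _ (hNL hx)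
    have e : p * (p⁻¹ * x * p) * p⁻¹ = x := by group
    rwa [e] at h1
  have hNV : ∀ p ∈ P, MulAut.conj p • N ≤ V := fun p hp => (hNLp p hp).trans hLV
  have hRT : R ≤ trv hPL V := by
    refine iSup_le fun p x hx => ?_
    rw [mem_conj] at hx
    have hxP : x ∈ P := by
      have h1 := mul_mem (mul_mem p.2 (hDP hx)) (inv_mem p.2)
      have e : (p : G) * ((p : G)⁻¹ * x * p) * (p : G)⁻¹ = x := by group
      rwa [e] at h1
    refine ⟨hxP, fun v hv => ?_⟩
    have h1 : ph ((p : G)⁻¹ * v * p) ((p : G)⁻¹ * x * p) ∈ L := by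
      have h2 : ⁅(p : G)⁻¹ * v * p, (p : G)⁻¹ * x * p⁆ ∈ L :=
        hVD (commutator_mem_commutator (hcV' p p.2 v hv) hx)
      have h3 := inv_mem h2
      rw [commutatorElement_inv] at h3
      exact h3
    have h2 := hcL p p.2 _ h1
    have e : (p : G) * ph ((p : G)⁻¹ * v * p) ((p : G)⁻¹ * x * p) * (p : G)⁻¹ = ph v x := by
      simp only [ph]; group
    rwa [e] at h2
  have hRP : R ≤ P := fun r hr => (hRT hr).1
  have hRV : R ≤ normalizer (V : Set G) := hRP.trans hPV
  have hRL : ∀ r ∈ R, ∀ v ∈ V, ph v r ∈ L := fun r hr => (hRT hr).2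
  have hPR : P ≤ normalizer (R : Set G) := by
    refine le_normalizer_of' fun p hp r hr => ?_
    have h1 : R ≤ R.comap (MulAut.conj p).toMonoidHom := by
      refine iSup_le fun p' x hx => ?_
      refine hDR (⟨p, hp⟩ * p') ?_
      change p * x * p⁻¹ ∈ _
      rw [mem_conj] at hx ⊢
      have e : ((⟨p, hp⟩ * p' : P) : G)⁻¹ * (p * x * p⁻¹) * ((⟨p, hp⟩ * p' : P) : G) = (p' : G)⁻¹ * x * p' := by
        change (p * (p' : G))⁻¹ * (p * x * p⁻¹) * (p * (p' : G)) = _
        group
      rwa [e]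
    exact h1 hr
  -- `[L, D^p] ≤ N^p`
  have hLi : ∀ p : P, ∀ r ∈ MulAut.conj (p : G) • D, ∀ x ∈ L, ph x r ∈ MulAut.conj (p : G) • N := by
    intro p r hr x hx
    rw [mem_conj] at hr ⊢
    have h1 := comm_mem_of hVc hPV hDP hL hNV hDN dis hr (hcL' p p.2 x hx)
    have e : (p : G)⁻¹ * ph x r * p = ph ((p : G)⁻¹ * x * p) ((p : G)⁻¹ * r * p) := by
      simp only [ph]; group
    rwa [e]
  have hirr : ∀ p : P, ∀ X ≤ MulAut.conj (p : G) • N, MulAut.conj (p : G) • D ≤ normalizer (X : Set G) →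
      X = ⊥ ∨ X = MulAut.conj (p : G) • N := by
    intro p X hX hn
    by_cases hX1 : X = ⊥
    · exact Or.inl hX1
    refine Or.inr (le_antisymm hX ?_)
    set U : Subgroup G := MulAut.conj (p : G)⁻¹ • X with hU
    have hmem : ∀ x, x ∈ U ↔ (p : G) * x * (p : G)⁻¹ ∈ X := by
      intro x
      rw [hU, mem_conj, inv_inv]
    have hUN : U ≤ N := by
      intro x hx
      have h1 := hX ((hmem x).1 hx)
      rw [mem_conj] at h1
      have e : (p : G)⁻¹ * ((p : G) * x * (p : G)⁻¹) * p = x := by group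
      rwa [e] at h1
    have hU1 : U ≠ ⊥ := by
      intro h1
      apply hX1
      rw [eq_bot_iff]
      intro x hx
      have h2 : (p : G)⁻¹ * x * p ∈ U := by
        rw [hmem]
        have e : (p : G) * ((p : G)⁻¹ * x * p) * (p : G)⁻¹ = x := by group
        rwa [e]
      rw [h1, mem_bot] at h2
      rw [mem_bot]
      have e : x = (p : G) * ((p : G)⁻¹ * x * p) * (p : G)⁻¹ := by group
      rw [e, h2]
      group
    have hDU : D ≤ normalizer (U : Set G) := by
      refine le_normalizer_of' fun d hd u hu => ?_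
      rw [hmem] at hu ⊢
      have h1 : (p : G) * d * (p : G)⁻¹ ∈ MulAut.conj (p : G) • D := by
        rw [mem_conj]
        have e : (p : G)⁻¹ * ((p : G) * d * (p : G)⁻¹) * p = d := by group
        rwa [e]
      have h2 := (mem_normalizer_iff.1 (hn h1) _).1 hu
      have e : (p : G) * (d * u * d⁻¹) * (p : G)⁻¹ =
          (p : G) * d * (p : G)⁻¹ * ((p : G) * u * (p : G)⁻¹) * ((p : G) * d * (p : G)⁻¹)⁻¹ := by group
      rwa [e]
    intro x hx
    rw [mem_conj] at hx
    have h1 := (hmem _).1 (irr U hUN hU1 hDU hx)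
    have e : (p : G) * ((p : G)⁻¹ * x * p) * (p : G)⁻¹ = x := by group
    rwa [e] at h1
  -- `D^p` centralises the other blocks
  have hdis : ∀ p p' : P, MulAut.conj (p' : G) • N = MulAut.conj (p : G) • N ∨
      ∀ d ∈ MulAut.conj (p : G) • D, ∀ x ∈ MulAut.conj (p' : G) • N, d * x = x * d := by
    intro p p'
    rcases dis ((p : G)⁻¹ * p') (mul_mem (inv_mem p.2) p'.2) with h1 | h1
    · left
      have h2 := congrArg (fun X : Subgroup G => MulAut.conj (p : G) • X) h1
      simp only [conj_conj] at h2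
      rwa [mul_inv_cancel_left] at h2
    · right
      intro d hd x hx
      rw [mem_conj] at hd hx
      have h2 : (p : G)⁻¹ * x * p ∈ MulAut.conj ((p : G)⁻¹ * p') • N := by
        rw [mem_conj]
        have e : ((p : G)⁻¹ * p')⁻¹ * ((p : G)⁻¹ * x * p) * ((p : G)⁻¹ * p') = (p' : G)⁻¹ * x * p' := by group
        rwa [e]
      have h3 := mem_centralizer_iff.1 (h1 hd) _ h2
      calc d * x = (p : G) * ((p : G)⁻¹ * d * p * ((p : G)⁻¹ * x * p)) * (p : G)⁻¹ := by group
        _ = (p : G) * ((p : G)⁻¹ * x * p * ((p : G)⁻¹ * d * p)) * (p : G)⁻¹ := by rw [h3]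
        _ = x * d := by group
  -- `D^p` has no fixed points on `N^p`
  have hnofix : ∀ p : P, ∀ x ∈ MulAut.conj (p : G) • N, (∀ d ∈ MulAut.conj (p : G) • D, d * x = x * d) → x = 1 := by
    intro p x hx hxd
    set X : Subgroup G := MulAut.conj (p : G) • N ⊓ centralizer ((MulAut.conj (p : G) • D : Subgroup G) : Set G) with hX
    have hn : MulAut.conj (p : G) • D ≤ normalizer (X : Set G) := by
      refine le_normalizer_of' fun d hd y hy => ?_
      obtain ⟨hy1, hy2⟩ := mem_inf.1 hy
      have h1 := mem_centralizer_iff.1 hy2 d hd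
      rw [h1, mul_inv_cancel_right]
      exact hy
    rcases hirr p X inf_le_left hn with h1 | h1
    · have h2 : x ∈ X := mem_inf.2 ⟨hx, mem_centralizer_iff.2 hxd⟩
      rwa [h1, mem_bot] at h2
    · exfalso
      apply hne
      intro d hd
      rw [mem_centralizer_iff]
      intro n hn
      have h2 : (p : G) * n * (p : G)⁻¹ ∈ MulAut.conj (p : G) • N := by
        rw [mem_conj]
        have e : (p : G)⁻¹ * ((p : G) * n * (p : G)⁻¹) * p = n := by group
        rwa [e]
      have h3 : (p : G) * d * (p : G)⁻¹ ∈ MulAut.conj (p : G) • D := by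
        rw [mem_conj]
        have e : (p : G)⁻¹ * ((p : G) * d * (p : G)⁻¹) * p = d := by group
        rwa [e]
      rw [← h1] at h2
      have h4 := mem_centralizer_iff.1 (mem_inf.1 h2).2 _ h3
      calc n * d = (p : G)⁻¹ * ((p : G) * n * (p : G)⁻¹ * ((p : G) * d * (p : G)⁻¹)) * p := by group
        _ = (p : G)⁻¹ * ((p : G) * d * (p : G)⁻¹ * ((p : G) * n * (p : G)⁻¹)) * p := by rw [h4]
        _ = d * n := by group
  have hfixL : ∀ x ∈ L, (∀ p : P, ∀ r ∈ MulAut.conj (p : G) • D, r * x = x * r) → x = 1 := by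
    classical
    have := Fintype.ofFinite P
    have key : ∀ s : Finset P, ∀ x ∈ (⨆ p ∈ s, MulAut.conj (p : G) • N : Subgroup G),
        (∀ p : P, ∀ r ∈ MulAut.conj (p : G) • D, r * x = x * r) → x = 1 := by
      intro s
      induction s using Finset.induction_on with
      | empty =>
        intro x hx _
        simpa using hx
      | insert p s hp ih =>
        intro x hx hxr
        rw [Finset.iSup_insert] at hx
        by_cases hex : ∃ p' ∈ s, MulAut.conj (p' : G) • N = MulAut.conj (p : G) • N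
        · obtain ⟨p', hp', h1⟩ := hex
          refine ih x ?_ hxr
          have h2 : MulAut.conj (p : G) • N ≤ (⨆ p ∈ s, MulAut.conj (p : G) • N : Subgroup G) := by
            rw [← h1]
            exact le_iSup₂_of_le (f := fun (p : P) (_ : p ∈ s) => MulAut.conj (p : G) • N) p' hp' le_rfl
          rwa [sup_eq_right.2 h2] at hx
        · push Not at hex
          set Y : Subgroup G := ⨆ p ∈ s, MulAut.conj (p : G) • N with hY
          have hYV : Y ≤ V := iSup₂_le fun p' _ => hNV p' p'.2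
          have hnorm : MulAut.conj (p : G) • N ≤ normalizer (Y : Set G) := by
            refine le_normalizer_of' fun n hn y hy => ?_
            rw [vcomm hVc (hNV p p.2 hn) (hYV hy), mul_inv_cancel_right]
            exact hy
          have hx' : x ∈ ((MulAut.conj (p : G) • N : Subgroup G) : Set G) * (Y : Set G) := by
            rw [← coe_mul_of_left_le_normalizer_right _ _ hnorm]
            exact hx
          obtain ⟨b, hb, y, hy, rfl⟩ := Set.mem_mul.1 hx'
          -- `D^p` centralises `y`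
          have hyd : ∀ d ∈ MulAut.conj (p : G) • D, d * y = y * d := by
            intro d hd
            have h1 : Y ≤ centralizer ({d} : Set G) := by
              refine iSup₂_le fun p' hp' z hz => ?_
              rw [mem_centralizer_singleton_iff]
              exact (((hdis p p').resolve_left (hex p' hp')) d hd z hz).symm
            exact (mem_centralizer_singleton_iff.1 (h1 hy)).symm
          have hb1 : b = 1 := by
            refine hnofix p b hb fun d hd => ?_
            have h1 := hxr p d hd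
            have h2 := hyd d hd
            have h3 : d * b * y = b * d * y := by
              calc d * b * y = d * (b * y) := by group
                _ = b * y * d := h1
                _ = b * (y * d) := by group
                _ = b * (d * y) := by rw [h2]
                _ = b * d * y := by group
            exact mul_right_cancel h3
          subst hb1
          rw [one_mul] at hxr ⊢
          exact ih y hy hxr
    intro x hx hxr
    refine key Finset.univ x ?_ hxr
    simpa using hL hx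
  have hLR : L ⊓ centralizer (R : Set G) = ⊥ := by
    rw [eq_bot_iff]
    intro x hx
    obtain ⟨h1, h2⟩ := mem_inf.1 hx
    rw [mem_bot]
    exact hfixL x h1 fun p r hr => mem_centralizer_iff.1 h2 r (hDR p hr)
  have hVR : V ⊓ centralizer (R : Set G) = ⊥ := by
    by_contra h1
    refine fix _ inf_le_left h1 ?_ ?_
    · refine le_normalizer_of' fun p hp x hx => ?_
      obtain ⟨h2, h3⟩ := mem_inf.1 hx
      refine mem_inf.2 ⟨hcV p hp x h2, mem_centralizer_iff.2 fun r hr => ?_⟩
      have h4 := (mem_normalizer_iff.1 (inv_mem (hPR hp)) r).1 hr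
      rw [inv_inv] at h4
      have h5 := mem_centralizer_iff.1 h3 _ h4
      calc r * (p * x * p⁻¹) = p * (p⁻¹ * r * p * x) * p⁻¹ := by group
        _ = p * (x * (p⁻¹ * r * p)) * p⁻¹ := by rw [h5]
        _ = _ := by group
    · rw [eq_bot_iff, ← hLR]
      exact le_inf inf_le_right (inf_le_left.trans inf_le_right)
  have hQV := pb hVc hLV hRV hRL hVsq (fun A hA => noOff A (hA.trans hRP)) hDR (fun p => hNLp p p.2) hLi hirr hfixL hVR
    (hQP.trans hPV) hQL (hQP.trans hPR)
  exact fun v hv => hVQ (mem_inf.2 ⟨hv, Subgroup.le_centralizer_iff.1 hQV hv⟩)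

end abs

end Cfsg.Agent.Omega.NO3S.SFive
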