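import Cfsg.Agent.Omega.NO3S.SFive.Lam
import Cfsg.Agent.Omega.NO3S.SFive.PBN

/-!
# GammaFF (S5): the end (#22571 (4), (5))

`OutD.false` : `OutD` (the output of #22081), `TyD` (the type data), `Small V (Cls M F)` and the frame ⟹ `False`.
-/

set_option autoImplicit false
set_option linter.unusedSectionVars false

namespace Cfsg.Agent.Omega.NO3S.SFive

open Subgroup Cfsg Cfsg.Agent.ZN
open Cfsg.Agent.Omega.NOne.Flat (Hyp EE WW)
open Cfsg.Agent.Omega.FFThm (OffM)
open Cfsg.Agent.Omega.NoFF.Basic (conj_conj mem_conj conj_le_iff)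
open scoped Pointwise commutatorElement

universe u

variable {G : Type u} [Group G] [Finite G] {S : Sylow 2 G} {P V M F F' B s N K : Subgroup G}

/-- A nontrivial `S`-invariant subgroup of `V ≤ S` meets `Ω₁(Z(S))`. -/
theorem exists_fix {U : Subgroup G} (hU : U ≤ (S : Subgroup G)) (hsq : ∀ v ∈ U, v ^ 2 = 1) (hne : U ≠ ⊥)
    (hn : (S : Subgroup G) ≤ normalizer (U : Set G)) : U ⊓ zc (S : Subgroup G) ≠ ⊥ := by
  obtain ⟨x, hx, hx1, hxf⟩ := NOThreeL.AdjTransv.exists_fixed (S := (S : Subgroup G)) (N := U) S.isPGroup' hne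
    (fun n hn => by rw [← pow_two]; exact hsq n hn) (fun s hs n hn' => (mem_normalizer_iff.1 (hn hs) n).1 hn')
  intro h1
  have h2 : x ∈ U ⊓ zc (S : Subgroup G) :=
    mem_inf.2 ⟨hx, ChoiceBase.mem_zc.2 ⟨hU hx, hsq x hx, fun y hy => mul_inv_eq_iff_eq_mul.1 (hxf y hy)⟩⟩
  rw [h1, mem_bot] at h2
  exact hx1 h2

/-- **(S5) is impossible**, over the type data. -/
theorem OutD.false (o : OutD S P V M F F' B s) (t : TyD (S : Subgroup G) P (WW V F) B N K)
    (hs : Small V (Cls M F)) (hVS : V ≤ (S : Subgroup G)) (hSP : (S : Subgroup G) ≤ P) (hPM : P ≤ M)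
    (hMV : M ≤ normalizer (V : Set G)) (hLV : zl (S : Subgroup G) P ≤ V) (hne : ¬ V ≤ zl (S : Subgroup G) P)
    (hQL : o2 P ≤ centralizer (zl (S : Subgroup G) P : Set G))
    (t6 : V ⊓ centralizer (o2 P : Set G) ≤ zl (S : Subgroup G) P)
    (noOff : ∀ A : Subgroup G, A ≤ normalizer (V : Set G) → ¬ OffM V A) : False := by
  have hPV := hPM.trans hMV
  have hPL : P ≤ normalizer (zl (S : Subgroup G) P : Set G) := Cfsg.Agent.MinSimple.VModule.le_normalizer_zl _ _
  have hKP : K ≤ P := by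
    obtain ⟨γ, c, hcP, rfl, -⟩ := t.cells
    refine iSup_le fun i => iSup_le fun a => ?_
    rintro x hx
    rw [mem_conj] at hx
    have haP := hcP i a a.2
    have h1 := mul_mem (mul_mem haP (hSP (o.WS hx))) (inv_mem haP)
    have e : (a : G) * ((a : G)⁻¹ * x * a) * (a : G)⁻¹ = x := by group
    rwa [e] at h1
  have hBP : B ≤ P := o.BS.trans hSP
  have hBN : B ≤ normalizer (N : Set G) := by
    refine le_normalizer_of' fun b hb n hn => ?_
    have h1 : ⁅n, b⁆ ∈ N := t.BN (commutator_mem_commutator (t.NL hn) hb)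
    have e : b * n * b⁻¹ = ⁅n, b⁆⁻¹ * n := by rw [commutatorElement_def]; group
    rw [e]
    exact mul_mem (inv_mem h1) hn
  have hF'V := o.F'_le_V hMV
  have ld : Ld V N s B K :=
    { Vc := fun x hx y hy => (mem_centralizer_iff.1 (o.hyp.comm hx) y hy).symm
      NV := t.NL.trans hLV
      sV := o.ctr'.le.trans hF'V
      BV := hBP.trans hPV
      BN := hBN
      KV := hKP.trans hPV
      KN := t.KN
      Bs := le_centralizer_iff.1 o.sB
      Ks := o.cent_s hMV hPM hSP hLV hs t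
      comm := o.comm.trans (sup_le_sup_left t.BN s) }
  have hDP : Der B K ≤ P := by
    rw [Der, commutator_le]
    intro a ha b hb
    have h1 := ld.Lam_le hBP hKP ha
    have h2 := ld.Lam_le hBP hKP hb
    rw [commutatorElement_def]
    exact mul_mem (mul_mem (mul_mem h1 h2) (inv_mem h1)) (inv_mem h2)
  have hDN : Der B K ≤ normalizer (N : Set G) := by
    rw [Der, commutator_le]
    intro a ha b hb
    have h1 := ld.N_le ha
    have h2 := ld.N_le hb
    rw [commutatorElement_def]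
    exact mul_mem (mul_mem (mul_mem h1 h2) (inv_mem h1)) (inv_mem h2)
  have hVD : ⁅V, Der B K⁆ ≤ zl (S : Subgroup G) P := by
    rw [commutator_le]
    intro v hv d hd
    have h1 := t.NL (ld.der hd hv)
    have e : ⁅v, d⁆ = (d * v * d⁻¹ * v⁻¹)⁻¹ := by rw [commutatorElement_def]; group
    rw [e]
    exact inv_mem h1
  refine hne (pbN o.hyp.comm o.hyp.sq hPV hPL hLV (ZN.o2_le P) hQL t6 hDP t.NL t.gen t.irr hDN t.nt t.dis hVD ?_
    fun A hA => noOff A (hA.trans hPV))
  intro U hU hU1 hPU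
  have h1 := exists_fix (hU.trans hVS) (fun v hv => o.hyp.sq v (hU hv)) hU1 (hSP.trans hPU)
  intro h2
  apply h1
  rw [eq_bot_iff, ← h2]
  exact inf_le_inf le_rfl (Cfsg.Agent.MinSimple.VModule.zc_le_zl _ _)

end Cfsg.Agent.Omega.NO3S.SFive
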