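import Cfsg.Agent.Omega.NO3S.SFive.Cell
import Cfsg.Agent.Omega.NO3S.BetaFF.Act
import Cfsg.Agent.Omega.NOThreeL.NF.Final
import Cfsg.Agent.Omega.NOThreeL.Low.Key

/-!
# (S5) of GammaFF (#22081, #23010): the output

`L = zl S P`, `F` active at `S` (`BetaFF.Act`), `B₀ = B_F` (`BH V F B₀`), `I = V ∩ B₀ ≥ L`, `|I : F| ≤ |V : E|`.

* `rp_of` : the interface `RP S P`; `card_eq`, `relIndex_eq` : all minimal offenders have the same order;
* `exists_min_le` : an offender contains a minimal offender;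
* `min_W` : `W_F` is a minimal offender on `L`;
* `ctr_of` : `[L, W]` is the centre of `W` (`Ctr`), if `C_E(b) ≤ I` for all `b ∈ B₀ - N`;
* `out_of` : `OutD S P V M F F' B s`.
-/

set_option autoImplicit false
set_option linter.unusedSectionVars false

namespace Cfsg.Agent.Omega.NO3S.SFive

open Subgroup Cfsg Cfsg.Agent.ZN Cfsg.Agent.ZN.ChoiceBase
open Cfsg.Agent.Omega.MinPar
open Cfsg.Agent.Omega.FFThm (ConclM NoOverM OffM ElemM relIndex_le_iff)
open Cfsg.Agent.Omega.NOne.Flat (Hyp EE NN Cos conj_eq_of_norm EE_conj WW_conj conj_centralizer)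
open Cfsg.Agent.Omega.NOne.NearFF (c c_def)
open Cfsg.Agent.Omega.NOThreeL.NF (MinOffM RP natRP symRP)
open Cfsg.Agent.Omega.NOThreeL.Low.Key (BH)
open Cfsg.Agent.Omega.NoFF.Basic (conj_conj mem_conj conj_le_iff conj_le_centralizer)
open scoped Pointwise commutatorElement

universe u

variable {G : Type u} [Group G] [Finite G]

/-- The interface `RP` from the conclusion of the FF theorem. -/
theorem rp_of {S : Sylow 2 G} {P : Subgroup G} (hc : IsCharacteristicTwoType G) (hP : IsParS (S : Subgroup G) P)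
    (hcv : FrameFF.cv (S : Subgroup G) P = ⊥) (hno : NoOverM (zl (S : Subgroup G) P) P)
    (hcc : ConclM (S : Subgroup G) P) : RP (S : Subgroup G) P := by
  rcases hcc with ⟨K, _, _, _, k, hk, ⟨M⟩⟩ | ⟨k, m, hk, hm, ⟨M⟩⟩
  · exact natRP G hc S P hP hcv hno K k hk M
  · exact symRP G hc S P hP hcv hno k m hk hm M

theorem rne (K H : Subgroup G) : K.relIndex H ≠ 0 := index_ne_zero_of_finite

section mins

variable {S P : Subgroup G}

/-- the centres of the minimal offenders have the same order -/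
theorem card_eq (rp : RP S P) {A B : Subgroup G} (hA : MinOffM (zl S P) S A) (hB : MinOffM (zl S P) S B) :
    Nat.card ↥(⁅zl S P, A⁆ : Subgroup G) = Nat.card ↥(⁅zl S P, B⁆ : Subgroup G) := by
  obtain ⟨s, -, hs⟩ := rp.conj A B hA hB
  rw [hs]
  exact (Nat.card_congr ((⁅zl S P, A⁆ : Subgroup G).equivMapOfInjective _ (MulAut.conj s).injective).toEquiv)

/-- an offender contains a minimal offender -/
theorem exists_min_le {L A : Subgroup G} (hAS : A ≤ S) (hoff : OffM L A) : ∃ B ≤ A, MinOffM L S B := by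
  obtain ⟨B, ⟨hBA, hB⟩, hmin⟩ := Set.exists_min_image {B | B ≤ A ∧ OffM L B}
    (fun B => (centralizer (L : Set G)).relIndex B) (Set.toFinite _) ⟨A, le_rfl, hoff⟩
  exact ⟨B, hBA, hBA.trans hAS, hB, fun C hC hCo => hmin C ⟨hC.trans hBA, hCo⟩⟩

end mins

section act

variable {S : Sylow 2 G} {P V F B₀ : Subgroup G}

/-- **`W_F` is a minimal offender on `L`.** -/
theorem min_W (a : BetaFF.Act S P V F) (hno : NoOverM (zl (S : Subgroup G) P) P) (rp : RP (S : Subgroup G) P)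
    {I : Subgroup G} (hLI : zl (S : Subgroup G) P ≤ I) {Bm : Subgroup G}
    (hm : MinOffM (zl (S : Subgroup G) P) (S : Subgroup G) Bm)
    (hq : F.relIndex I ≤ Nat.card ↥(⁅zl (S : Subgroup G) P, Bm⁆ : Subgroup G)) :
    MinOffM (zl (S : Subgroup G) P) (S : Subgroup G) (NOne.Flat.WW V F) ∧
      Nat.card ↥(⁅zl (S : Subgroup G) P, NOne.Flat.WW V F⁆ : Subgroup G) = F.relIndex I := by
  set L := zl (S : Subgroup G) P with hL
  have hoff := a.offM
  have hqq : ∀ B, MinOffM L (S : Subgroup G) B →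
      (centralizer (L : Set G)).relIndex B = Nat.card ↥(⁅L, Bm⁆ : Subgroup G) := by
    intro B hB
    rw [← rp.card B hB]
    exact card_eq rp hB hm
  have hlow : ∀ B ≤ NOne.Flat.WW V F, OffM L B →
      Nat.card ↥(⁅L, Bm⁆ : Subgroup G) ≤ (centralizer (L : Set G)).relIndex B := by
    intro B hB hBo
    obtain ⟨C, hCB, hC⟩ := exists_min_le (hB.trans a.WS) hBo
    rw [← hqq C hC]
    exact relIndex_le_of_le_right hCB (rne _ _)
  have h1 : (centralizer (L : Set G)).relIndex (NOne.Flat.WW V F) ≤ F.relIndex L := by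
    have h2 := relIndex_le_iff.1 (hno _ a.WP a.elemM)
    rwa [a.relIndex_F] at h2
  have h2 : F.relIndex L ≤ F.relIndex I := relIndex_le_of_le_right hLI (rne _ _)
  have h3 := hlow _ le_rfl hoff
  have hmin : MinOffM L (S : Subgroup G) (NOne.Flat.WW V F) :=
    ⟨a.WS, hoff, fun B hB hBo => by have := hlow B hB hBo; omega⟩
  refine ⟨hmin, ?_⟩
  rw [card_eq rp hmin hm]
  exact le_antisymm (h3.trans (h1.trans h2)) hq

/-- **`[L, W]` is the centre of `W`.** -/
theorem ctr_of (bh : BH V F B₀) (hkey : F.relIndex (V ⊓ B₀) ≤ (EE V F).relIndex V) {L : Subgroup G}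
    (hLI : L ≤ V ⊓ B₀) (hLF : ¬ L ≤ F)
    (four : ∀ b ∈ B₀, b ∉ NN V F → ∀ e ∈ EE V F, e * b = b * e → e ∈ B₀)
    (hcard : Nat.card ↥(⁅L, NOne.Flat.WW V F⁆ : Subgroup G) ≤ F.relIndex (V ⊓ B₀)) : Ctr V F ⁅L, NOne.Flat.WW V F⁆ := by
  have hLE : L ≤ EE V F := hLI.trans bh.I_le_E
  obtain ⟨r, hrL, hrF⟩ := SetLike.not_le_iff_exists.1 hLF
  have hI : ¬ V ⊓ B₀ ≤ F := fun h => hrF (h (hLI hrL))
  obtain ⟨b, hb, hbN⟩ := bh.exists_not_mem_NN hI
  refine ⟨?_, fun Y hYE hWY hYF => ?_⟩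
  · rw [commutator_le]
    intro l hl s hs
    exact bh.toHyp.comm_EW (hLE hl) hs
  obtain ⟨e, he, heF⟩ := SetLike.not_le_iff_exists.1 hYF
  have hcY : ∀ s ∈ NOne.Flat.WW V F, c e s ∈ Y := fun s hs =>
    NOThreeL.Low.Key.c_mem_left he (hWY hs)
  by_cases heB : e ∈ B₀
  · -- `e ∈ I - F`
    have heI : e ∈ V ⊓ B₀ := ⟨(hYE he).1, heB⟩
    rw [commutator_le]
    intro l hl s hs
    change c l s ∈ Y
    by_cases hlF : l ∈ F
    · have h1 : c l s = 1 := NOThreeL.Low.Key.c_eq_one' (Hyp.F_comm hlF (Hyp.W_le_X hs))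
      rw [h1]; exact one_mem _
    · obtain ⟨e', he', h1⟩ := (bh.root hkey (hLI hl) hlF hb hbN (c l s)).1 ⟨s, hs, rfl⟩
      obtain ⟨s', hs', h2⟩ := (bh.root hkey heI heF hb hbN (c l s)).2 ⟨e', he', h1⟩
      rw [← h2]
      exact hcY s' hs'
  · -- `e ∈ E - I`
    have hcos : Cos (fun b' => c e b') B₀ (NN V F) (⁅L, NOne.Flat.WW V F⁆ : Subgroup G) ⊥ := by
      refine ⟨fun b' hb' => ?_, fun b₁ h₁ b₂ h₂ => ?_⟩
      · by_cases hb'N : b' ∈ NN V F
        · have h1 : c e b' = 1 := NOThreeL.Low.Key.c_eq_one' (mem_centralizer_iff.1 hb'N.2 e (hYE he))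
          change c e b' ∈ _
          rw [h1]; exact one_mem _
        · obtain ⟨s, hs, h1⟩ := (bh.root hkey (hLI hrL) hrF hb' hb'N (c e b')).2 ⟨e, hYE he, rfl⟩
          rw [← h1]
          exact commutator_mem_commutator hrL hs
      · have h3 : b₁⁻¹ * b₂ ∈ B₀ := mul_mem (inv_mem h₁) h₂
        have e1 : (c e b₁)⁻¹ * c e b₂ = b₁ * (e * (b₁⁻¹ * b₂) * e⁻¹ * (b₁⁻¹ * b₂)⁻¹) * b₁⁻¹ := by
          rw [c_def, c_def]; group
        change (c e b₁)⁻¹ * c e b₂ ∈ (⊥ : Subgroup G) ↔ _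
        rw [mem_bot, e1]
        constructor
        · intro h4
          have h5 : e * (b₁⁻¹ * b₂) * e⁻¹ * (b₁⁻¹ * b₂)⁻¹ = 1 := by
            have h6 : e * (b₁⁻¹ * b₂) * e⁻¹ * (b₁⁻¹ * b₂)⁻¹ =
                b₁⁻¹ * (b₁ * (e * (b₁⁻¹ * b₂) * e⁻¹ * (b₁⁻¹ * b₂)⁻¹) * b₁⁻¹) * b₁ := by group
            rw [h6, h4]; group
          by_contra h6
          exact heB (four _ h3 h6 e (hYE he) (NOThreeL.Low.Key.comm_of_c h5))
        · intro h4
          have h5 := mem_centralizer_iff.1 h4.2 e (hYE he)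
          have h6 : e * (b₁⁻¹ * b₂) * e⁻¹ * (b₁⁻¹ * b₂)⁻¹ = 1 := NOThreeL.Low.Key.c_eq_one' h5
          rw [h6]; group
    intro y hy
    have hle : (⊥ : Subgroup G).relIndex (⁅L, NOne.Flat.WW V F⁆ : Subgroup G) ≤ (NN V F).relIndex B₀ := by
      rw [relIndex_bot_left, bh.relIndex_B]
      exact hcard
    obtain ⟨b', hb', h1⟩ := hcos.surj hle hy
    have h2 : y = c e b' := by
      rw [mem_bot] at h1
      exact (inv_mul_eq_one.1 h1).symm
    rw [h2]
    exact hcY b' (bh.le_W hb')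

/-- **The output of #22081.** -/
theorem out_of {M : Subgroup G} (hMV : M ≤ normalizer (V : Set G)) (a : BetaFF.Act S P V F)
    (hno : NoOverM (zl (S : Subgroup G) P) P) (rp : RP (S : Subgroup G) P)
    (bh : BH V F B₀) (hLB : zl (S : Subgroup G) P ≤ B₀)
    (hkey : F.relIndex (V ⊓ B₀) ≤ (EE V F).relIndex V)
    (four : ∀ b ∈ B₀, b ∉ NN V F → ∀ e ∈ EE V F, e * b = b * e → e ∈ B₀)
    {m : G} (hm : m ∈ M) (hBS : MulAut.conj m • B₀ ≤ (S : Subgroup G))
    (hmin : MinOffM (zl (S : Subgroup G) P) (S : Subgroup G) (MulAut.conj m • B₀))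
    (hBE : zl (S : Subgroup G) P ⊓ EE V (MulAut.conj m • F) ≤
      centralizer ((MulAut.conj m • B₀ : Subgroup G) : Set G))
    (hdis : ⁅zl (S : Subgroup G) P, (MulAut.conj m • B₀ : Subgroup G)⁆ ⊓ (MulAut.conj m • F) = ⊥)
    (hVL : (EE V (MulAut.conj m • F)).relIndex V ≤ (EE V (MulAut.conj m • F)).relIndex (zl (S : Subgroup G) P))
    (hq : F.relIndex (V ⊓ B₀) ≤
      Nat.card ↥(⁅zl (S : Subgroup G) P, (MulAut.conj m • B₀ : Subgroup G)⁆ : Subgroup G)) :
    OutD S P V M F (MulAut.conj m • F) (MulAut.conj m • B₀) (MulAut.conj m • ⁅zl (S : Subgroup G) P, NOne.Flat.WW V F⁆) := by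
  set L := zl (S : Subgroup G) P with hL
  have hLV : L ≤ V := a.LV
  have hLI : L ≤ V ⊓ B₀ := le_inf hLV hLB
  have hLF : ¬ L ≤ F := by
    intro h1
    apply a.mov
    exact Hyp.W_le_X.trans (centralizer_le h1)
  obtain ⟨hminW, hcardW⟩ := min_W a hno rp hLI hmin hq
  have hctr := ctr_of bh hkey hLI hLF four hcardW.le
  have hmV := hMV hm
  have hctr' := hctr.conj hmV
  have hI : ¬ V ⊓ B₀ ≤ F := fun h => hLF (hLI.trans h)
  obtain ⟨b₀, hb₀, hb₀N⟩ := bh.exists_not_mem_NN hI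
  have hB₀F : B₀ ≤ centralizer (F : Set G) := bh.le_W.trans Hyp.W_le_X
  have hsB : (MulAut.conj m • ⁅L, NOne.Flat.WW V F⁆ : Subgroup G) ≤
      centralizer ((MulAut.conj m • B₀ : Subgroup G) : Set G) := by
    refine hctr'.le.trans ?_
    rw [← conj_centralizer]
    exact conj_le_iff.2 (le_centralizer_iff.1 hB₀F)
  have hcV : MulAut.conj m • V = V := conj_eq_of_norm hmV
  -- `[E, b] ≤ [L, W]` for `b ∈ B₀`
  have hEb : ∀ e ∈ EE V F, ∀ b ∈ B₀, c e b ∈ (⁅L, NOne.Flat.WW V F⁆ : Subgroup G) := by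
    obtain ⟨r, hrL, hrF⟩ := SetLike.not_le_iff_exists.1 hLF
    intro e he b hb
    by_cases hbN : b ∈ NN V F
    · rw [NOThreeL.Low.Key.c_eq_one' (mem_centralizer_iff.1 hbN.2 e he)]
      exact one_mem _
    · obtain ⟨s, hs, h1⟩ := (bh.root hkey (hLI hrL) hrF hb hbN (c e b)).2 ⟨e, he, rfl⟩
      rw [← h1]
      exact commutator_mem_commutator hrL hs
  refine
    { hyp := a.hyp
      WS := a.WS
      min := hminW
      ctr := hctr
      conj := ⟨m, hm, rfl⟩
      BS := hBS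
      minB := hmin
      BE := hBE
      dis := hdis
      ctr' := hctr'
      sB := hsB
      comm := ?_
      idx := ?_ }
  · -- `V = L E'`
    rw [commutator_le]
    intro v hv b hb
    have hcos : Cos id L (EE V (MulAut.conj m • F)) V (EE V (MulAut.conj m • F)) :=
      ⟨fun l hl => hLV hl, fun _ _ _ _ => Iff.rfl⟩
    obtain ⟨l, hl, h1⟩ := hcos.surj hVL hv
    have h1' : l⁻¹ * v ∈ EE V (MulAut.conj m • F) := h1
    set e := l⁻¹ * v with he
    have hve : v = l * e := by rw [he]; group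
    have hbW : b ∈ NOne.Flat.WW V (MulAut.conj m • F) := by
      rw [← WW_conj hmV]
      exact conj_le_iff.2 bh.le_W hb
    have hF' := a.hyp.conj hmV
    have h2 : c (l * e) b = c l b * c e b := hF'.c_mul_left (hLV hl) h1'.1 hbW
    change c v b ∈ _
    rw [hve, h2]
    refine mul_mem ((le_sup_right : ⁅L, (MulAut.conj m • B₀ : Subgroup G)⁆ ≤ _) (commutator_mem_commutator hl hb))
      ((le_sup_left : (MulAut.conj m • ⁅L, NOne.Flat.WW V F⁆ : Subgroup G) ≤ _) ?_)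
    rw [mem_conj]
    have h3 : m⁻¹ * e * m ∈ EE V F := by
      have h4 : e ∈ MulAut.conj m • EE V F := by rw [EE_conj hmV]; exact h1'
      rwa [mem_conj] at h4
    have h4 : m⁻¹ * b * m ∈ B₀ := by rwa [mem_conj] at hb
    have h5 := hEb _ h3 _ h4
    have e1 : c (m⁻¹ * e * m) (m⁻¹ * b * m) = m⁻¹ * c e b * m := by rw [c_def, c_def]; group
    rwa [e1] at h5
  · -- `C_V(B) ≤ I'`
    have h1 : V ⊓ centralizer ((MulAut.conj m • B₀ : Subgroup G) : Set G) ≤ MulAut.conj m • (V ⊓ B₀) := by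
      rintro v ⟨hv, hvc⟩
      rw [mem_conj]
      have hvV : m⁻¹ * v * m ∈ V := by
        have h4 : v ∈ MulAut.conj m • V := by rw [hcV]; exact hv
        rwa [mem_conj] at h4
      have hcm : ∀ b ∈ B₀, m⁻¹ * v * m * b = b * (m⁻¹ * v * m) := by
        intro b hb
        have h5 : m * b * m⁻¹ ∈ (MulAut.conj m • B₀ : Subgroup G) := by
          rw [mem_conj]
          have e2 : m⁻¹ * (m * b * m⁻¹) * m = b := by group
          rwa [e2]
        have h6 := mem_centralizer_iff.1 hvc _ h5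
        calc m⁻¹ * v * m * b = m⁻¹ * (v * (m * b * m⁻¹)) * m := by group
          _ = m⁻¹ * (m * b * m⁻¹ * v) * m := by rw [← h6]
          _ = b * (m⁻¹ * v * m) := by group
      have hvE : m⁻¹ * v * m ∈ EE V F := by
        refine bh.mem_E_of_c hvV hb₀ hb₀N ?_
        rw [NOThreeL.Low.Key.c_eq_one' (hcm _ hb₀)]
        exact one_mem _
      exact ⟨hvV, four _ hb₀ hb₀N _ hvE (hcm _ hb₀)⟩
    have h2 : (MulAut.conj m • F).relIndex (V ⊓ centralizer ((MulAut.conj m • B₀ : Subgroup G) : Set G)) ≤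
        (MulAut.conj m • F).relIndex (MulAut.conj m • (V ⊓ B₀)) := relIndex_le_of_le_right h1 (rne _ _)
    refine h2.trans ?_
    rw [relIndex_pointwise_smul]
    exact hq

end act

end Cfsg.Agent.Omega.NO3S.SFive
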