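import Cfsg.Agent.Omega.NO3S.ActT.TLNat
import Cfsg.Agent.Omega.NO3S.ActT.TLSym

/-!
# (S5) of GammaFF (#22081, #23010): the type lemma TL

`L = zl S P`, `B` a minimal offender in `S` on `L` (one full root group / one transposition).

* `tl` : some `w ∈ L`, not centralised by `B`, satisfies `[w, s] ∈ [L, B]` for all `s ∈ S` which centralise `[L, B]`.
-/

set_option autoImplicit false
set_option linter.unusedSectionVars false

namespace Cfsg.Agent.Omega.NO3S.SFive

open Subgroup Cfsg Cfsg.Agent.ZN Cfsg.Agent.ZN.ChoiceBase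
open Cfsg.Agent.Omega.MinPar
open Cfsg.Agent.Omega.FFThm (ConclM NatK NatKM SymK SymKM ActsSL)
open Cfsg.Agent.Omega.Half (Amb)
open Cfsg.Agent.Omega.Half.NatA (fac Mv Mv.unique)
open Cfsg.Agent.Omega.NOThreeL.NF (MinOffM)
open Cfsg.Agent.Omega.NOThreeL.NF.NatR
open Cfsg.Agent.Omega.NO1.NSix (em em_mem e_em_self e_em_ne ph e_conj ph_add)
open Cfsg.Agent.Omega.NatPair (ext2)
open Cfsg.Agent.Omega.NO3S.ActT (decomp)
open Cfsg.Agent.Lib.SL2Mat
open scoped commutatorElement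

universe u

section nat

variable {G : Type u} [Group G] {F : Type} [Field F] {S P W : Subgroup G} {k : ℕ} {M : NatKM F S P W ⊥ k}

/-- an element of `S` which centralises one line fixes the summand and acts on it as an upper unitriangular matrix -/
theorem exists_up_one [Finite F] [CharP F 2] (hA : Amb S P W) (hS : IsPGroup 2 S) {t : G} (ht : t ∈ S) {j : Fin k}
    (hc : ∀ y ∈ ln M {j}, t * y = y * t) :
    ∃ (σ : Equiv.Perm (Fin k)) (a : F), σ j = j ∧ Mv M.toNatK t σ ∧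
      ∀ v ∈ W, M.e (t * v * t⁻¹) j = ![M.e v j 0 + a * M.e v j 1, M.e v j 1] := by
  have htP : t ∈ P := hA.TH ht
  have hcv : ∀ g ∈ P, ∀ v ∈ W, g * v * g⁻¹ ∈ W := fun g hg v hv => hA.conj_mem hg hv
  have hfix : ∀ y ∈ ln M {j}, t * y * t⁻¹ = y := fun y hy => by
    rw [hc y hy, mul_inv_cancel_right]
  obtain ⟨σ, hσ⟩ := M.perm t htP
  have hj : σ j = j := by
    by_contra hne
    obtain ⟨y, hy, hy0⟩ := exists_ln (M := M) j 1
    have h1 := (hσ y hy.1 j).1
    rw [hfix y hy] at h1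
    have h2 := h1 (hy.2.2 _ hne)
    rw [h2] at hy0
    exact zero_ne_one hy0
  obtain ⟨τ, hτ⟩ := NO1.NSix.exists_semi hA (M := M.toNatK) htP (show Mv M.toNatK t σ from hσ) j
  rw [hj] at hτ
  have hph : ∀ v ∈ W, M.e (t * v * t⁻¹) j = ph M.toNatK t j j (M.e v j) := by
    intro v hv
    have h1 := e_conj hA (M := M.toNatK) htP (show Mv M.toNatK t σ from hσ) hv j
    rwa [hj] at h1
  -- the line
  have hl : ∀ x : F, ph M.toNatK t j j ![x, 0] = ![x, 0] := by
    intro x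
    have h1 := em_mem M.toNatK j ![x, 0]
    have h2 : em M.toNatK j ![x, 0] ∈ ln M {j} := by
      refine ⟨h1, fun l => ?_, fun l hl => e_em_ne M.toNatK hl _⟩
      by_cases hl : l = j
      · subst hl
        have h3 := e_em_self M.toNatK l ![x, 0]
        exact (congrFun h3 1).trans rfl
      · have h3 := e_em_ne M.toNatK hl ![x, 0]
        exact (congrFun h3 1).trans rfl
    have h3 := hph _ h1
    rw [hfix _ h2] at h3
    have h4 := e_em_self M.toNatK j ![x, 0]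
    rw [h4] at h3
    exact h3.symm
  have hτ1 : ∀ x : F, τ x = x := by
    intro x
    have h1 := hτ x ![1, 0]
    have h2 : x • (![1, 0] : Fin 2 → F) = ![x, 0] := by apply ext2 <;> simp
    rw [h2, hl, hl] at h1
    have h3 := congrFun h1 0
    simp at h3
    exact h3.symm
  set a := ph M.toNatK t j j ![0, 1] 0 with ha
  set μ := ph M.toNatK t j j ![0, 1] 1 with hμ
  have hmat : ∀ x : Fin 2 → F, ph M.toNatK t j j x = ![x 0 + a * x 1, μ * x 1] := by
    intro x
    conv_lhs => rw [decomp x]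
    rw [ph_add hA htP, hτ, hτ, hτ1, hτ1, hl]
    refine ext2 ?_ ?_
    · simp only [Pi.add_apply, Pi.smul_apply, Matrix.cons_val_zero, smul_eq_mul, mul_one]
      rw [← ha, mul_comm (x 1)]
    · simp only [Pi.add_apply, Pi.smul_apply, Matrix.cons_val_one, Matrix.cons_val_zero, smul_eq_mul, mul_zero,
        zero_add]
      rw [← hμ, mul_comm (x 1)]
  have hlam : ∀ v ∈ W, M.e (t * v * t⁻¹) j 1 = μ * M.e v j 1 := by
    intro v hv
    rw [hph v hv, hmat]
    rfl
  have hpow : ∀ n : ℕ, ∀ v ∈ W, M.e (t ^ n * v * (t ^ n)⁻¹) j 1 = μ ^ n * M.e v j 1 := by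
    intro n
    induction n with
    | zero => intro v _; simp
    | succ n ih =>
      intro v hv
      have h1 := hlam _ (hcv (t ^ n) (P.pow_mem htP n) v hv)
      have e1 : t * (t ^ n * v * (t ^ n)⁻¹) * t⁻¹ = t ^ (n + 1) * v * (t ^ (n + 1))⁻¹ := by
        rw [pow_succ' t n]; group
      rw [e1, ih v hv] at h1
      rw [h1, pow_succ', mul_assoc]
  obtain ⟨n, hn⟩ := hS ⟨t, ht⟩
  have hn' : t ^ (2 ^ n) = 1 := congrArg Subtype.val hn
  obtain ⟨u, hu, hue, -⟩ := exists_pt (M := M) j ![0, 1]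
  have h1 := hpow (2 ^ n) u hu
  rw [hn', one_mul, inv_one, mul_one, hue] at h1
  have h2 : μ ^ 2 ^ n = 1 := by simpa using h1.symm
  have hμ1 : μ = 1 := by
    have h3 : (μ - 1) ^ 2 ^ n = 0 := by
      rw [sub_pow_char_pow, h2, one_pow, sub_self]
    exact sub_eq_zero.1 (pow_eq_zero_iff (pow_ne_zero n two_ne_zero) |>.1 h3)
  refine ⟨σ, a, hj, hσ, fun v hv => ?_⟩
  rw [hph v hv, hmat, hμ1, one_mul]

/-- **TL, natural modules** -/
theorem tl_nat [Finite G] [Finite F] [CharP F 2] {S P B : Subgroup G} {k : ℕ} (M : NatKM F S P (zl S P) ⊥ k)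
    (hA : Amb S P (zl S P)) (hS : IsPGroup 2 S) (hmin : MinOffM (zl S P) S B) :
    ∃ w ∈ zl S P, w ∉ centralizer (B : Set G) ∧ ∀ s ∈ S, s ∈ centralizer ((⁅zl S P, B⁆ : Subgroup G) : Set G) →
      s * w * s⁻¹ * w⁻¹ ∈ (⁅zl S P, B⁆ : Subgroup G) := by
  have hPW := hA.HV
  have hSP := hA.TH
  obtain ⟨i, hr⟩ := Rt.of (M := M) hPW hSP hmin
  have hln := hr.comm_eq hPW hSP
  refine ⟨em M.toNatK i ![0, 1], em_mem _ _ _, fun hc => ?_, fun s hs hsc => ?_⟩
  · have h1 := hr.zero_of_cent (em_mem _ _ _) hc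
    have h2 := congrFun (e_em_self M.toNatK i ![0, 1]) 1
    have h3 : (1 : F) = 0 := by simpa using h2.symm.trans h1
    exact one_ne_zero h3
  · rw [hln] at hsc ⊢
    have hc : ∀ y ∈ ln M {i}, s * y = y * s := fun y hy => (mem_centralizer_iff.1 hsc y hy).symm
    obtain ⟨σ, a, hσi, hσ, hup⟩ := exists_up_one hA hS hs hc
    set w := em M.toNatK i ![0, 1] with hw
    have hwW : w ∈ zl S P := em_mem _ _ _
    have hwe : M.e w i = ![0, 1] := e_em_self M.toNatK i ![0, 1]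
    have hsw : s * w * s⁻¹ ∈ zl S P := hA.conj_mem (hSP hs) hwW
    have hadd : ∀ l, M.e (s * w * s⁻¹ * w⁻¹) l = M.e (s * w * s⁻¹) l - M.e w l := by
      intro l
      rw [M.mul _ hsw _ (inv_mem hwW), Pi.add_apply, e_inv hwW, Pi.neg_apply, sub_eq_add_neg]
    have hz : ∀ l, l ≠ i → M.e (s * w * s⁻¹ * w⁻¹) l = 0 := by
      intro l hl
      have h1 : M.e w l = 0 := e_em_ne M.toNatK hl _
      have h2 : M.e (s * w * s⁻¹) l = 0 := by
        have h3 := (hσ w hwW (σ.symm l)).2 (e_em_ne M.toNatK (fun h4 => hl (by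
          rw [← hσi, ← h4, Equiv.apply_symm_apply])) _)
        rwa [Equiv.apply_symm_apply] at h3
      rw [hadd, h1, h2, sub_zero]
    refine ⟨mul_mem hsw (inv_mem hwW), fun l => ?_, fun l hl => hz l hl⟩
    by_cases hl : l = i
    · subst hl
      rw [hadd, hup w hwW, hwe]
      simp
    · rw [hz l hl]; rfl

end nat

section sym

open Cfsg.Agent.Omega.Half.SymA
open Cfsg.Agent.Omega.NOThreeL.NF.SymRP
open Cfsg.Agent.Omega.NO3S.ActT (c_pair)
open Cfsg.Agent.Omega.NOne.NearFF (c c_def)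

variable {G : Type u} [Group G] [Finite G] {S : Sylow 2 G} {P : Subgroup G} {k m : ℕ}

/-- **TL, even-subset modules** -/
theorem tl_sym (M : SymKM (S : Subgroup G) P (zl (S : Subgroup G) P) ⊥ k m)
    (hA : Amb (S : Subgroup G) P (zl (S : Subgroup G) P)) (hm : 1 ≤ m)
    {B : Subgroup G} (hmin : MinOffM (zl (S : Subgroup G) P) (S : Subgroup G) B) :
    ∃ w ∈ zl (S : Subgroup G) P, w ∉ centralizer (B : Set G) ∧ ∀ s ∈ (S : Subgroup G),
      s ∈ centralizer ((⁅zl (S : Subgroup G) P, B⁆ : Subgroup G) : Set G) →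
        s * w * s⁻¹ * w⁻¹ ∈ (⁅zl (S : Subgroup G) P, B⁆ : Subgroup G) := by
  obtain ⟨⟨p, q, had⟩, -⟩ := exists_ad M hA hm hmin
  set N := M.toSymK with hN
  obtain ⟨d, hd⟩ := exists_isC (M := N) had.sw.2.1
  obtain ⟨e, he⟩ := exists_isC (M := N) (p := (p.1, 0)) (q := p) rfl
  have hp2 := had.sw.nz hA hm
  have hq2 := had.sw.symm.nz hA hm
  have hp0 : ((p.1, 0) : Pt k m) ≠ p := fun h => hp2 (congrArg Prod.snd h).symm
  have hq0 : q ≠ ((p.1, 0) : Pt k m) := fun h => hq2 (congrArg Prod.snd h)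
  rw [had.comm_eq hA hm hd]
  refine ⟨e, he.1, fun hc => ?_, fun s hs hsc => ?_⟩
  · obtain ⟨b, hb, hπ⟩ := had.ex
    have h1 : b * e * b⁻¹ = e := by
      rw [mem_centralizer_iff.1 hc b hb, mul_inv_cancel_right]
    have h2 : E N e p = E N e q := eq_of_comm hπ he.1 h1
    rw [he.right hp0, he.zero hq0 had.sw.1.symm] at h2
    exact one_ne_zero h2
  · have hc : s * d = d * s := (mem_centralizer_iff.1 hsc d (mem_zpowers d)).symm
    obtain ⟨π, hπ, -⟩ := exists_mv (M := N) (hA.TH hs)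
    have e1 : s * e * s⁻¹ * e⁻¹ = (c e s)⁻¹ := by rw [c_def]; group
    rw [e1]
    refine inv_mem ?_
    rcases c_pair hA hm hs hπ had.sw hd he hc with h2 | h2
    · rw [h2]; exact one_mem _
    · rw [h2]; exact mem_zpowers d

end sym

section main

variable {G : Type u} [Group G] [Finite G] {S : Sylow 2 G} {P : Subgroup G}

/-- **TL** (#23010): some `w ∈ L - C(B)` satisfies `[w, C_S([L, B])] ≤ [L, B]`. -/
theorem tl (hc : IsCharacteristicTwoType G) (hP : IsParS (S : Subgroup G) P)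
    (hcv : FrameFF.cv (S : Subgroup G) P = ⊥) (hcc : ConclM (S : Subgroup G) P) {B : Subgroup G}
    (hB : MinOffM (zl (S : Subgroup G) P) (S : Subgroup G) B) :
    ∃ w ∈ zl (S : Subgroup G) P, w ∉ centralizer (B : Set G) ∧ ∀ s ∈ (S : Subgroup G),
      s ∈ centralizer ((⁅zl (S : Subgroup G) P, B⁆ : Subgroup G) : Set G) →
        s * w * s⁻¹ * w⁻¹ ∈ (⁅zl (S : Subgroup G) P, B⁆ : Subgroup G) := by
  have hA := Omega.Half.amb_of_loc hc S hP.isLoc
  rcases hcc with ⟨K, _, _, _, k, hk, ⟨M⟩⟩ | ⟨k, m, hk, hm, ⟨M⟩⟩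
  · rw [hcv] at M
    exact tl_nat M hA S.isPGroup' hB
  · rw [hcv] at M
    exact tl_sym M hA (by omega) hB

end main

end Cfsg.Agent.Omega.NO3S.SFive
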