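import Cfsg.Agent.Omega.NO3S.SFive.TyS
import Cfsg.Agent.Omega.NO3S.SFive.Cell

/-!
# Even-subset blocks: `TyD` (helper422, #22571 (2)-(5); GammaFF (S5))

`tyD_sym` : `SymKM`, two minimal offenders `A`, `B` in `S`: `∃ N K, TyD S P A B N K`.
The cells are the sets of three letters `{p', q', x}`, `B = (p' q')`; `K` = all `A^y` inducing `(p' q')`, `(p' x)`,
`(q' x)` for some `x`.
-/

set_option autoImplicit false

namespace Cfsg.Agent.Omega.NO3S.SFive.TyS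

open Subgroup Cfsg Cfsg.Agent.ZN Cfsg.Agent.ZN.ChoiceBase
open Cfsg.Agent.Omega.FFThm (ElemM OffM NoOverM ConclM SymK SymKM ActsSym)
open Cfsg.Agent.Omega.Half (Amb)
open Cfsg.Agent.Omega.Half.SymA
open Cfsg.Agent.Omega.NOThreeL.NF (MinOffM)
open Cfsg.Agent.Omega.NOThreeL.NF.SymRP
open Cfsg.Agent.Omega.MinPar
open scoped Classical commutatorElement Pointwise

universe u

variable {G : Type u} [Group G]

section k

variable {T H V : Subgroup G} {k m : ℕ}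

/-- `K` -/
def KK (M : SymK T H V ⊥ k m) (p q p' q' : Pt k m) (A : Subgroup G) : Subgroup G :=
  ⨆ x : {x : Pt k m // Tri p' q' x}, ⨆ a : Cell M p q p' q' x, MulAut.conj (a : G) • A

variable {M : SymK T H V ⊥ k m} (hA : Amb T H V) {A : Subgroup G} {p q p' q' : Pt k m}
include hA

theorem KK_le_ab (hm : 1 ≤ m) (h : Tr M A p q) : KK M p q p' q' A ≤ Ab M hA p'.1 := by
  refine iSup_le fun x => iSup_le fun a => ?_
  obtain ⟨a, haH, π, hπ, h1, h2⟩ := a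
  refine (h.conj hA haH hm hπ).le_ab hA ?_
  exact x.2.blk_of h1 (Or.inl rfl)

theorem exists_sw_mem (hm : 1 ≤ m) (h : Tr M A p q) {x : Pt k m} (t : Tri p' q' x) {a b : Pt k m} (hab : a ≠ b)
    (ha : In3 p' q' x a) (hb : In3 p' q' x b) : ∃ g ∈ KK M p q p' q' A, Mv M g (Equiv.swap a b) := by
  obtain ⟨y, hy, π, hπ, h1, h2⟩ := exists_map (M := M) hA hm h.ne h.blk hab (t.blk_of ha hb)
  obtain ⟨g, hg, hg1⟩ := (h.conj hA hy hm hπ).ex
  rw [h1, h2] at hg1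
  have h3 : MulAut.conj y • A ≤ KK M p q p' q' A :=
    (le_iSup (fun a : Cell M p q p' q' x => MulAut.conj (a : G) • A)
      ⟨y, hy, π, hπ, by rw [h1]; exact ha, by rw [h2]; exact hb⟩).trans
      (le_iSup (fun x : {x : Pt k m // Tri p' q' x} => ⨆ a : Cell M p q p' q' x, MulAut.conj (a : G) • A) ⟨x, t⟩)
  exact ⟨g, h3 hg, hg1⟩

omit hA in
theorem exists_tri (hm : 1 ≤ m) (hne : p' ≠ q') (hb : p'.1 = q'.1) : ∃ x, Tri p' q' x := by
  obtain ⟨c, hc1, hc2⟩ := exists_third hm p'.2 q'.2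
  exact ⟨(p'.1, c), ⟨hne, fun h => hc1 (congrArg Prod.snd h), fun h => hc2 (congrArg Prod.snd h), hb, rfl⟩⟩

/-- `K` is transitive on the ordered pairs of points of the block -/
theorem exists_K_map (hm : 1 ≤ m) (h : Tr M A p q) (hne : p' ≠ q') (hb : p'.1 = q'.1) {r s : Pt k m} (hrs : r ≠ s)
    (hr : r.1 = p'.1) (hs : s.1 = p'.1) :
    ∃ y ∈ KK M p q p' q' A, ∃ π, Mv M y π ∧ π p' = r ∧ π q' = s := by
  have hKH : KK M p q p' q' A ≤ H := fun g hg => (KK_le_ab hA hm h hg).1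
  -- first step
  obtain ⟨y₁, hy₁, π₁, hπ₁, h1⟩ : ∃ y ∈ KK M p q p' q' A, ∃ π, Mv M y π ∧ π p' = r := by
    by_cases hrp : r = p'
    · exact ⟨1, one_mem _, 1, Mv_one M, hrp.symm⟩
    by_cases hrq : r = q'
    · obtain ⟨x, t⟩ := exists_tri hm hne hb
      obtain ⟨g, hg, hg1⟩ := exists_sw_mem hA hm h t hne (Or.inl rfl) (Or.inr (Or.inl rfl))
      exact ⟨g, hg, _, hg1, by rw [Equiv.swap_apply_left, hrq]⟩
    · obtain ⟨g, hg, hg1⟩ := exists_sw_mem hA hm h (x := r) ⟨hne, hrp, hrq, hb, hr⟩ (Ne.symm hrp) (Or.inl rfl)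
        (Or.inr (Or.inr rfl))
      exact ⟨g, hg, _, hg1, Equiv.swap_apply_left _ _⟩
  have hs' : π₁ (π₁⁻¹ s) = s := π₁.apply_symm_apply s
  obtain ⟨s', hs'e⟩ : ∃ s', s' = π₁⁻¹ s := ⟨_, rfl⟩
  rw [← hs'e] at hs'
  have hsp : s' ≠ p' := by
    rintro rfl
    exact hrs (h1.symm.trans hs')
  have hsb : s'.1 = p'.1 := by
    have h2 := (hπ₁.inv hA (hKH hy₁)).fst hA hm (inv_mem (hKH hy₁)) (p := s) (q := r) (by rw [hs, hr])
    rw [← hs'e] at h2
    rw [h2, ← h1, show π₁⁻¹ (π₁ p') = p' from π₁.symm_apply_apply p']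
  obtain ⟨y₂, hy₂, π₂, hπ₂, h2, h3⟩ : ∃ y ∈ KK M p q p' q' A, ∃ π, Mv M y π ∧ π q' = s' ∧ π p' = p' := by
    by_cases hsq : s' = q'
    · exact ⟨1, one_mem _, 1, Mv_one M, hsq.symm, rfl⟩
    · obtain ⟨g, hg, hg1⟩ := exists_sw_mem hA hm h (x := s') ⟨hne, hsp, hsq, hb, hsb⟩ (Ne.symm hsq)
        (Or.inr (Or.inl rfl)) (Or.inr (Or.inr rfl))
      exact ⟨g, hg, _, hg1, Equiv.swap_apply_left _ _, Equiv.swap_apply_of_ne_of_ne hne hsp.symm⟩
  refine ⟨y₁ * y₂, mul_mem hy₁ hy₂, π₁ * π₂, hπ₁.mul hA hπ₂ (hKH hy₂), ?_, ?_⟩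
  · rw [Equiv.Perm.mul_apply, h3, h1]
  · rw [Equiv.Perm.mul_apply, h2, hs']

/-- `Λ` induces all transpositions -/
theorem exists_Lam (hm : 1 ≤ m) (h : Tr M A p q) {B : Subgroup G} (hB : Tr M B p' q') {r s : Pt k m} (hrs : r ≠ s)
    (hr : r.1 = p'.1) (hs : s.1 = p'.1) : ∃ g ∈ Lam B (KK M p q p' q' A), Mv M g (Equiv.swap r s) := by
  obtain ⟨y, hy, π, hπ, h1, h2⟩ := exists_K_map hA hm h hB.ne hB.blk hrs hr hs
  have hyH : y ∈ H := (KK_le_ab hA hm h hy).1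
  obtain ⟨g, hg, hg1⟩ := (hB.conj hA hyH hm hπ).ex
  rw [h1, h2] at hg1
  exact ⟨g, le_iSup (fun y : KK M p q p' q' A => MulAut.conj (y : G) • B) ⟨y, hy⟩ hg, hg1⟩

theorem Lam_le_ab (hm : 1 ≤ m) (h : Tr M A p q) {B : Subgroup G} (hB : Tr M B p' q') :
    Lam B (KK M p q p' q' A) ≤ Ab M hA p'.1 := by
  refine iSup_le fun y => ?_
  rintro _ ⟨b, hb, rfl⟩
  have hy := KK_le_ab hA hm h y.2
  exact mul_mem (mul_mem hy (hB.le_ab hA rfl hb)) (inv_mem hy)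

theorem Der_le_ab (hm : 1 ≤ m) (h : Tr M A p q) {B : Subgroup G} (hB : Tr M B p' q') :
    Der B (KK M p q p' q' A) ≤ Ab M hA p'.1 := by
  rw [Der, commutator_le]
  intro a ha b hb
  have ha' := Lam_le_ab hA hm h hB ha
  have hb' := Lam_le_ab hA hm h hB hb
  rw [commutatorElement_def]
  exact mul_mem (mul_mem (mul_mem ha' hb') (inv_mem ha')) (inv_mem hb')

/-- `⁅Λ, Λ⁆` induces all 3-cycles -/
theorem exists_tc (hm : 1 ≤ m) (h : Tr M A p q) {B : Subgroup G} (hB : Tr M B p' q') {a b c : Pt k m}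
    (ha : a.1 = p'.1) (hb : b.1 = p'.1) (hc : c.1 = p'.1) (hab : a ≠ b) (hbc : b ≠ c) (hac : a ≠ c) :
    ∃ g ∈ Der B (KK M p q p' q' A), Mv M g (Equiv.swap a b * Equiv.swap b c) := by
  obtain ⟨s, hs, hs1⟩ := exists_Lam hA hm h hB hab ha hb
  obtain ⟨t, ht, ht1⟩ := exists_Lam hA hm h hB hac ha hc
  have hsH := (Lam_le_ab hA hm h hB hs).1
  have htH := (Lam_le_ab hA hm h hB ht).1
  refine ⟨⁅s, t⁆, commutator_mem_commutator hs ht, ?_⟩
  have h1 := ((hs1.mul hA ht1 htH).mul hA (hs1.inv hA hsH) (inv_mem hsH)).mul hA (ht1.inv hA htH) (inv_mem htH)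
  rw [commutatorElement_def]
  have e : Equiv.swap a b * Equiv.swap a c * (Equiv.swap a b)⁻¹ * (Equiv.swap a c)⁻¹ =
      Equiv.swap a b * Equiv.swap b c := by
    rw [Equiv.swap_inv, Equiv.swap_inv]
    have h2 := Equiv.swap_mul_swap_mul_swap (x := b) (y := a) (z := c) hab.symm hbc
    rw [mul_assoc, mul_assoc, ← mul_assoc (Equiv.swap a c)]
    rw [Equiv.swap_comm a b, h2, Equiv.swap_comm c b]
  rwa [e] at h1

end k

variable [Finite G] {S : Sylow 2 G} {P : Subgroup G} {k m : ℕ}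

/-- **The type data for even-subset blocks.** -/
theorem tyD_of {A B : Subgroup G} {M : SymK (S : Subgroup G) P (zl (S : Subgroup G) P) ⊥ k m}
    (hA : Amb (S : Subgroup G) P (zl (S : Subgroup G) P)) (hm : 2 ≤ m) {p q p' q' : Pt k m} (h : Tr M A p q)
    (hB : Tr M B p' q') :
    TyD (S : Subgroup G) P A B (blk M p'.1) (KK M p q p' q' A) := by
  have hm1 : 1 ≤ m := by omega
  obtain ⟨c, hc⟩ := exists_isC (M := M) hB.blk
  obtain ⟨x, t⟩ := exists_tri hm1 hB.ne hB.blk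
  refine ⟨fun v hv => hv.1, ?_, (KK_le_ab hA hm1 h).trans (ab_norm hA _), ?_, ?_, ?_, ?_, gen hA hm1 _⟩
  · rw [hB.comm_eq hA hm1 hc, zpowers_le]
    exact pair_mem_blk rfl hB.blk.symm hc
  · exact ⟨{x : Pt k m // Tri p' q' x}, fun x => Cell M p q p' q' x, fun _ _ ha => ha.1, rfl,
      fun x a ha b hb => cell_two hA hm1 h x.2 ha hb, fun x => cell_out hA hm1 h x.2 hB,
      fun x => cell_fix hA hm h x.2 hB⟩
  · intro U hU hne hUn
    exact blk_le_of_tc hA hm hU hne (fun g hg => (Der_le_ab hA hm1 h hB hg).1) hUn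
      fun a b c ha hb hc hab hbc hac => exists_tc hA hm1 h hB ha hb hc hab hbc hac
  · intro hcon
    obtain ⟨g, hg, hg1⟩ := exists_tc hA hm1 h hB (a := p') (b := q') (c := x) rfl hB.blk.symm t.xb hB.ne
      t.xq.symm t.xp.symm
    have h1 := mem_centralizer_iff.1 (hcon hg) c (pair_mem_blk rfl hB.blk.symm hc)
    have h2 := hg1 c hc.1 x
    rw [← h1, mul_inv_cancel_right, tc_c, hc.left hB.ne, hc.zero t.xp t.xq] at h2
    exact one_ne_zero h2
  · intro y hy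
    obtain ⟨π, hπ, -⟩ := exists_mv (M := M) hy
    rw [smul_blk hA hm1 hy hπ]
    by_cases hj : (π p').1 = p'.1
    · left; rw [hj]
    · right
      exact (Der_le_ab hA hm1 h hB).trans (ab_cent hA hj)

/-- a minimal offender acts as a transposition -/
theorem exists_tr (M : SymKM (S : Subgroup G) P (zl (S : Subgroup G) P) ⊥ k m)
    (hA : Amb (S : Subgroup G) P (zl (S : Subgroup G) P)) (hm : 1 ≤ m) {A : Subgroup G}
    (h : MinOffM (zl (S : Subgroup G) P) (S : Subgroup G) A) : ∃ p q, Tr M.toSymK A p q := by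
  obtain ⟨⟨p, q, had⟩, -⟩ := exists_ad M hA hm h
  exact ⟨p, q, had.le.trans hA.TH, had.sw.1, had.sw.2.1, had.ex, had.all⟩

/-- **`TyD` for even-subset blocks** (S5). -/
theorem tyD_sym (hG : IsCharacteristicTwoType G) (hP : IsParS (S : Subgroup G) P)
    (hcv : FrameFF.cv (S : Subgroup G) P = ⊥) (hm : 2 ≤ m)
    (M : SymKM (S : Subgroup G) P (zl (S : Subgroup G) P) (FrameFF.cv (S : Subgroup G) P) k m) {A B : Subgroup G}
    (hAo : MinOffM (zl (S : Subgroup G) P) (S : Subgroup G) A)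
    (hBo : MinOffM (zl (S : Subgroup G) P) (S : Subgroup G) B) :
    ∃ N K : Subgroup G, TyD (S : Subgroup G) P A B N K := by
  rw [hcv] at M
  have hA : Amb (S : Subgroup G) P (zl (S : Subgroup G) P) := Half.amb_of_loc hG S hP.isLoc
  obtain ⟨p, q, h⟩ := exists_tr M hA (by omega) hAo
  obtain ⟨p', q', hB⟩ := exists_tr M hA (by omega) hBo
  exact ⟨_, _, tyD_of hA hm h hB⟩

end Cfsg.Agent.Omega.NO3S.SFive.TyS
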