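import Cfsg.Agent.Omega.NO3S.SFive.Fin
import Cfsg.Agent.Omega.NO3S.SFive.Gam
import Cfsg.Agent.Omega.NO3S.SFive.Four
import Cfsg.Agent.Omega.NO3S.SFive.Inst

/-!
# GammaFF (S5): helper75's #22081, complete: the output `OutD` of the frame `Fv`

`Fv.gamAll` : the bad chambers (618's `Fv.gam`); `Fv.outAll` : `∃ F' B s, OutD S P V M F F' B s`;
`out_of_wst` : the same from `WSt S P F`.
-/

set_option autoImplicit false
set_option linter.unusedSectionVars false

namespace Cfsg.Agent.Omega.NO3S.SFive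

open Subgroup Cfsg Cfsg.Agent.ZN Cfsg.Agent.Omega.MinPar Cfsg.Agent.Omega.Frame Cfsg.Agent.Omega.FrameNOFF
open Cfsg.Agent.Omega.NoFF.Basic (conj_conj mem_conj conj_le_iff comm_symm comm_mono)
open Cfsg.Agent.Omega.NOne.Flat (EE NN BadX EE_conj)
open Cfsg.Agent.Omega.NO3S.Level
open scoped Pointwise commutatorElement

universe u

variable {G : Type u} [Group G] [Finite G] {S : Sylow 2 G} {P V M F : Subgroup G}

namespace Fv

/-- **The bad chambers.** -/
theorem gamAll (h : Fv S P V M F) (ha : ∃ m ∈ DW S V M F, ¬ MulAut.conj m • zl (S : Subgroup G) P ≤ F) :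
    ∀ m ∈ M, BB S P V M (MulAut.conj m • F) ≤ (S : Subgroup G) →
      ¬ zl (S : Subgroup G) P ≤ EE V (MulAut.conj m • F) →
      GamO (S : Subgroup G) P V (MulAut.conj m • F) (BB S P V M (MulAut.conj m • F)) := by
  intro m hm hBS hUE
  have h' := h.conj hm
  obtain ⟨n, hn, hn2⟩ := h.act_conj hm ha
  obtain ⟨g1, g2, g3, g4, g5⟩ := h'.gam h'.bh h'.sq_BB hBS hUE ⟨n, hn.1, hn.2, le_BL' hn, hn2⟩
  exact ⟨g1, g2, g3, g4, g5⟩

/-- **The output of helper75's #22081.** -/
theorem outAll (h : Fv S P V M F) (hWS : NOne.Flat.WW V F ≤ (S : Subgroup G))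
    (hmov : ¬ NOne.Flat.WW V F ≤ centralizer (zl (S : Subgroup G) P : Set G)) :
    ∃ F' B s, OutD S P V M F F' B s := by
  have a := h.act_one hWS hmov
  have g := h.gamAll (h.act_ex a)
  exact h.out_of' hWS hmov (fun m hm h1 h2 => (g m hm h1 h2).cent) (h.four a g)

end Fv

/-- **`OutD` from `WSt`.** -/
theorem out_of_wst (w : WSt S P F) (hn : NonLoc P (CZ (S : Subgroup G)))
    (hall : ∀ R, IsParS (S : Subgroup G) R → R ≤ normalizer (zl (S : Subgroup G) P : Set G)) :
    ∃ F' B s, OutD S P (X0 (S : Subgroup G)) (M0 (S : Subgroup G)) F F' B s :=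
  (fv_of w hn hall).outAll w.WS (act_of w hn).mov

end Cfsg.Agent.Omega.NO3S.SFive
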