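import Cfsg.Agent.Omega.NO3S.SFive.Cell
import Cfsg.Agent.Omega.NO3S.Level.Cut
import Cfsg.Agent.Omega.NO3S.BetaFF.ActOf

/-!
# GammaFF: THEOREM SMALL (helper58 #21256 (4)) in the W-stage

`WSt S P F`, `V = X₀`, `M = M₀`: `Small V (Cls M F)`.  [`D = ⋂ 𝒳 ≠ 1`: `V ∩ O₂(C_G(D')) ≤ D` for `D' ≤ D`; so `Z(T) ≤ D`
for some chamber `T`, and `Z(T) ≤ D` implies `Z(T^p) ≤ D` for `p ∈ R ∈ P*(T)` (low) and `p ∈ N_M(Z(T))`; so `Z^M ≤ D ≤ F`,
`V_P ≤ F` is centralised by `W_F`.]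
-/

set_option autoImplicit false
set_option linter.unusedSectionVars false

namespace Cfsg.Agent.Omega.NO3S.SFive

open Subgroup Cfsg Cfsg.Agent.ZN Cfsg.Agent.Omega.MinPar Cfsg.Agent.Omega.Frame
open Cfsg.Agent.Omega.FrameNOFF (CZ)
open Cfsg.Agent.ZN.ChoiceBase (cj)
open Cfsg.Agent.Omega.NOne.Flat (conj_eq_of_norm EE_conj WW_conj conj_centralizer)
open Cfsg.Agent.Omega.NoFF.Basic (conj_conj mem_conj conj_le_iff conj_le_centralizer)
open Cfsg.Agent.Omega.NO3S.Level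
open scoped Pointwise

universe u

variable {G : Type u} [Group G] [Finite G] {S : Sylow 2 G} {P F : Subgroup G}

/-- **THEOREM SMALL.** -/
theorem small (w : WSt S P F) : Small (X0 (S : Subgroup G)) (Cls (M0 (S : Subgroup G)) F) := by
  intro 𝒳 h𝒳 hne pp v hv
  by_contra hv1
  have hc := w.ctx.char2
  set V := X0 (S : Subgroup G) with hV
  set M := M0 (S : Subgroup G) with hM
  have hMV : M ≤ normalizer (V : Set G) := M0_norm _
  set D : Subgroup G := sInf 𝒳 with hDdef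
  have hDF : ∀ F' ∈ 𝒳, D ≤ F' := fun F' hF' => sInf_le hF'
  have hvD : v ∈ D := by
    rw [hDdef, mem_sInf]
    exact hv
  have hD1 : D ≠ ⊥ := fun h => hv1 (by rw [h, mem_bot] at hvD; exact hvD)
  have hyp : ∀ F' ∈ 𝒳, NOne.Flat.Hyp V F' := by
    intro F' hF'
    obtain ⟨m, hm, rfl⟩ := h𝒳 hF'
    exact w.hyp.conj (hMV hm)
  obtain ⟨F₁, hF₁⟩ := hne
  have hDV : D ≤ V := (hDF F₁ hF₁).trans (hyp F₁ hF₁).F_le_V
  -- (a)
  have step : ∀ D' : Subgroup G, D' ≤ D → V ⊓ o2 (centralizer (D' : Set G)) ≤ D := by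
    intro D' hD'
    rw [hDdef, le_sInf_iff]
    refine pp _ fun F' hF' => ⟨?_, ?_⟩
    · exact BetaFF.le_EE_of_low (hyp F' hF') inf_le_left (hD'.trans (hDF F' hF')) inf_le_right
    · have h1 : NOne.Flat.WW V F' ≤ normalizer (V : Set G) := (hyp F' hF').W_norm_V
      have h2 : NOne.Flat.WW V F' ≤ centralizer (D' : Set G) :=
        NOne.Flat.Hyp.W_le_X.trans (centralizer_le (hD'.trans (hDF F' hF')))
      have h3 : NOne.Flat.WW V F' ≤ normalizer (o2 (centralizer (D' : Set G)) : Set G) :=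
        h2.trans (MinSimple.VModule.le_normalizer_o2 _)
      intro x hx
      have a1 := mem_normalizer_iff.1 (h1 hx)
      have a2 := mem_normalizer_iff.1 (h3 hx)
      rw [mem_normalizer_iff]
      intro y
      rw [mem_inf, mem_inf, a1 y, a2 y]
  -- (b)
  obtain ⟨m₀, hm₀, hZ₀⟩ : ∃ m ∈ M, MulAut.conj m • zc (S : Subgroup G) ≤ D := by
    have hK : K0 (S : Subgroup G) ≤ centralizer (D : Set G) := (K0_cent _).trans (centralizer_le hDV)
    obtain ⟨T, hT, hKT⟩ := ChoiceSit.exists_syl (S.isPGroup'.to_le (K0_le (S : Subgroup G))) hK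
    have hTM : T ≤ M := w.pgroup_le hT.2.1 hKT
    obtain ⟨n, hn, hnS⟩ := FFThm.exists_conj_le S (S_le_M0 _) hT.2.1 hTM
    refine ⟨n⁻¹, inv_mem hn, ?_⟩
    have hZV : MulAut.conj n⁻¹ • zc (S : Subgroup G) ≤ V := by
      rw [← conj_eq_of_norm (hMV (inv_mem hn))]
      exact conj_le_iff.2 w.zc_le_X0
    have hTS : T ≤ MulAut.conj n⁻¹ • (S : Subgroup G) := by
      have h1 := conj_le_iff (g := n⁻¹).2 (show MulAut.conj n • T ≤ (S : Subgroup G) from hnS)
      rwa [conj_conj, inv_mul_cancel, map_one, one_smul] at h1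
    have hZT : MulAut.conj n⁻¹ • zc (S : Subgroup G) ≤ centralizer (o2 (centralizer (D : Set G)) : Set G) := by
      refine le_trans (conj_le_centralizer (le_centralizer_iff.1 (Level.le_centralizer_zc _))) (centralizer_le ?_)
      exact (ChoiceSit.o2_le_syl hT).trans hTS
    have hZC : MulAut.conj n⁻¹ • zc (S : Subgroup G) ≤ centralizer (D : Set G) :=
      hZV.trans ((X0_comm _).trans (centralizer_le hDV))
    have h2 := w.char2 D hD1 hDV
    exact (le_inf hZV ((le_inf hZC hZT).trans h2)).trans (step D le_rfl)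
  -- (c)
  have hstep : ∀ g ∈ M, MulAut.conj g • zc (S : Subgroup G) ≤ D → ∀ R, IsParS (S : Subgroup G) R → ∀ p ∈ R,
      MulAut.conj (g * p) • zc (S : Subgroup G) ≤ D := by
    intro g hg hZ R hR p hp
    refine le_trans ?_ (step _ hZ)
    have h1 : MulAut.conj (g * p) • zc (S : Subgroup G) ≤ MulAut.conj g • zl (S : Subgroup G) R := by
      rw [← conj_conj]
      exact conj_le_iff.2 (le_iSup (fun g : R => (zc (S : Subgroup G)).map (MulAut.conj (g : G)).toMonoidHom) ⟨p, hp⟩)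
    refine h1.trans (le_inf ?_ ?_)
    · rw [← conj_eq_of_norm (hMV hg)]
      exact conj_le_iff.2 (zl_le_X0 w.hj (par_le hR))
    · have h2 := conj_le_iff (g := g).2 (w.low R hR)
      rwa [NOne.Flat.o2_conj, CZ, conj_centralizer] at h2
  -- (d)
  let Y : Subgroup G :=
    { carrier := {y | y ∈ M ∧ ∀ g ∈ M, MulAut.conj g • zc (S : Subgroup G) ≤ D ↔
        MulAut.conj (g * y) • zc (S : Subgroup G) ≤ D}
      one_mem' := ⟨one_mem _, fun g _ => by rw [mul_one]⟩
      mul_mem' := by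
        rintro a b ⟨ha, ha'⟩ ⟨hb, hb'⟩
        refine ⟨mul_mem ha hb, fun g hg => ?_⟩
        rw [ha' g hg, hb' _ (mul_mem hg ha), mul_assoc]
      inv_mem' := by
        rintro a ⟨ha, ha'⟩
        refine ⟨inv_mem ha, fun g hg => ?_⟩
        rw [ha' _ (mul_mem hg (inv_mem ha)), inv_mul_cancel_right] }
  have hnz : ∀ g y : G, y ∈ normalizer (zc (S : Subgroup G) : Set G) →
      MulAut.conj (g * y) • zc (S : Subgroup G) = MulAut.conj g • zc (S : Subgroup G) := by
    intro g y hy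
    rw [← conj_conj, conj_eq_of_norm hy]
  have hMY : M ≤ Y := by
    refine w.isLoc_M0.le_of_forall S ?_ ?_
    · rintro y ⟨hy, hyS⟩
      refine ⟨hy, fun g _ => ?_⟩
      rw [hnz g y (normalizer_le_normalizer_zc _ hyS)]
    · intro R hR hRM p hp
      by_cases hRZ : R ≤ normalizer (zc (S : Subgroup G) : Set G)
      · refine ⟨hRM hp, fun g _ => ?_⟩
        rw [hnz g p (hRZ hp)]
      · have hRs : IsParS (S : Subgroup G) R := ⟨hR, hRZ⟩
        refine ⟨hRM hp, fun g hg => ⟨fun h => hstep g hg h R hRs p hp, fun h => ?_⟩⟩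
        have h1 := hstep (g * p) (mul_mem hg (hRM hp)) h R hRs p⁻¹ (inv_mem hp)
        rwa [mul_inv_cancel_right] at h1
  have hall : ∀ m ∈ M, MulAut.conj m • zc (S : Subgroup G) ≤ D := by
    intro m hm
    have h1 := ((hMY (mul_mem (inv_mem hm₀) hm)).2 m₀ hm₀).1 hZ₀
    rwa [mul_inv_cancel_left] at h1
  -- (e)
  obtain ⟨n, hn, hF₁e⟩ := h𝒳 hF₁
  have hZF : ∀ m ∈ M, MulAut.conj m • zc (S : Subgroup G) ≤ F := by
    intro m hm
    have h1 := (hall (n * m) (mul_mem hn hm)).trans (hDF F₁ hF₁)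
    rw [hF₁e, ← conj_conj] at h1
    exact conj_le_iff.1 h1
  have hL : zl (S : Subgroup G) P ≤ F := iSup_le fun p => hZF p (par_le w.par p.2)
  apply w.mv
  rw [← IsParS.inf_centralizer S hc w.par]
  refine le_inf w.WS ?_
  exact NOne.Flat.Hyp.W_le_X.trans (centralizer_le hL)

end Cfsg.Agent.Omega.NO3S.SFive
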