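import Cfsg.Agent.Omega.NO3S.SFive.WCPlug
import Cfsg.Agent.Omega.NO3S.SFive.FinAll
import Cfsg.Agent.Omega.NO3S.SFive.Small
import Cfsg.Agent.Omega.NO3S.SFive.End

/-!
# GammaFF (S5): `Ends K FiveP`

* `five_false` : `FiveP G S P` and the type data `TyD` for two minimal offenders ⟹ `False`;
* **`endsFive : Ends K FiveP`**, for every class `K`.
-/

set_option autoImplicit false

namespace Cfsg.Agent.Omega.NO3S.SFive.EndsFive

open Subgroup Cfsg Cfsg.Agent.ZN Cfsg.Agent.Omega.MinPar Cfsg.Agent.Omega.Frame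
open Cfsg.Agent.Omega.NO3S.Level
open Cfsg.Agent.Omega.NOThreeL.NF (MinOffM)

universe u

variable {G : Type u} [Group G] [Finite G]

theorem five_false {S : Sylow 2 G} {P : Subgroup G} (h : FiveP G S P)
    (ty : IsCharacteristicTwoType G → IsParS (S : Subgroup G) P → FrameFF.cv (S : Subgroup G) P = ⊥ →
      ∀ A B : Subgroup G, MinOffM (zl (S : Subgroup G) P) (S : Subgroup G) A →
        MinOffM (zl (S : Subgroup G) P) (S : Subgroup G) B →
          ∃ N K : Subgroup G, TyD (S : Subgroup G) P A B N K) : False := by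
  obtain ⟨hpss, ⟨F, w⟩, hall, -⟩ := h
  have hn := hpss.nonLoc
  obtain ⟨F', B, s, o⟩ := out_of_wst w hn hall
  have v := fv_of w hn hall
  obtain ⟨N, K, t⟩ := ty v.ct v.par v.cvb _ _ o.min o.minB
  exact o.false t (small w) v.VS v.par.le v.PM v.MV v.LV v.ne (o2_le_cent v.ct v.par) v.t6 v.noOff

/-- **The ends of (S5).** -/
theorem endsFive (K : Cfsg.Agent.Omega.Frame.Cls.{u}) : Ends K FiveP where
  red := WCPlug.redH_five K
  w := WCPlug.wH_five K
  multiTwo := by
    intro G _ _ _ S P h F _ _ _ k hk _ M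
    refine (five_false h fun hc hP hcv A B hA hB => ?_).elim
    rw [hcv] at M
    exact NatD.tyd M hk (Half.amb_of_loc hc S hP.isLoc) hA hB
  multiQ := by
    intro G _ _ _ S P h F _ _ _ k hk _ M
    refine (five_false h fun hc hP hcv A B hA hB => ?_).elim
    rw [hcv] at M
    exact NatD.tyd M hk (Half.amb_of_loc hc S hP.isLoc) hA hB
  symTwo := by
    intro G _ _ _ S P h M
    exact (five_false h fun hc hP hcv A B hA hB => TyS.tyD_sym hc hP hcv le_rfl M hA hB).elim
  symBig := by
    intro G _ _ _ S P h m hm M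
    exact (five_false h fun hc hP hcv A B hA hB => TyS.tyD_sym hc hP hcv (by omega) M hA hB).elim
  symMany := by
    intro G _ _ _ S P h k m _ hm M
    exact (five_false h fun hc hP hcv A B hA hB => TyS.tyD_sym hc hP hcv hm M hA hB).elim

end Cfsg.Agent.Omega.NO3S.SFive.EndsFive
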