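import Cfsg.Agent.Omega.NO3S.SFive.GamC

/-!
# GammaFF (S5): the output `OutD` from the frame (helper75 #22081, cut #23010)

* `Fv.act_one` : `W_F ≤ S` moves `L`: `BetaFF.Act S P V F`;
* `Fv.out_of` : `OutD` from `[L ∩ E', B'] = 1` at the bad chamber and `C_E(b) ≤ I`, `b ∈ B - N`.
-/

set_option autoImplicit false
set_option linter.unusedSectionVars false

namespace Cfsg.Agent.Omega.NO3S.SFive

open Subgroup Cfsg Cfsg.Agent.ZN Cfsg.Agent.Omega.MinPar Cfsg.Agent.Omega.Frame Cfsg.Agent.Omega.FrameNOFF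
open Cfsg.Agent.Omega.NoFF.Basic (conj_conj mem_conj conj_le_iff comm_symm comm_mono)
open Cfsg.Agent.Omega.NOne.Flat (EE NN BadX EE_conj)
open Cfsg.Agent.Omega.FFThm (ElemM OffM NoOverM ConclM relIndex_le_iff)
open Cfsg.Agent.Omega.NOThreeL.NF (MinOffM RP)
open Cfsg.Agent.Omega.NOThreeL.Low.Key (BH)
open scoped Pointwise commutatorElement

universe u

variable {G : Type u} [Group G] [Finite G] {S : Sylow 2 G} {P V M F B : Subgroup G}

theorem relIndex_conj' (g : G) (A B : Subgroup G) :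
    (MulAut.conj g • A).relIndex (MulAut.conj g • B) = A.relIndex B := by
  rw [Subgroup.relIndex_pointwise_smul]

namespace Fv

variable (h : Fv S P V M F)
include h

theorem one_mem_DW (hWS : NOne.Flat.WW V F ≤ (S : Subgroup G)) : (1 : G) ∈ DW S V M F :=
  ⟨one_mem _, by rw [conj_one]; exact hWS⟩

theorem act_one (hWS : NOne.Flat.WW V F ≤ (S : Subgroup G))
    (hmov : ¬ NOne.Flat.WW V F ≤ centralizer (zl (S : Subgroup G) P : Set G)) : BetaFF.Act S P V F where
  char2 := h.ct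
  par := h.par
  cv := h.cvb
  hyp := h.toHyp
  PV := h.PM.trans h.MV
  LE := by
    have h1 := h.good_DW (h.one_mem_DW hWS)
    rwa [conj_one] at h1
  WS := hWS
  mov := hmov
  lines := by
    intro x hx
    have h1 := h.comm_DW (h.one_mem_DW hWS) (h.one_mem_DW hWS) hx
    rw [mul_one, conj_one] at h1
    exact le_centralizer_iff.1 h1

/-- **(0) of #22571** -/
theorem out_of' (hWS : NOne.Flat.WW V F ≤ (S : Subgroup G))
    (hmov : ¬ NOne.Flat.WW V F ≤ centralizer (zl (S : Subgroup G) P : Set G))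
    (gam : ∀ m ∈ M, BB S P V M (MulAut.conj m • F) ≤ (S : Subgroup G) →
      ¬ zl (S : Subgroup G) P ≤ EE V (MulAut.conj m • F) →
        zl (S : Subgroup G) P ⊓ EE V (MulAut.conj m • F) ≤
          centralizer ((BB S P V M (MulAut.conj m • F) : Subgroup G) : Set G))
    (four : ∀ b ∈ BB S P V M F, b ∉ NN V F → ∀ e ∈ EE V F, e * b = b * e → e ∈ BB S P V M F) :
    ∃ F' B s, OutD S P V M F F' B s := by
  have a := h.act_one hWS hmov
  have hLF : ¬ zl (S : Subgroup G) P ≤ F := by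
    intro h1
    exact hmov (NOne.Flat.Hyp.W_le_X.trans (centralizer_le h1))
  have ha : ∃ m ∈ DW S V M F, ¬ MulAut.conj m • zl (S : Subgroup G) P ≤ F :=
    ⟨1, h.one_mem_DW hWS, by rwa [conj_one]⟩
  have hI : ¬ V ⊓ BB S P V M F ≤ F := h.not_le_F ha le_rfl
  have hLB : zl (S : Subgroup G) P ≤ BB S P V M F := by
    have h1 := le_BL' (S := S) (P := P) (F := F) (h.one_mem_DW hWS)
    rwa [conj_one] at h1
  obtain ⟨m, hm, hBS, hBm, hUE⟩ := h.exists_bad ha
  have hg := gam m hm hBS hUE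
  have h' := h.conj hm
  have hI' : ¬ V ⊓ BB S P V M (MulAut.conj m • F) ≤ MulAut.conj m • F := h'.not_le_F (h.act_conj hm ha) le_rfl
  obtain ⟨h1, h2, h3, h4⟩ := h'.gam_of h'.bh h'.sq_BB hBS hUE hI' hg
  obtain ⟨h5, h6⟩ := h'.idx h'.bh h'.sq_BB hBS hUE hI'
  have e1 : (EE V (MulAut.conj m • F)).relIndex V = (EE V F).relIndex V := by
    have h7 := relIndex_conj' m (EE V F) V
    rwa [h.conj_V hm, EE_conj (h.MV hm)] at h7
  have e2 : (MulAut.conj m • F).relIndex (V ⊓ MulAut.conj m • BB S P V M F) = F.relIndex (V ⊓ BB S P V M F) := by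
    have h7 := relIndex_conj' m F (V ⊓ BB S P V M F)
    rwa [Subgroup.smul_inf, h.conj_V hm] at h7
  rw [h.BB_conj hm] at hBS hg h1 h2 h4 h6
  have hkey : F.relIndex (V ⊓ BB S P V M F) = (EE V F).relIndex V := by
    rw [← e1, ← e2, h6]
  refine ⟨_, _, _, out_of h.MV a h.noOver h.rp h.bh hLB hkey.le four hm hBS h1 hg h2 h3 ?_⟩
  rw [← e2]
  exact h4

end Fv

end Cfsg.Agent.Omega.NO3S.SFive
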