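import Cfsg.Agent.Omega.NO3S.Level.Cut
import Cfsg.Agent.Omega.NO3S.Act.Dich

/-!
# GammaFF (S5): the frame (helper75 #22081)

`V = X₀`, `M = M₀`, `L = V_P`.  An element `m ∈ M` stands for the chamber `S^m = conj m • S`, its line is
`L^m = conj m • L`.  `F` is a maximal bad subgroup of `V` (`Flat.Hyp V F`), `X = C_G(F)`, `E = EE V F`, `W = NOne.Flat.WW V F`,
`N = NN V F`.

* `Fv S P V M F` : the frame; `Fv.conj`;
* `BL S P F Δ` : `⟨L^(x m) : m ∈ Δ, x ∈ X⟩ F` for a set `Δ` of chambers;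
* `DW` : the chambers `≥ W`; `BB = BL DW`; `B1 = C_W(V ∩ B)`; `DB` : the chambers `≥ B1` with good line;
  `BBB = BL DB`.
-/

set_option autoImplicit false
set_option linter.unusedSectionVars false

namespace Cfsg.Agent.Omega.NO3S.SFive

/- `WW` is `NOne.Flat.WW` in this namespace (and not `NO3S.WW`). -/
export Cfsg.Agent.Omega.NOne.Flat (WW)

open Subgroup Cfsg Cfsg.Agent.ZN Cfsg.Agent.Omega.MinPar Cfsg.Agent.Omega.Frame Cfsg.Agent.Omega.FrameNOFF
open Cfsg.Agent.Omega.NOne.Flat (EE NN BadX)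
open Cfsg.Agent.Omega.FFThm (ElemM OffM NoOverM ConclM)
open Cfsg.Agent.Omega.NOThreeL.Low.Key (BH)
open scoped Pointwise

universe u

variable {G : Type u} [Group G] [Finite G]

/-- **The frame of (S5)** for a maximal bad subgroup `F` of `V`; `L = V_P`. -/
structure Fv (S : Sylow 2 G) (P V M F : Subgroup G) : Prop extends Cfsg.Agent.Omega.NOne.Flat.Hyp V F where
  ct : IsCharacteristicTwoType G
  par : IsParS (S : Subgroup G) P
  cvb : FrameFF.cv (S : Subgroup G) P = ⊥
  concl : ConclM (S : Subgroup G) P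
  noOver : NoOverM (zl (S : Subgroup G) P) P
  LV : zl (S : Subgroup G) P ≤ V
  VS : V ≤ (S : Subgroup G)
  /-- `L` is a proper subgroup of `V` -/
  ne : ¬ V ≤ zl (S : Subgroup G) P
  /-- (T6) -/
  t6 : V ⊓ centralizer (o2 P : Set G) ≤ zl (S : Subgroup G) P
  PM : P ≤ M
  MV : M ≤ normalizer (V : Set G)
  RM : o2 (centralizer (F : Set G)) ≤ M
  /-- the lines of the chambers `≥ W` are good -/
  good : ∀ m ∈ M, NOne.Flat.WW V F ≤ MulAut.conj m • (S : Subgroup G) → MulAut.conj m • zl (S : Subgroup G) P ≤ EE V F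
  /-- lines which normalise each other commute -/
  noffL : ∀ g : G, zl (S : Subgroup G) P ≤ normalizer ((MulAut.conj g • zl (S : Subgroup G) P : Subgroup G) : Set G) →
    MulAut.conj g • zl (S : Subgroup G) P ≤ normalizer (zl (S : Subgroup G) P : Set G) →
      MulAut.conj g • zl (S : Subgroup G) P ≤ centralizer (zl (S : Subgroup G) P : Set G)
  /-- **the principle** -/
  prin : ∀ A ≤ M, IsPGroup 2 A → ¬ A ≤ centralizer (V : Set G) → ∃ m ∈ M, MulAut.conj m • A ≤ (S : Subgroup G) ∧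
    ¬ MulAut.conj m • A ≤ centralizer (zl (S : Subgroup G) P : Set G)
  /-- no offender on `V` -/
  noOff : ∀ A ≤ normalizer (V : Set G), ¬ OffM V A

section defs

variable (S : Sylow 2 G) (P V M F : Subgroup G)

/-- `⟨L^(x m) : m ∈ Δ, x ∈ C_G(F)⟩ F` -/
def BL (Δ : Set G) : Subgroup G :=
  F ⊔ ⨆ m ∈ Δ, ⨆ x ∈ centralizer (F : Set G), MulAut.conj (x * m) • zl (S : Subgroup G) P

/-- the chambers over `W` -/
def DW : Set G := {m | m ∈ M ∧ NOne.Flat.WW V F ≤ MulAut.conj m • (S : Subgroup G)}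

/-- `B_F` -/
def BB : Subgroup G := BL S P F (DW S V M F)

/-- `B1_F = C_W(I)`, `I = V ∩ B` -/
def B1 : Subgroup G := NOne.Flat.WW V F ⊓ centralizer ((V ⊓ BB S P V M F : Subgroup G) : Set G)

/-- the chambers over `B1` with good line -/
def DB : Set G := {m | m ∈ M ∧ B1 S P V M F ≤ MulAut.conj m • (S : Subgroup G) ∧
  MulAut.conj m • zl (S : Subgroup G) P ≤ EE V F}

/-- `B2_F` -/
def BBB : Subgroup G := BL S P F (DB S P V M F)

end defs

end Cfsg.Agent.Omega.NO3S.SFive
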