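import Cfsg.Agent.Omega.NO3S.SFive.GamC
import Cfsg.Agent.Omega.NO3S.SFive.Alpha
import Cfsg.Agent.Omega.NOThreeL.NF.Final

/-!
# GammaFF (S5): `[L ∩ E, B] = 1` at a bad chamber (helper75 #22081 (2), cut #23010)

* `Fv.rho` : the centre `ρ = [E, b]` of `W`, `|ρ| = |[L, A]|` for the minimal offenders `A ≤ S` on `L`;
* `Fv.rho_le` : `[L ∩ E, B] ≠ 1` ⟹ `ρ ≤ L`; `Fv.comm_le` : then `[V, B] ≤ L`.
-/

set_option autoImplicit false
set_option linter.unusedSectionVars false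

namespace Cfsg.Agent.Omega.NO3S.SFive

open Subgroup Cfsg Cfsg.Agent.ZN Cfsg.Agent.Omega.MinPar Cfsg.Agent.Omega.Frame Cfsg.Agent.Omega.FrameNOFF
open Cfsg.Agent.Omega.NoFF.Basic (conj_conj mem_conj conj_le_iff comm_symm comm_mono)
open Cfsg.Agent.Omega.NOne.Flat (EE NN BadX EE_conj WW_conj)
open Cfsg.Agent.Omega.NOne.NearFF (c c_def)
open Cfsg.Agent.Omega.FFThm (ElemM OffM NoOverM ConclM relIndex_le_iff NatKM SymKM)
open Cfsg.Agent.Omega.NOThreeL.NF (MinOffM RP)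
open Cfsg.Agent.Omega.NOThreeL.Low.Key (BH c_eq_one' comm_of_c)
open scoped Pointwise commutatorElement

universe u

variable {G : Type u} [Group G] [Finite G] {S : Sylow 2 G} {P V M F B : Subgroup G}

theorem card_conj' (g : G) (A : Subgroup G) : Nat.card ↥(MulAut.conj g • A : Subgroup G) = Nat.card A :=
  (Nat.card_congr (A.equivMapOfInjective _ (MulAut.conj g).injective).toEquiv).symm

theorem relIndex_conj'' (g : G) (A C : Subgroup G) :
    (MulAut.conj g • A).relIndex (MulAut.conj g • C) = A.relIndex C := by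
  rw [Subgroup.relIndex_pointwise_smul]

namespace Fv

variable (h : Fv S P V M F)
include h

theorem root (bh : BH V F B) (hI : ¬ V ⊓ B ≤ F) (hle : F.relIndex (V ⊓ B) ≤ (EE V F).relIndex V) :
    Pas.Root V F (V ⊓ B) := by
  obtain ⟨b, hb, hbN⟩ := bh.exists_not_mem_NN hI
  intro r hr hrF r' hr' hrF' s hs
  obtain ⟨e, he, h1⟩ := (bh.root hle hr hrF hb hbN (c r s)).1 ⟨s, hs, rfl⟩
  exact (bh.root hle hr' hrF' hb hbN (c r s)).2 ⟨e, he, h1⟩

/-- **The centre `ρ`.** -/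
theorem rho (bh : BH V F B) (hle : F.relIndex (V ⊓ B) ≤ (EE V F).relIndex V)
    (ha : ∃ m ∈ M, NOne.Flat.WW V F ≤ MulAut.conj m • (S : Subgroup G) ∧
      MulAut.conj m • zl (S : Subgroup G) P ≤ B ∧ ¬ MulAut.conj m • zl (S : Subgroup G) P ≤ F) :
    ∃ ρ : Subgroup G, (∀ e ∈ EE V F, ∀ b ∈ B, c e b ∈ ρ) ∧
      (∃ A, MinOffM (zl (S : Subgroup G) P) (S : Subgroup G) A ∧
        Nat.card ρ = Nat.card ↥(⁅zl (S : Subgroup G) P, A⁆ : Subgroup G)) ∧ Nat.card ρ ≤ F.relIndex (V ⊓ B) := by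
  obtain ⟨m, hm, hW, hLB, hLF⟩ := ha
  set L := zl (S : Subgroup G) P with hL
  have hmi := inv_mem hm
  have hmV := h.MV hmi
  have h' := h.conj hmi
  have hLI : MulAut.conj m • L ≤ V ⊓ B := le_inf (h.conjLV hm) hLB
  have hI : ¬ V ⊓ B ≤ F := fun h1 => hLF (hLI.trans h1)
  have hroot := h.root bh hI hle
  have hroot' := hroot.conj hmV
  -- `W' = W^(m⁻¹) ≤ S`
  have hW' : NOne.Flat.WW V (MulAut.conj m⁻¹ • F) ≤ (S : Subgroup G) := by
    rw [← WW_conj hmV]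
    have h1 := (conj_le_iff (g := m⁻¹)).2 hW
    rwa [conj_conj, inv_mul_cancel, conj_one] at h1
  have hLI' : L ≤ MulAut.conj m⁻¹ • (V ⊓ B) := by
    have h1 := (conj_le_iff (g := m⁻¹)).2 hLI
    rwa [conj_conj, inv_mul_cancel, conj_one] at h1
  have hIE' : MulAut.conj m⁻¹ • (V ⊓ B) ≤ EE V (MulAut.conj m⁻¹ • F) := by
    rw [← EE_conj hmV]
    exact conj_le_iff.2 bh.I_le_E
  have hLF' : ¬ L ≤ MulAut.conj m⁻¹ • F := by
    intro h1
    apply hLF
    have h2 := (conj_le_iff (g := m)).2 h1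
    rwa [conj_conj, mul_inv_cancel, conj_one] at h2
  have hmov : ¬ NOne.Flat.WW V (MulAut.conj m⁻¹ • F) ≤ centralizer (L : Set G) := by
    intro h1
    apply hLF'
    rw [← h'.toHyp.cent_VW]
    exact le_inf h.LV (le_centralizer_iff.1 h1)
  have hmin := Pas.minOff_of_root h.ct h.par h.cvb h.concl h'.toHyp hroot' hIE' hLI' hW' hmov
  refine ⟨MulAut.conj m • ⁅L, NOne.Flat.WW V (MulAut.conj m⁻¹ • F)⁆, ?_, ⟨_, hmin, card_conj' _ _⟩, ?_⟩
  · intro e he b hb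
    by_cases hbN : b ∈ NN V F
    · rw [c_eq_one' (mem_centralizer_iff.1 hbN.2 e he)]
      exact one_mem _
    · obtain ⟨v, hv, hvF⟩ := SetLike.not_le_iff_exists.1 hLF'
      have hr : m * v * m⁻¹ ∈ V ⊓ B := by
        refine hLI ?_
        rw [mem_conj]
        have e1 : m⁻¹ * (m * v * m⁻¹) * m = v := by group
        rwa [e1]
      have hrF : m * v * m⁻¹ ∉ F := by
        intro h1
        apply hvF
        rw [mem_conj, inv_inv]
        exact h1
      obtain ⟨s, hs, h1⟩ := (bh.root hle hr hrF hb hbN (c e b)).2 ⟨e, he, rfl⟩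
      rw [← h1, mem_conj]
      have hs' : m⁻¹ * s * m ∈ NOne.Flat.WW V (MulAut.conj m⁻¹ • F) := by
        rw [← WW_conj hmV, mem_conj, inv_inv]
        have e1 : m * (m⁻¹ * s * m) * m⁻¹ = s := by group
        rwa [e1]
      have e1 : m⁻¹ * c (m * v * m⁻¹) s * m = ⁅v, m⁻¹ * s * m⁆ := by
        rw [c, commutatorElement_def]; group
      rw [e1]
      exact commutator_mem_commutator hv hs'
  · rw [card_conj', h.rp.card _ hmin]
    have h1 := relIndex_le_iff.1 (h.noOver _ (hW'.trans h.SP) hmin.off.toElemM)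
    refine h1.trans ?_
    have h2 : (centralizer (NOne.Flat.WW V (MulAut.conj m⁻¹ • F) : Set G)).relIndex L ≤
        (MulAut.conj m⁻¹ • F).relIndex L := by
      rw [← inf_relIndex_left L (centralizer _), ← inf_relIndex_left L (MulAut.conj m⁻¹ • F)]
      refine Subgroup.relIndex_le_of_le_left (le_inf inf_le_left fun x hx => ?_) (rne _ _)
      have h3 : x ∈ V ⊓ centralizer (NOne.Flat.WW V (MulAut.conj m⁻¹ • F) : Set G) := by
        rw [h'.toHyp.cent_VW]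
        exact hx.2
      exact h3.2
    refine h2.trans ((Subgroup.relIndex_le_of_le_right hLI' (rne _ _)).trans ?_)
    rw [relIndex_conj'']

/-- `[L ∩ E, B] ≠ 1` ⟹ `ρ ≤ L` -/
theorem rho_le (bh : BH V F B) (hsq : ∀ b ∈ B, b ^ 2 = 1) (hBS : B ≤ (S : Subgroup G))
    (hUE : ¬ zl (S : Subgroup G) P ≤ EE V F) {ρ : Subgroup G} (hρ : ∀ e ∈ EE V F, ∀ b ∈ B, c e b ∈ ρ)
    (hA : ∃ A, MinOffM (zl (S : Subgroup G) P) (S : Subgroup G) A ∧
        Nat.card ρ = Nat.card ↥(⁅zl (S : Subgroup G) P, A⁆ : Subgroup G))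
    (hρi : Nat.card ρ ≤ F.relIndex (V ⊓ B))
    (hne : ¬ zl (S : Subgroup G) P ⊓ EE V F ≤ centralizer (B : Set G)) : ρ ≤ zl (S : Subgroup G) P := by
  obtain ⟨A, hA, hAc⟩ := hA
  -- the case `|ρ| = 2`
  have two : Nat.card ρ = 2 → ρ ≤ zl (S : Subgroup G) P := by
    intro h2
    obtain ⟨e, he, heB⟩ := SetLike.not_le_iff_exists.1 hne
    obtain ⟨b, hb, hbe⟩ : ∃ b ∈ B, c e b ≠ 1 := by
      by_contra hall
      push Not at hall
      apply heB
      rw [mem_centralizer_iff]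
      exact fun b hb => (comm_of_c (hall b hb)).symm
    have h3 := hρ e he.2 b hb
    have h4 : c e b ∈ zl (S : Subgroup G) P := by
      have h5 := (mem_normalizer_iff.1 (h.SL (hBS hb)) e⁻¹).1 (inv_mem he.1)
      have e1 : c e b = e * (b * e⁻¹ * b⁻¹) := by rw [c]; group
      rw [e1]
      exact mul_mem he.1 h5
    have h6 : 2 ≤ Nat.card ↥(zpowers (c e b)) := by
      rw [Nat.card_zpowers]
      have h7 := orderOf_pos (c e b)
      have h8 : orderOf (c e b) ≠ 1 := fun h9 => hbe (orderOf_eq_one_iff.1 h9)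
      omega
    have h7 : zpowers (c e b) = ρ := Subgroup.eq_of_le_of_card_ge (zpowers_le.2 h3) (by rw [h2]; exact h6)
    rw [← h7]
    exact zpowers_le.2 h4
  rcases h.tpL with ⟨K, fK, fiK, cK, k, hk, ⟨N⟩⟩ | ⟨k, m, hk, hm, ⟨N⟩⟩
  · obtain ⟨i, hr⟩ := NOThreeL.NF.NatR.Rt.of (M := N) h.PL h.SP hA
    have h1 : Nat.card ρ = Nat.card K := by
      rw [hAc, hr.comm_eq h.PL h.SP, NOThreeL.NF.NatR.card_ln]
    by_cases hK : 4 ≤ Nat.card K
    · exact Cfsg.Agent.Omega.NO3S.SFive.alpha hK N h.ct h.par bh hsq hBS h.LV hUE (h1 ▸ hρi) hρ h1.le hne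
    · refine two ?_
      rcases card_field' (F := K) with h5 | h5
      · rw [h1, h5]
      · exact absurd h5 hK
  · refine two ?_
    have hAm := Half.amb_of_loc h.ct S h.par.isLoc
    obtain ⟨-, h2⟩ := NOThreeL.NF.SymRP.exists_ad N hAm (by omega) hA
    rw [hAc, h.rp.card A hA, h2]

/-- `[L ∩ E, B] ≠ 1` ⟹ `[V, B] ≤ L` -/
theorem comm_le (bh : BH V F B) (hsq : ∀ b ∈ B, b ^ 2 = 1) (hBS : B ≤ (S : Subgroup G))
    (hUE : ¬ zl (S : Subgroup G) P ≤ EE V F)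
    (ha : ∃ m ∈ M, NOne.Flat.WW V F ≤ MulAut.conj m • (S : Subgroup G) ∧
      MulAut.conj m • zl (S : Subgroup G) P ≤ B ∧ ¬ MulAut.conj m • zl (S : Subgroup G) P ≤ F)
    (hne : ¬ zl (S : Subgroup G) P ⊓ EE V F ≤ centralizer (B : Set G)) :
    ∀ v ∈ V, ∀ b ∈ B, c v b ∈ zl (S : Subgroup G) P := by
  have hI : ¬ V ⊓ B ≤ F := by
    obtain ⟨m, hm, -, h1, h2⟩ := ha
    exact fun h3 => h2 ((le_inf (h.conjLV hm) h1).trans h3)
  obtain ⟨hi1, hi2⟩ := h.idx bh hsq hBS hUE hI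
  obtain ⟨ρ, hρ, hA, hρi⟩ := h.rho bh hi2.ge ha
  have hle := h.rho_le bh hsq hBS hUE hρ hA hρi hne
  intro v hv b hb
  -- `v = l e`
  have hV : ∃ l ∈ zl (S : Subgroup G) P, l⁻¹ * v ∈ EE V F := by
    have hcos : NOne.Flat.Cos id (zl (S : Subgroup G) P) (EE V F) V (EE V F) :=
      ⟨fun u hu => h.LV hu, fun u _ u' _ => Iff.rfl⟩
    exact hcos.surj (by rw [hi1, hi2]) hv
  obtain ⟨l, hl, hle'⟩ := hV
  have e1 : v = l * (l⁻¹ * v) := by group
  rw [e1, h.toHyp.c_mul_left (h.LV hl) hle'.1 (bh.le_W hb)]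
  refine mul_mem ?_ (hle (hρ _ hle' b hb))
  have h5 := (mem_normalizer_iff.1 (h.SL (hBS hb)) l⁻¹).1 (inv_mem hl)
  have e2 : c l b = l * (b * l⁻¹ * b⁻¹) := by rw [c]; group
  rw [e2]
  exact mul_mem hl h5

end Fv

end Cfsg.Agent.Omega.NO3S.SFive
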