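import Cfsg.Agent.Omega.NO3S.SFive.Chamber
import Cfsg.Agent.Omega.NO3S.SFive.Out
import Cfsg.Agent.Omega.NO3S.Pas.Three

/-!
# GammaFF (S5): `B` at a bad chamber is a minimal offender on `L` (helper75 #22081 (2), cut #23010)

`B ≤ S`, `L ≰ E` and `[L ∩ E, B] = 1`.

* `Fv.idx` : `|I : F| = |V : E| = |L : L ∩ E|`;
* `Fv.gam_of` : `B` is a minimal offender on `L`, `[L, B] ∩ F = 1`, `|[L, B]| = |I : F|`.
-/

set_option autoImplicit false
set_option linter.unusedSectionVars false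

namespace Cfsg.Agent.Omega.NO3S.SFive

open Subgroup Cfsg Cfsg.Agent.ZN Cfsg.Agent.Omega.MinPar Cfsg.Agent.Omega.Frame Cfsg.Agent.Omega.FrameNOFF
open Cfsg.Agent.Omega.NOne.Flat (EE NN BadX)
open Cfsg.Agent.Omega.NOne.NearFF (c c_def)
open Cfsg.Agent.Omega.FFThm (ElemM OffM NoOverM ConclM relIndex_le_iff)
open Cfsg.Agent.Omega.NOThreeL.NF (MinOffM RP)
open Cfsg.Agent.Omega.NOThreeL.Low.Key (BH c_eq_one' comm_of_c)
open scoped Pointwise commutatorElement

universe u

variable {G : Type u} [Group G] [Finite G] {S : Sylow 2 G} {P V M F B : Subgroup G}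

theorem card_inf_mul' (X C : Subgroup G) : Nat.card ↥(X ⊓ C) * C.relIndex X = Nat.card X := by
  rw [← inf_relIndex_left X C]
  exact NOne.Flat.card_mul_relIndex' inf_le_left

namespace Fv

variable (h : Fv S P V M F)
include h

theorem rp : RP (S : Subgroup G) P := rp_of h.ct h.par h.cvb h.noOver h.concl

theorem tpL : NOThreeL.Low.Tp (S : Subgroup G) P := by
  have h1 := h.concl
  unfold ConclM at h1
  rw [h.cvb] at h1
  exact h1

/-- `|I : F| ≤ |L : L ∩ E|` -/
theorem three_le (bh : BH V F B) (hsq : ∀ b ∈ B, b ^ 2 = 1) (hBS : B ≤ (S : Subgroup G))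
    (hUE : ¬ zl (S : Subgroup G) P ≤ EE V F) : F.relIndex (V ⊓ B) ≤ (EE V F).relIndex (zl (S : Subgroup G) P) :=
  Pas.three h.ct h.par h.tpL bh hsq hBS h.LV hUE

/-- `|L : L ∩ E| ≤ |V : E|` -/
theorem relIndex_L_le : (EE V F).relIndex (zl (S : Subgroup G) P) ≤ (EE V F).relIndex V :=
  Subgroup.relIndex_le_of_le_right h.LV (rne _ _)

/-- `|V : E| = |I : F| = |L : L ∩ E|` -/
theorem idx (bh : BH V F B) (hsq : ∀ b ∈ B, b ^ 2 = 1) (hBS : B ≤ (S : Subgroup G))
    (hUE : ¬ zl (S : Subgroup G) P ≤ EE V F) (hI : ¬ V ⊓ B ≤ F) :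
    (EE V F).relIndex (zl (S : Subgroup G) P) = F.relIndex (V ⊓ B) ∧ (EE V F).relIndex V = F.relIndex (V ⊓ B) := by
  have h1 := h.three_le bh hsq hBS hUE
  have h2 := h.relIndex_L_le
  have h3 := bh.relIndex_V_le hI
  omega

/-- `C_L(B) ≤ E` -/
theorem cent_le_EE (bh : BH V F B) (hI : ¬ V ⊓ B ≤ F) {v : G} (hv : v ∈ V) (hvB : v ∈ centralizer (B : Set G)) :
    v ∈ EE V F := by
  obtain ⟨b, hb, hbN⟩ := bh.exists_not_mem_NN hI
  refine bh.mem_E_of_c hv hb hbN ?_
  rw [c_eq_one' (mem_centralizer_iff.1 hvB b hb).symm]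
  exact one_mem _

/-- **`B` is a minimal offender on `L`.** -/
theorem gam_of (bh : BH V F B) (hsq : ∀ b ∈ B, b ^ 2 = 1) (hBS : B ≤ (S : Subgroup G))
    (hUE : ¬ zl (S : Subgroup G) P ≤ EE V F) (hI : ¬ V ⊓ B ≤ F)
    (h1 : zl (S : Subgroup G) P ⊓ EE V F ≤ centralizer (B : Set G)) :
    MinOffM (zl (S : Subgroup G) P) (S : Subgroup G) B ∧ ⁅zl (S : Subgroup G) P, B⁆ ⊓ F = ⊥ ∧
      (EE V F).relIndex V ≤ (EE V F).relIndex (zl (S : Subgroup G) P) ∧
      F.relIndex (V ⊓ B) ≤ Nat.card ↥(⁅zl (S : Subgroup G) P, B⁆ : Subgroup G) := by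
  set L := zl (S : Subgroup G) P with hL
  have hLV : L ≤ V := h.LV
  obtain ⟨hi1, hi2⟩ := h.idx bh hsq hBS hUE hI
  obtain ⟨w, hw, hwE⟩ := SetLike.not_le_iff_exists.1 hUE
  have hBP : B ≤ P := hBS.trans h.SP
  -- `C_L(B) = L ∩ E`
  have hCL : L ⊓ centralizer (B : Set G) = L ⊓ EE V F :=
    le_antisymm (le_inf inf_le_left fun v hv => h.cent_le_EE bh hI (hLV hv.1) hv.2) (le_inf inf_le_left h1)
  have hidx : (centralizer (B : Set G)).relIndex L = F.relIndex (V ⊓ B) := by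
    rw [← hi1, ← inf_relIndex_left L, hCL, inf_relIndex_left]
  -- `C_B(L) ≤ N`
  have hCN : ∀ b ∈ B, b ∈ centralizer (L : Set G) → b ∈ NN V F := by
    intro b hb hbL
    refine bh.mem_NN_of_c (hLV hw) hwE hb ?_
    rw [c_eq_one' (mem_centralizer_iff.1 hbL w hw)]
    exact one_mem _
  have hle1 : (NN V F).relIndex B ≤ (centralizer (L : Set G)).relIndex B := by
    rw [← inf_relIndex_right (centralizer (L : Set G)) B, ← inf_relIndex_right (NN V F) B]
    exact Subgroup.relIndex_le_of_le_left (fun b hb => ⟨hCN b hb.2 hb.1, hb.2⟩) (rne _ _)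
  have hne : ¬ B ≤ centralizer (L : Set G) := by
    intro h2
    exact hwE (h.cent_le_EE bh hI (hLV hw) (le_centralizer_iff.1 h2 hw))
  have hel : ElemM L B :=
    { sq := fun b hb => by rw [hsq b hb]; exact one_mem _
      comm := fun a ha b hb => by
        have e : a * b * a⁻¹ * b⁻¹ = 1 := by rw [bh.B_comm ha hb]; group
        rw [e]; exact one_mem _ }
  have hoff : OffM L B :=
    { toElemM := hel
      ne := hne
      le := relIndex_le_iff.2 (by rw [hidx, ← bh.relIndex_B]; exact hle1) }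
  have hle2 : (centralizer (L : Set G)).relIndex B ≤ (NN V F).relIndex B := by
    have h2 := relIndex_le_iff.1 (h.noOver B hBP hel)
    rw [bh.relIndex_B, ← hidx]
    exact h2
  have heq : (centralizer (L : Set G)).relIndex B = F.relIndex (V ⊓ B) := by
    rw [← bh.relIndex_B]; exact le_antisymm hle2 hle1
  -- `B ∩ N = C_B(L)`
  have hNC : ∀ b ∈ B, b ∈ NN V F → b ∈ centralizer (L : Set G) := by
    have h2 : centralizer (L : Set G) ⊓ B ≤ NN V F ⊓ B := fun b hb => ⟨hCN b hb.2 hb.1, hb.2⟩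
    have h3 := card_inf_mul' B (centralizer (L : Set G))
    have h4 := card_inf_mul' B (NN V F)
    have h5 : Nat.card ↥(NN V F ⊓ B) ≤ Nat.card ↥(centralizer (L : Set G) ⊓ B) := by
      rw [heq] at h3
      rw [bh.relIndex_B] at h4
      rw [inf_comm] at h3 h4
      have h6 : 0 < F.relIndex (V ⊓ B) := Nat.pos_of_ne_zero (rne _ _)
      exact Nat.le_of_mul_le_mul_right (by rw [h3, h4]) h6
    intro b hb hbN
    have h6 := Subgroup.eq_of_le_of_card_ge h2 h5
    have h7 : b ∈ NN V F ⊓ B := ⟨hbN, hb⟩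
    rw [← h6] at h7
    exact h7.1
  have hmin : MinOffM L (S : Subgroup G) B :=
    { le := hBS
      off := hoff
      min := by
        intro A hA hoA
        obtain ⟨a, ha, haL⟩ := SetLike.not_le_iff_exists.1 hoA.ne
        have h2 : (centralizer (B : Set G)).relIndex L ≤ (centralizer (A : Set G)).relIndex L := by
          rw [← inf_relIndex_left L (centralizer (B : Set G)), ← inf_relIndex_left L (centralizer (A : Set G))]
          refine Subgroup.relIndex_le_of_le_left (le_inf inf_le_left fun v hv => ?_) (rne _ _)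
          refine h1 ⟨hv.1, bh.mem_E_of_c (hLV hv.1) (hA ha) (fun hN => haL (hNC a (hA ha) hN)) ?_⟩
          rw [c_eq_one' (mem_centralizer_iff.1 hv.2 a ha).symm]
          exact one_mem _
        have h3 := relIndex_le_iff.1 hoA.le
        rw [heq, ← hidx]
        exact h2.trans h3 }
  have hrp := h.rp
  have hcard : Nat.card ↥(⁅L, B⁆ : Subgroup G) = F.relIndex (V ⊓ B) := by
    rw [hrp.card B hmin, heq]
  refine ⟨hmin, ?_, by rw [hi1, hi2], hcard.ge⟩
  rw [eq_bot_iff]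
  rintro y ⟨hy, hyF⟩
  have hwB : w ∉ centralizer (B : Set G) := fun h2 => hwE (h.cent_le_EE bh hI (hLV hw) h2)
  obtain ⟨b, hb, h2⟩ := hrp.surj B hmin w hw hwB y hy
  have h3 : c w b = y⁻¹ := by rw [← h2, c]; group
  have h4 : b ∈ NN V F := bh.mem_NN_of_c (hLV hw) hwE hb (by rw [h3]; exact inv_mem hyF)
  have h5 := mem_centralizer_iff.1 (hNC b hb h4) w hw
  rw [mem_bot, ← h2, ← h5]; group

end Fv

end Cfsg.Agent.Omega.NO3S.SFive
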