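import Cfsg.Agent.Omega.NO3S.SFive.Cell

/-!
# GammaFF (S5): `[V, Λ'] ≤ N` (#22571 (4))

`B` acts on `V` with `[V, B] ≤ s N`, `K` centralises `s`, `Λ = ⟨B^y : y ∈ K⟩`: `Λ` is trivial on `V / sN` and centralises
`s`, so `Λ'` is trivial on `V / N`.
-/

set_option autoImplicit false
set_option linter.unusedSectionVars false

namespace Cfsg.Agent.Omega.NO3S.SFive

open Subgroup Cfsg
open Cfsg.Agent.Omega.NoFF.Basic (conj_conj mem_conj conj_le_iff)
open scoped Pointwise commutatorElement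

universe u

variable {G : Type u} [Group G] {V N s B K : Subgroup G}

theorem mem_sup_comm {A B : Subgroup G} (h : ∀ a ∈ A, ∀ b ∈ B, a * b = b * a) {x : G}
    (hx : x ∈ A ⊔ B) : ∃ a ∈ A, ∃ b ∈ B, x = a * b := by
  let T : Subgroup G :=
    { carrier := {x | ∃ a ∈ A, ∃ b ∈ B, x = a * b}
      one_mem' := ⟨1, one_mem _, 1, one_mem _, by simp⟩
      mul_mem' := by
        rintro _ _ ⟨a, ha, b, hb, rfl⟩ ⟨c, hc, d, hd, rfl⟩
        refine ⟨a * c, mul_mem ha hc, b * d, mul_mem hb hd, ?_⟩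
        have e := h c hc b hb
        calc a * b * (c * d) = a * (b * c) * d := by group
          _ = a * (c * b) * d := by rw [e]
          _ = _ := by group
      inv_mem' := by
        rintro _ ⟨a, ha, b, hb, rfl⟩
        refine ⟨a⁻¹, inv_mem ha, b⁻¹, inv_mem hb, ?_⟩
        rw [mul_inv_rev, h a⁻¹ (inv_mem ha) b⁻¹ (inv_mem hb)] }
  exact (sup_le (fun a ha => ⟨a, ha, 1, one_mem _, by simp⟩) fun b hb => ⟨1, one_mem _, b, hb, by simp⟩ :
    A ⊔ B ≤ T) hx

/-- `B` acts on `V` through `s N`. -/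
structure Ld (V N s B K : Subgroup G) : Prop where
  Vc : ∀ x ∈ V, ∀ y ∈ V, x * y = y * x
  NV : N ≤ V
  sV : s ≤ V
  BV : B ≤ normalizer (V : Set G)
  BN : B ≤ normalizer (N : Set G)
  KV : K ≤ normalizer (V : Set G)
  KN : K ≤ normalizer (N : Set G)
  Bs : B ≤ centralizer (s : Set G)
  Ks : K ≤ centralizer (s : Set G)
  comm : ⁅V, B⁆ ≤ s ⊔ N

namespace Ld

variable (h : Ld V N s B K)
include h

theorem Lam_le {T : Subgroup G} (hB : B ≤ T) (hK : K ≤ T) : Lam B K ≤ T :=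
  iSup_le fun y => by
    rintro x hx
    rw [mem_conj] at hx
    have h1 : (y : G) * ((y : G)⁻¹ * x * (y : G)) * (y : G)⁻¹ ∈ T :=
      mul_mem (mul_mem (hK y.2) (hB hx)) (inv_mem (hK y.2))
    have e : (y : G) * ((y : G)⁻¹ * x * (y : G)) * (y : G)⁻¹ = x := by group
    rwa [e] at h1

theorem V_le : Lam B K ≤ normalizer (V : Set G) := h.Lam_le h.BV h.KV
theorem N_le : Lam B K ≤ normalizer (N : Set G) := h.Lam_le h.BN h.KN
theorem s_le : Lam B K ≤ centralizer (s : Set G) := h.Lam_le h.Bs h.Ks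

/-- `g v g⁻¹ = v x n` -/
theorem form {g v : G} (hg : g ∈ Lam B K) (hv : v ∈ V) : ∃ x ∈ s, ∃ n ∈ N, g * v * g⁻¹ = v * (x * n) := by
  have h0 : ∀ a ∈ s ⊔ N, ∃ x ∈ s, ∃ n ∈ N, a = x * n := by
    intro a ha
    exact mem_sup_comm (fun x hx n hn => h.Vc x (h.sV hx) n (h.NV hn)) ha
  -- the set of the good `g`
  have key : Lam B K ≤ normalizer (V : Set G) ⊓ normalizer (N : Set G) ⊓ centralizer (s : Set G) :=
    le_inf (le_inf h.V_le h.N_le) h.s_le
  let T : Subgroup G :=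
    { carrier := {g | (g ∈ normalizer (V : Set G) ∧ g ∈ normalizer (N : Set G) ∧ g ∈ centralizer (s : Set G)) ∧
        ∀ v ∈ V, ∃ x ∈ s, ∃ n ∈ N, g * v * g⁻¹ = v * (x * n)}
      one_mem' := ⟨⟨one_mem _, one_mem _, one_mem _⟩, fun v _ => ⟨1, one_mem _, 1, one_mem _, by simp⟩⟩
      mul_mem' := by
        rintro a b ⟨⟨ha1, ha2, ha3⟩, ha⟩ ⟨⟨hb1, hb2, hb3⟩, hb⟩
        refine ⟨⟨mul_mem ha1 hb1, mul_mem ha2 hb2, mul_mem ha3 hb3⟩, fun v hv => ?_⟩
        obtain ⟨x, hx, n, hn, e⟩ := hb v hv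
        obtain ⟨x', hx', n', hn', e'⟩ := ha v hv
        have hax : a * x * a⁻¹ = x := by
          rw [mul_inv_eq_iff_eq_mul]
          exact (mem_centralizer_iff.1 ha3 x hx).symm
        have hn2 : a * n * a⁻¹ ∈ N := (mem_normalizer_iff.1 ha2 n).1 hn
        refine ⟨x' * x, mul_mem hx' hx, n' * (a * n * a⁻¹), mul_mem hn' hn2, ?_⟩
        have e1 : a * b * v * (a * b)⁻¹ = a * (b * v * b⁻¹) * a⁻¹ := by group
        have e2 : a * (v * (x * n)) * a⁻¹ = (a * v * a⁻¹) * (a * x * a⁻¹) * (a * n * a⁻¹) := by group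
        rw [e1, e, e2, e', hax]
        have c1 := h.Vc n' (h.NV hn') x (h.sV hx)
        calc v * (x' * n') * x * (a * n * a⁻¹) = v * x' * (n' * x) * (a * n * a⁻¹) := by group
          _ = v * x' * (x * n') * (a * n * a⁻¹) := by rw [c1]
          _ = _ := by group
      inv_mem' := by
        rintro a ⟨⟨ha1, ha2, ha3⟩, ha⟩
        refine ⟨⟨inv_mem ha1, inv_mem ha2, inv_mem ha3⟩, fun v hv => ?_⟩
        have hv' : a⁻¹ * v * a ∈ V := by
          have := (mem_normalizer_iff.1 (inv_mem ha1) v).1 hv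
          rwa [inv_inv] at this
        obtain ⟨x, hx, n, hn, e⟩ := ha _ hv'
        have e1 : a * (a⁻¹ * v * a) * a⁻¹ = v := by group
        rw [e1] at e
        refine ⟨x⁻¹, inv_mem hx, n⁻¹, inv_mem hn, ?_⟩
        rw [inv_inv]
        have c1 := h.Vc x⁻¹ (h.sV (inv_mem hx)) n⁻¹ (h.NV (inv_mem hn))
        rw [c1]
        calc a⁻¹ * v * a = v * (v⁻¹ * (a⁻¹ * v * a)) := by group
          _ = v * ((a⁻¹ * v * a * (x * n))⁻¹ * (a⁻¹ * v * a)) := by rw [← e]
          _ = v * (n⁻¹ * x⁻¹) := by group }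
  have hT : Lam B K ≤ T := by
    refine iSup_le fun y => ?_
    rintro g hg
    have hgL : g ∈ Lam B K := (le_iSup (fun y : K => MulAut.conj (y : G) • B) y) hg
    refine ⟨⟨(key hgL).1.1, (key hgL).1.2, (key hgL).2⟩, fun v hv => ?_⟩
    rw [mem_conj] at hg
    -- `v' = y⁻¹ v y`
    have hyV := h.KV y.2
    have hv' : (y : G)⁻¹ * v * y ∈ V := by
      have := (mem_normalizer_iff.1 (inv_mem hyV) v).1 hv
      rwa [inv_inv] at this
    have h1 : ⁅((y : G)⁻¹ * v * y)⁻¹, (y : G)⁻¹ * g * y⁆ ∈ s ⊔ N :=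
      h.comm (commutator_mem_commutator (inv_mem hv') hg)
    obtain ⟨x, hx, n, hn, e⟩ := h0 _ h1
    have hyx : (y : G) * x * (y : G)⁻¹ = x := by
      rw [mul_inv_eq_iff_eq_mul]
      exact (mem_centralizer_iff.1 (h.Ks y.2) x hx).symm
    refine ⟨x, hx, (y : G) * n * (y : G)⁻¹, (mem_normalizer_iff.1 (h.KN y.2) n).1 hn, ?_⟩
    have e1 : (y : G) * (x * n) * (y : G)⁻¹ = x * ((y : G) * n * (y : G)⁻¹) := by
      have : (y : G) * (x * n) * (y : G)⁻¹ = (y : G) * x * (y : G)⁻¹ * ((y : G) * n * (y : G)⁻¹) := by group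
      rw [this, hyx]
    rw [← e1, ← e, commutatorElement_def]
    group
  exact (hT hg).2 v hv

/-- **`[V, Λ'] ≤ N`** -/
theorem der {d v : G} (hd : d ∈ Der B K) (hv : v ∈ V) : d * v * d⁻¹ * v⁻¹ ∈ N := by
  let T : Subgroup G :=
    { carrier := {g | (g ∈ normalizer (V : Set G) ∧ g ∈ normalizer (N : Set G)) ∧ ∀ v ∈ V, g * v * g⁻¹ * v⁻¹ ∈ N}
      one_mem' := ⟨⟨one_mem _, one_mem _⟩, fun v _ => by simp⟩
      mul_mem' := by
        rintro a b ⟨⟨ha1, ha2⟩, ha⟩ ⟨⟨hb1, hb2⟩, hb⟩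
        refine ⟨⟨mul_mem ha1 hb1, mul_mem ha2 hb2⟩, fun v hv => ?_⟩
        have e : a * b * v * (a * b)⁻¹ * v⁻¹ = a * (b * v * b⁻¹ * v⁻¹) * a⁻¹ * (a * v * a⁻¹ * v⁻¹) := by group
        rw [e]
        exact mul_mem ((mem_normalizer_iff.1 ha2 _).1 (hb v hv)) (ha v hv)
      inv_mem' := by
        rintro a ⟨⟨ha1, ha2⟩, ha⟩
        refine ⟨⟨inv_mem ha1, inv_mem ha2⟩, fun v hv => ?_⟩
        have e : a⁻¹ * v * a⁻¹⁻¹ * v⁻¹ = a⁻¹ * (a * v * a⁻¹ * v⁻¹)⁻¹ * a⁻¹⁻¹ := by group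
        rw [e]
        exact (mem_normalizer_iff.1 (inv_mem ha2) _).1 (inv_mem (ha v hv)) }
  have hT : Der B K ≤ T := by
    rw [Der, commutator_le]
    intro a ha b hb
    refine ⟨⟨?_, ?_⟩, fun w hw => ?_⟩
    · exact h.V_le (by
        rw [commutatorElement_def]
        exact mul_mem (mul_mem (mul_mem ha hb) (inv_mem ha)) (inv_mem hb))
    · exact h.N_le (by
        rw [commutatorElement_def]
        exact mul_mem (mul_mem (mul_mem ha hb) (inv_mem ha)) (inv_mem hb))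
    · -- `w = (b a) v (b a)⁻¹`
      have hba : b * a ∈ normalizer (V : Set G) := mul_mem (h.V_le hb) (h.V_le ha)
      have hv : (b * a)⁻¹ * w * (b * a) ∈ V := by
        have := (mem_normalizer_iff.1 (inv_mem hba) w).1 hw
        rwa [inv_inv] at this
      set v := (b * a)⁻¹ * w * (b * a) with hvdef
      have ew : w = b * a * v * (b * a)⁻¹ := by rw [hvdef]; group
      obtain ⟨x, hx, n, hn, e⟩ := h.form ha hv
      obtain ⟨x', hx', n', hn', e'⟩ := h.form hb hv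
      have hax' : a * x' * a⁻¹ = x' := by
        rw [mul_inv_eq_iff_eq_mul]
        exact (mem_centralizer_iff.1 (h.s_le ha) x' hx').symm
      have hbx : b * x * b⁻¹ = x := by
        rw [mul_inv_eq_iff_eq_mul]
        exact (mem_centralizer_iff.1 (h.s_le hb) x hx).symm
      have hn1 : b * n * b⁻¹ ∈ N := (mem_normalizer_iff.1 (h.N_le hb) n).1 hn
      have hn2 : a * n' * a⁻¹ ∈ N := (mem_normalizer_iff.1 (h.N_le ha) n').1 hn'
      -- `b a v (b a)⁻¹ = v x' n' x (b n b⁻¹)`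
      have e1 : b * a * v * (b * a)⁻¹ = v * (x' * n') * (x * (b * n * b⁻¹)) := by
        have : b * a * v * (b * a)⁻¹ = b * (a * v * a⁻¹) * b⁻¹ := by group
        rw [this, e]
        have : b * (v * (x * n)) * b⁻¹ = (b * v * b⁻¹) * ((b * x * b⁻¹) * (b * n * b⁻¹)) := by group
        rw [this, e', hbx]
      have e2 : a * b * v * (a * b)⁻¹ = v * (x * n) * (x' * (a * n' * a⁻¹)) := by
        have : a * b * v * (a * b)⁻¹ = a * (b * v * b⁻¹) * a⁻¹ := by group
        rw [this, e']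
        have : a * (v * (x' * n')) * a⁻¹ = (a * v * a⁻¹) * ((a * x' * a⁻¹) * (a * n' * a⁻¹)) := by group
        rw [this, e, hax']
      have e3 : ⁅a, b⁆ * w * ⁅a, b⁆⁻¹ = a * b * v * (a * b)⁻¹ := by
        rw [ew, commutatorElement_def]; group
      rw [e3, e2, ew, e1]
      have cV := h.Vc
      have hxV := h.sV hx
      have hx'V := h.sV hx'
      have hnV := h.NV hn
      have hn'V := h.NV hn'
      have hn1V := h.NV hn1
      have hn2V := h.NV hn2
      -- `v (x n) (x' m') ((v (x' n') (x m)))⁻¹ = n m' (n' m)⁻¹`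
      have e4 : v * (x * n) * (x' * (a * n' * a⁻¹)) =
          (n * (a * n' * a⁻¹)) * (v * (x * x')) := by
        have c1 : n * x' = x' * n := cV n hnV x' hx'V
        have c2 : (v * (x * x')) * (n * (a * n' * a⁻¹)) = (n * (a * n' * a⁻¹)) * (v * (x * x')) :=
          cV _ (mul_mem hv (mul_mem hxV hx'V)) _ (mul_mem hnV hn2V)
        calc v * (x * n) * (x' * (a * n' * a⁻¹)) = v * x * (n * x') * (a * n' * a⁻¹) := by group
          _ = v * x * (x' * n) * (a * n' * a⁻¹) := by rw [c1]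
          _ = (v * (x * x')) * (n * (a * n' * a⁻¹)) := by group
          _ = _ := c2
      have e5 : v * (x' * n') * (x * (b * n * b⁻¹)) = (n' * (b * n * b⁻¹)) * (v * (x * x')) := by
        have c1 : n' * x = x * n' := cV n' hn'V x hxV
        have c3 : x' * x = x * x' := cV x' hx'V x hxV
        have c2 : (v * (x * x')) * (n' * (b * n * b⁻¹)) = (n' * (b * n * b⁻¹)) * (v * (x * x')) :=
          cV _ (mul_mem hv (mul_mem hxV hx'V)) _ (mul_mem hn'V hn1V)
        calc v * (x' * n') * (x * (b * n * b⁻¹)) = v * x' * (n' * x) * (b * n * b⁻¹) := by group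
          _ = v * x' * (x * n') * (b * n * b⁻¹) := by rw [c1]
          _ = v * (x' * x) * n' * (b * n * b⁻¹) := by group
          _ = v * (x * x') * n' * (b * n * b⁻¹) := by rw [c3]
          _ = (v * (x * x')) * (n' * (b * n * b⁻¹)) := by group
          _ = _ := c2
      rw [e4, e5]
      have e6 : n * (a * n' * a⁻¹) * (v * (x * x')) * (n' * (b * n * b⁻¹) * (v * (x * x')))⁻¹ =
          n * (a * n' * a⁻¹) * (n' * (b * n * b⁻¹))⁻¹ := by group
      rw [e6]
      exact mul_mem (mul_mem hn hn2) (inv_mem (mul_mem hn' hn1))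
  exact (hT hd).2 v hv

end Ld

end Cfsg.Agent.Omega.NO3S.SFive
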