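import Cfsg.Agent.Omega.NOne.Flat.Conj
import Cfsg.Agent.Omega.NOThreeL.NF.Defs

/-!
# GammaFF (S5): the literals (helper422, THEOREM (S5) #22571)

`V = X₀`, `L = V_P`, `F` a maximal bad subgroup, `E_F`, `W_F` (`NOne/Flat/Base.lean`).

* `Ctr V F ρ` : `ρ ≤ F`, and every `W_F`-invariant `Y ≤ E_F`, `Y ≰ F`, contains `ρ`
  [`[r, W_F] = ρ` for `r ∈ I - F`, `[e, B_F] = ρ` for `e ∈ E - I`];
* `OutD S P V M F F' B s` : the output of #22081 (2), (7): `F` is active at `S` (`W_F ≤ S` is ONE root group / one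
  transposition on `L`: `MinOffM`), `F'` is an `M`-conjugate of `F`, `B = B_F' ≤ S` is one root group / one
  transposition on `L`, `L ∩ E' ≤ C(B)`, `[L, B] ∩ F' = 1`, `s = [E', B]`, `[V, B] ≤ s [L, B]`,
  `|C_V(B) : F'| ≤ |[L, B]|`;
* `Small V 𝓕` : THEOREM SMALL (helper58 #21256 (4)).
-/

set_option autoImplicit false

namespace Cfsg.Agent.Omega.NO3S.SFive

open Subgroup Cfsg Cfsg.Agent.ZN
open Cfsg.Agent.Omega.NOne.Flat (Hyp EE WW)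
open Cfsg.Agent.Omega.NOThreeL.NF (MinOffM)
open scoped Pointwise

universe u

variable {G : Type u} [Group G]

/-- `ρ` is the centre of `W_F`. -/
structure Ctr (V F ρ : Subgroup G) : Prop where
  le : ρ ≤ F
  mem : ∀ Y : Subgroup G, Y ≤ EE V F → WW V F ≤ normalizer (Y : Set G) → ¬ Y ≤ F → ρ ≤ Y

/-- The output of #22081 (2), (7). -/
structure OutD [Finite G] (S : Sylow 2 G) (P V M F F' B s : Subgroup G) : Prop where
  hyp : Hyp V F
  WS : WW V F ≤ (S : Subgroup G)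
  min : MinOffM (zl (S : Subgroup G) P) (S : Subgroup G) (WW V F)
  ctr : Ctr V F ⁅zl (S : Subgroup G) P, WW V F⁆
  conj : ∃ m ∈ M, F' = MulAut.conj m • F
  BS : B ≤ (S : Subgroup G)
  minB : MinOffM (zl (S : Subgroup G) P) (S : Subgroup G) B
  BE : zl (S : Subgroup G) P ⊓ EE V F' ≤ centralizer (B : Set G)
  dis : ⁅zl (S : Subgroup G) P, B⁆ ⊓ F' = ⊥
  ctr' : Ctr V F' s
  sB : s ≤ centralizer (B : Set G)
  comm : ⁅V, B⁆ ≤ s ⊔ ⁅zl (S : Subgroup G) P, B⁆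
  idx : F'.relIndex (V ⊓ centralizer (B : Set G)) ≤ Nat.card ↥(⁅zl (S : Subgroup G) P, B⁆ : Subgroup G)

/-- **THEOREM SMALL** for the class `𝓕`: if every `Y` with `Y ≤ E_F`, `W_F ≤ N(Y)` for all `F ∈ 𝒳` lies in all `F ∈ 𝒳`,
then the intersection of the `F ∈ 𝒳` is trivial. -/
def Small (V : Subgroup G) (𝓕 : Set (Subgroup G)) : Prop :=
  ∀ 𝒳 ⊆ 𝓕, 𝒳.Nonempty →
    (∀ Y : Subgroup G, (∀ F ∈ 𝒳, Y ≤ EE V F ∧ WW V F ≤ normalizer (Y : Set G)) → ∀ F ∈ 𝒳, Y ≤ F) →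
      ∀ v : G, (∀ F ∈ 𝒳, v ∈ F) → v = 1

/-- The class of `F`. -/
def Cls (M F : Subgroup G) : Set (Subgroup G) := {F' | ∃ m ∈ M, F' = MulAut.conj m • F}

end Cfsg.Agent.Omega.NO3S.SFive
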