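import Cfsg.Agent.Omega.NOThreeL.NF.Nat
import Cfsg.Agent.Omega.NO1.NSix.Semi
import Cfsg.Agent.Omega.NatPair.NormP2

/-!
# GammaFF (S5): one block of a sum of natural modules (helper304)

`W` is the sum of `k` natural `SL₂(F)`-modules, `F` of characteristic 2.

* `oneG M j` : the elements of `P` which act as an element of `SL₂(F)` on the block `j` and trivially on the others;
* `Fl M j H` : `H ≤ oneG M j` induces `SL₂(F)` on the block `j`;
* `exists_third` : for nonzero `x`, `y` there is `z` independent of `x` and of `y`;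
* `exists_comm` : independent `x`, `y` are conjugate under a commutator `[X, Y]` of `SL₂(F)`;
* `Fl.irr` : if `H` induces `SL₂(F)` on the block `j`, then `[H, H]` is irreducible (and nontrivial) on the block.
-/

set_option autoImplicit false
set_option linter.unusedSectionVars false

namespace Cfsg.Agent.Omega.NO3S.SFive.NatD

open Subgroup Cfsg Cfsg.Agent.ZN Cfsg.Agent.ZN.ChoiceBase
open Cfsg.Agent.Omega.FFThm (NatK NatKM)
open Cfsg.Agent.Omega.Half (Amb)
open Cfsg.Agent.Omega.Half.NatA (fac mem_fac Mv)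
open Cfsg.Agent.Omega.NOThreeL.NF (MinOffM)
open Cfsg.Agent.Omega.NOThreeL.NF.NatR
open Cfsg.Agent.Omega.NatPair (ap ap_mul ap_one ap_inv_ap ap_zero' ap_one' ext2 exists_ap dt)
open Cfsg.Agent.Omega.NO1.NSix (em em_mem e_em_self e_em_ne em_fac em_eq mem_of_em)
open Cfsg.Agent.Lib.SL2Mat
open scoped commutatorElement

universe u

section field

variable {F : Type} [Field F]

/-- a third direction -/
theorem exists_third {x y : Fin 2 → F} (hx : x ≠ 0) (hy : y ≠ 0) : ∃ z : Fin 2 → F, dt x z ≠ 0 ∧ dt z y ≠ 0 := by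
  by_cases h : dt x y = 0
  · unfold dt at h
    by_cases h0 : x 0 = 0
    · have h1 : x 1 ≠ 0 := fun h1 => hx (by
        funext i; fin_cases i
        · exact h0
        · exact h1)
      rw [h0, zero_mul, zero_sub, neg_eq_zero] at h
      have hy0 : y 0 = 0 := (mul_eq_zero.1 h).resolve_left h1
      have hy1 : y 1 ≠ 0 := fun h1 => hy (by
        funext i; fin_cases i
        · exact hy0
        · exact h1)
      exact ⟨![1, 0], by simp [dt, h1], by simp [dt, hy1]⟩
    · have hy0 : y 0 ≠ 0 := by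
        intro hy0
        rw [hy0, mul_zero, sub_zero] at h
        have hy1 := (mul_eq_zero.1 h).resolve_left h0
        exact hy (by
          funext i; fin_cases i
          · exact hy0
          · exact hy1)
      exact ⟨![0, 1], by simp [dt, h0], by simp [dt, hy0]⟩
  · refine ⟨x + y, ?_, ?_⟩
    · have e : dt x (x + y) = dt x y := by simp only [dt, Pi.add_apply]; ring
      rwa [e]
    · have e : dt (x + y) y = dt x y := by simp only [dt, Pi.add_apply]; ring
      rwa [e]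

/-- the transvection `z ↦ z + c ⟨a, z⟩ a` -/
def tv (a : Fin 2 → F) (c : F) : Matrix.SpecialLinearGroup (Fin 2) F :=
  mk (1 - c * a 0 * a 1) (c * a 0 * a 0) (-(c * a 1 * a 1)) (1 + c * a 0 * a 1) (by ring)

theorem ap_tv (a : Fin 2 → F) (c : F) (z : Fin 2 → F) : ap (tv a c) z = z + (c * dt a z) • a := by
  apply ext2
  · rw [ap_zero', tv, mk_00, mk_01]
    simp only [dt, Pi.add_apply, Pi.smul_apply, smul_eq_mul]
    ring
  · rw [ap_one', tv, mk_10, mk_11]
    simp only [dt, Pi.add_apply, Pi.smul_apply, smul_eq_mul]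
    ring

theorem ap_tv_tv [CharP F 2] (a : Fin 2 → F) (c : F) (z : Fin 2 → F) : ap (tv a c) (ap (tv a c) z) = z := by
  rw [ap_tv, ap_tv]
  funext i
  simp only [dt, Pi.add_apply, Pi.smul_apply, smul_eq_mul]
  have h2 : (2 : F) = 0 := CharTwo.two_eq_zero
  linear_combination (c * (a 0 * z 1 - a 1 * z 0) * a i) * h2

theorem ap_tv_inv [CharP F 2] (a : Fin 2 → F) (c : F) (z : Fin 2 → F) : ap (tv a c)⁻¹ z = ap (tv a c) z := by
  have h := ap_inv_ap (tv a c) (ap (tv a c) z)
  rwa [ap_tv_tv] at h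

/-- independent vectors are conjugate under a commutator -/
theorem exists_comm [CharP F 2] {x y : Fin 2 → F} (h : dt x y ≠ 0) :
    ∃ X Y : Matrix.SpecialLinearGroup (Fin 2) F, ap (X * Y * X⁻¹ * Y⁻¹) x = y := by
  have h2 : (2 : F) = 0 := CharTwo.two_eq_zero
  set u : Fin 2 → F := x + y with hu
  set c : F := (dt x y)⁻¹ with hc
  have hcd : c * dt x y = 1 := inv_mul_cancel₀ h
  have hxu : dt x u = dt x y := by simp only [hu, dt, Pi.add_apply]; ring
  have hux : dt u x = dt x y := by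
    simp only [hu, dt, Pi.add_apply]
    linear_combination (x 1 * y 0 - x 0 * y 1) * h2
  have hxx : dt x x = 0 := by simp only [dt]; ring
  have huu : dt u u = 0 := by simp only [dt]; ring
  have e1 : ap (tv u c) x = x + u := by rw [ap_tv, hux, hcd, one_smul]
  have exx : x + (x + u) = u := by
    funext i
    simp only [Pi.add_apply]
    linear_combination (x i) * h2
  refine ⟨tv x c, tv u c, ?_⟩
  rw [ap_mul, ap_mul, ap_mul, ap_tv_inv, ap_tv_inv, e1]
  have e2 : ap (tv x c) (x + u) = u := by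
    rw [ap_tv]
    have e : dt x (x + u) = dt x y := by
      rw [← hxu]; simp only [dt, Pi.add_apply]; ring
    rw [e, hcd, one_smul]
    funext i
    simp only [Pi.add_apply]
    linear_combination (x i) * h2
  have e3 : ap (tv u c) u = u := by rw [ap_tv, huu, mul_zero, zero_smul, add_zero]
  have e4 : ap (tv x c) u = u + x := by rw [ap_tv, hxu, hcd, one_smul]
  rw [e2, e3, e4]
  funext i
  simp only [hu, Pi.add_apply]
  linear_combination (x i) * h2

theorem dt_eq_of_ap {X : Matrix.SpecialLinearGroup (Fin 2) F} {x : Fin 2 → F} :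
    ap X⁻¹ x 1 = dt (ap X ![1, 0]) x := by
  have h := NatPair.NormLev.Co.dt_ap X ![1, 0] (ap X⁻¹ x)
  have e : ap X (ap X⁻¹ x) = x := by
    have := ap_inv_ap X⁻¹ x
    rwa [inv_inv] at this
  rw [e] at h
  rw [h]
  simp [dt]

end field

section grp

variable {G : Type u} [Group G] {F : Type} [Field F] {S P W : Subgroup G} {k : ℕ} (M : NatKM F S P W ⊥ k)

/-- the elements of `P` which act on the block `j` only, as an element of `SL₂(F)` -/
def oneG (hPW : P ≤ normalizer (W : Set G)) (j : Fin k) : Subgroup G where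
  carrier := {g | g ∈ P ∧ ∃ X, Ac M g (Pi.mulSingle j X)}
  mul_mem' := by
    rintro a b ⟨ha, X, hX⟩ ⟨hb, Y, hY⟩
    refine ⟨mul_mem ha hb, X * Y, ?_⟩
    rw [Pi.mulSingle_mul]
    exact Ac.mul hPW hb hX hY
  one_mem' := ⟨one_mem _, 1, by rw [Pi.mulSingle_one]; exact ac_one (one_mem _)⟩
  inv_mem' := by
    rintro a ⟨ha, X, hX⟩
    refine ⟨inv_mem ha, X⁻¹, ?_⟩
    rw [Pi.mulSingle_inv]
    exact hX.inv hPW ha

variable {M} {hPW : P ≤ normalizer (W : Set G)} {j : Fin k}

theorem mem_oneG {g : G} : g ∈ oneG M hPW j ↔ g ∈ P ∧ ∃ X, Ac M g (Pi.mulSingle j X) := Iff.rfl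

theorem oneG_le : oneG M hPW j ≤ P := fun _ h => h.1

theorem ac_single_conj {g h : G} {X Y : Matrix.SpecialLinearGroup (Fin 2) F}
    (hPW : P ≤ normalizer (W : Set G)) (hg : g ∈ P) (hh : h ∈ P)
    (h1 : Ac M g (Pi.mulSingle j X)) (h2 : Ac M h (Pi.mulSingle j Y)) :
    Ac M (g * h * g⁻¹) (Pi.mulSingle j (X * Y * X⁻¹)) := by
  rw [Pi.mulSingle_mul, Pi.mulSingle_mul, Pi.mulSingle_inv]
  exact Ac.mul hPW (inv_mem hg) (Ac.mul hPW hh h1 h2) (h1.inv hPW hg)

theorem ac_self {g v : G} {X : Matrix.SpecialLinearGroup (Fin 2) F} (h : Ac M g (Pi.mulSingle j X)) (hv : v ∈ W) :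
    M.e (g * v * g⁻¹) j = ap X (M.e v j) := by
  rw [h v hv j, Pi.mulSingle_eq_same]

theorem ac_other {g v : G} {X : Matrix.SpecialLinearGroup (Fin 2) F} (h : Ac M g (Pi.mulSingle j X)) (hv : v ∈ W)
    {i : Fin k} (hi : i ≠ j) : M.e (g * v * g⁻¹) i = M.e v i := by
  rw [h v hv i, Pi.mulSingle_eq_of_ne hi, ap_one]

/-- `oneG M j` centralises the vectors with coordinate `0` at `j`. -/
theorem cent_oneG {v : G} (hv : v ∈ W) (h0 : M.e v j = 0) : v ∈ centralizer (oneG M hPW j : Set G) := by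
  refine mem_centralizer_iff.2 fun g hg => ?_
  obtain ⟨hgP, X, hX⟩ := hg
  have h1 : g * v * g⁻¹ = v := by
    refine e_inj (M := M) (cmem hPW hgP hv) hv ?_
    funext i
    by_cases hi : i = j
    · subst hi
      rw [ac_self hX hv, h0, Cfsg.Agent.Omega.Half.ap_zero]
    · exact ac_other hX hv hi
  exact mul_inv_eq_iff_eq_mul.1 h1

/-- `oneG M j` normalises the block `j`. -/
theorem oneG_norm : oneG M hPW j ≤ normalizer (fac M.toNatK {j} : Set G) := by
  have key : ∀ g ∈ oneG M hPW j, ∀ v ∈ fac M.toNatK {j}, g * v * g⁻¹ ∈ fac M.toNatK {j} := by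
    rintro g ⟨hgP, X, hX⟩ v hv
    refine ⟨cmem hPW hgP hv.1, fun i hi => ?_⟩
    rw [ac_other hX hv.1 hi]
    exact hv.2 i hi
  intro g hg
  rw [mem_normalizer_iff]
  intro v
  refine ⟨fun hv => key g hg v hv, fun hv => ?_⟩
  have h1 := key g⁻¹ (inv_mem hg) _ hv
  have e : g⁻¹ * (g * v * g⁻¹) * g⁻¹⁻¹ = v := by group
  rwa [e] at h1

/-- `H ≤ oneG M j` induces `SL₂(F)` on the block `j`. -/
structure Fl (M : NatKM F S P W ⊥ k) (hPW : P ≤ normalizer (W : Set G)) (j : Fin k) (H : Subgroup G) : Prop where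
  le : H ≤ oneG M hPW j
  ex : ∀ X, ∃ h ∈ H, Ac M h (Pi.mulSingle j X)

theorem Fl.of {H : Subgroup G} (hle : H ≤ oneG M hPW j) (hu : ∀ c, ∃ h ∈ H, Ac M h (Pi.mulSingle j (up c)))
    (hl : ∀ c, ∃ h ∈ H, Ac M h (Pi.mulSingle j (lo c))) : Fl M hPW j H := by
  refine ⟨hle, fun X => ?_⟩
  obtain ⟨a, b, c, d, rfl⟩ := exists_up_lo X
  obtain ⟨g1, h1, k1⟩ := hu a
  obtain ⟨g2, h2, k2⟩ := hl b
  obtain ⟨g3, h3, k3⟩ := hu c
  obtain ⟨g4, h4, k4⟩ := hl d
  refine ⟨g1 * g2 * g3 * g4, mul_mem (mul_mem (mul_mem h1 h2) h3) h4, ?_⟩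
  rw [Pi.mulSingle_mul, Pi.mulSingle_mul, Pi.mulSingle_mul]
  exact Ac.mul hPW (hle h4).1 (Ac.mul hPW (hle h3).1 (Ac.mul hPW (hle h2).1 k1 k2) k3) k4

/-- `[H, H]` is irreducible on the block `j`. -/
theorem Fl.irr [CharP F 2] {H : Subgroup G} (h : Fl M hPW j H) {U : Subgroup G} (hU : U ≤ fac M.toNatK {j})
    (hne : U ≠ ⊥) (hn : ⁅H, H⁆ ≤ normalizer (U : Set G)) : fac M.toNatK {j} ≤ U := by
  obtain ⟨⟨u, hu⟩, hu1'⟩ := U.ne_bot_iff_exists_ne_one.1 hne
  have hu1 : u ≠ 1 := fun h1 => hu1' (Subtype.ext h1)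
  have huW : u ∈ W := (hU hu).1
  have hx : M.e u j ≠ 0 := by
    intro h0
    apply hu1
    refine e_inj (M := M) huW (one_mem _) ?_
    rw [e_one]
    funext i
    by_cases hi : i = j
    · rw [hi, h0]; rfl
    · exact (hU hu).2 i hi
  -- one step
  have step : ∀ w ∈ U, ∀ y : Fin 2 → F, dt (M.e w j) y ≠ 0 → em M.toNatK j y ∈ U := by
    intro w hw y hy
    have hwW : w ∈ W := (hU hw).1
    obtain ⟨X, Y, hXY⟩ := exists_comm hy
    obtain ⟨g, hg, hgX⟩ := h.ex X
    obtain ⟨l, hl, hlY⟩ := h.ex Y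
    have hc : ⁅g, l⁆ ∈ ⁅H, H⁆ := commutator_mem_commutator hg hl
    have hgP := (h.le hg).1
    have hlP := (h.le hl).1
    have hac : Ac M ⁅g, l⁆ (Pi.mulSingle j (X * Y * X⁻¹ * Y⁻¹)) := by
      rw [commutatorElement_def, Pi.mulSingle_mul, Pi.mulSingle_mul, Pi.mulSingle_mul, Pi.mulSingle_inv,
        Pi.mulSingle_inv]
      exact Ac.mul hPW (inv_mem hlP) (Ac.mul hPW (inv_mem hgP) (Ac.mul hPW hlP hgX hlY) (hgX.inv hPW hgP))
        (hlY.inv hPW hlP)
    have h1 : ⁅g, l⁆ * w * ⁅g, l⁆⁻¹ ∈ U := (mem_normalizer_iff.1 (hn hc) w).1 hw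
    have h2 : em M.toNatK j y = ⁅g, l⁆ * w * ⁅g, l⁆⁻¹ := by
      refine e_inj (M := M) (em_mem _ _ _) (hU h1).1 ?_
      funext i
      by_cases hi : i = j
      · subst hi
        rw [ac_self hac hwW, hXY]
        exact e_em_self _ _ _
      · rw [ac_other hac hwW hi, (hU hw).2 i hi]
        exact e_em_ne _ hi _
    rw [h2]; exact h1
  have all : ∀ y : Fin 2 → F, y ≠ 0 → em M.toNatK j y ∈ U := by
    intro y hy
    obtain ⟨z, hz1, hz2⟩ := exists_third hx hy
    have h1 := step u hu z hz1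
    refine step _ h1 y ?_
    have e : M.e (em M.toNatK j z) j = z := e_em_self _ _ _
    rwa [e]
  intro v hv
  by_cases h0 : M.e v j = 0
  · have : v = 1 := by
      refine e_inj (M := M) hv.1 (one_mem _) ?_
      rw [e_one]
      funext i
      by_cases hi : i = j
      · rw [hi, h0]; rfl
      · exact hv.2 i hi
    rw [this]; exact one_mem _
  · have h1 := all _ h0
    have h2 := em_eq M.toNatK hv.1 (i := j) fun i hi => hv.2 i hi
    rwa [h2] at h1

theorem Fl.nt [CharP F 2] {H : Subgroup G} (h : Fl M hPW j H) :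
    ¬ ⁅H, H⁆ ≤ centralizer (fac M.toNatK {j} : Set G) := by
  intro hc
  -- the subgroup generated by one vector
  set v := em M.toNatK j ![1, 0] with hv
  set w := em M.toNatK j ![0, 1] with hw
  have hvN : v ∈ fac M.toNatK {j} := em_fac _ _ _
  have hwN : w ∈ fac M.toNatK {j} := em_fac _ _ _
  have hve : M.e v j = ![1, 0] := e_em_self _ _ _
  have hwe : M.e w j = ![0, 1] := e_em_self _ _ _
  have h1 : fac M.toNatK {j} ≤ zpowers v := by
    refine h.irr ?_ ?_ ?_
    · rw [zpowers_le]; exact hvN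
    · intro h0
      rw [zpowers_eq_bot] at h0
      have h2 := congrFun hve 0
      rw [h0, e_one] at h2
      exact zero_ne_one h2
    · refine hc.trans ?_
      refine (centralizer_le (by
        intro x hx
        exact (zpowers_le.2 hvN) hx)).trans (centralizer_le_normalizer _)
  obtain ⟨n, hn⟩ := mem_zpowers_iff.1 (h1 hwN)
  have h3 : ∀ x ∈ zpowers v, M.e x j 1 = 0 := by
    intro x hx
    have h4 : zpowers v ≤ ln M {j} := by
      rw [zpowers_le]
      refine ⟨hvN.1, fun i => ?_, fun i hi => hvN.2 i hi⟩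
      by_cases hi : i = j
      · rw [hi, hve]; rfl
      · rw [hvN.2 i hi]; rfl
    exact (h4 hx).2.1 j
  have h5 := h3 w (h1 hwN)
  rw [hwe] at h5
  exact one_ne_zero h5

end grp

end Cfsg.Agent.Omega.NO3S.SFive.NatD
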