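import Cfsg.Agent.Omega.NO3S.SFive.FinAll
import Cfsg.Agent.Omega.NO3S.SFive.End
import Cfsg.Agent.Omega.NO3S.SFive.Small
import Cfsg.Agent.Omega.NO3S.SFive.NatD
import Cfsg.Agent.Omega.NO3S.SFive.TySym
import Cfsg.Agent.Omega.NO3S.Level.Gamma

/-!
# GammaFF: (S5) is impossible (helper422 #22571, helper75 #22081, helper58 #22615; `k = 1`: helper879 #23006)

* `OneK` : the natural case `k = 1` (helper879, `SFive/WC*.lean`);
* `false_of_fiveP` : `FiveP G S P` is impossible;
* **`gamFive`** : the literal of `GamFive K` (`Node/NO3SGam.lean`).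
-/

set_option autoImplicit false

namespace Cfsg.Agent.Omega.NO3S.SFive

open Subgroup Cfsg Cfsg.Agent.ZN Cfsg.Agent.Omega.MinPar Cfsg.Agent.Omega.Frame Cfsg.Agent.Omega.FrameNOFF
open Cfsg.Agent.Omega.NO3S.Level
open Cfsg.Agent.Omega.NOThreeL.Merge (MZ)
open scoped Pointwise

universe u

/-- The natural case `k = 1`. -/
def OneK : Prop :=
  ∀ (G : Type u) [Group G] [Finite G] (S : Sylow 2 G) (P F : Subgroup G), WSt S P F → PSS (S : Subgroup G) P →
    zl (S : Subgroup G) (MZ (S : Subgroup G)) = zl (S : Subgroup G) P → ∀ (K : Type) [Field K] [Finite K] [CharP K 2],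
      4 ≤ Nat.card K → NatP K (zl (S : Subgroup G) P) P → False

section

variable {G : Type u} [Group G] [Finite G] {S : Sylow 2 G} {P F : Subgroup G}

/-- **(S5) is impossible.** -/
theorem false_of_wSt (h1 : OneK.{u}) (w : WSt S P F) (hn : PSS (S : Subgroup G) P)
    (hall : ∀ R, IsParS (S : Subgroup G) R → R ≤ normalizer (zl (S : Subgroup G) P : Set G))
    (he : zl (S : Subgroup G) (MZ (S : Subgroup G)) = zl (S : Subgroup G) P) : False := by
  have h := fv_of w hn.nonLoc hall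
  obtain ⟨F', B, s, o⟩ := out_of_wst w hn.nonLoc hall
  have key : ∀ N K : Subgroup G, TyD (S : Subgroup G) P (NOne.Flat.WW (X0 (S : Subgroup G)) F) B N K → False :=
    fun N K t => o.false t (small w) h.VS h.SP h.PM h.MV h.LV h.ne (o2_le_cent h.ct h.par) h.t6 h.noOff
  rcases h.concl with ⟨K, _, _, _, k, hk, ⟨N⟩⟩ | ⟨k, m, hk, hm, ⟨N⟩⟩
  · rcases Nat.lt_or_ge k 2 with hk2 | hk2
    · obtain rfl : k = 1 := by omega
      have hH := w.toHypC.hypN w.par hn.nonLoc
      obtain ⟨K', _, _, _, ⟨M⟩⟩ := hH.toHyp.exists_natP N.toNatK.single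
      rcases card_field' (F := K') with h5 | h5
      · exact absurd (by rw [M.card, h5]; norm_num) (w.toHypC.four P w.par hn.nonLoc)
      · exact h1 G S P F w hn he K' h5 M
    · rw [h.cvb] at N
      obtain ⟨N', K', t⟩ := NatD.tyd N hk2 (Half.amb_of_loc h.ct S h.par.isLoc) o.min o.minB
      exact key N' K' t
  · obtain ⟨N', K', t⟩ := TyS.tyD_sym h.ct h.par h.cvb hm N o.min o.minB
    exact key N' K' t

/-- `FiveP` is impossible. -/
theorem false_of_fiveP (h1 : OneK.{u}) (h : FiveP G S P) : False := by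
  obtain ⟨hP, ⟨F, w⟩, hall, he⟩ := h
  exact false_of_wSt h1 w hP hall he

/-- **(S5)**, the literal of `GamFive`. -/
theorem false_of_five (h1 : OneK.{u}) (h : WSt S P F) (hff : FFMod (S : Subgroup G) P)
    (hall : ∀ R, IsParS (S : Subgroup G) R → R ≤ normalizer (zl (S : Subgroup G) P : Set G))
    (he : zl (S : Subgroup G) (MZ (S : Subgroup G)) = zl (S : Subgroup G) P)
    (hR : ∃ R, PSS (S : Subgroup G) R ∧ zl (S : Subgroup G) R = zl (S : Subgroup G) P) : False := by
  obtain ⟨R, hR, hRe⟩ := hR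
  obtain ⟨R, hR⟩ := exists_five h hff hall (Or.inl ⟨R, hR, he.trans hRe.symm⟩)
  exact false_of_fiveP h1 hR

end

/-- **`GamFive K`** (`Node/NO3SGam.lean`). -/
theorem gamFive_one (K : Cfsg.Agent.Omega.Frame.Cls.{u}) (h1 : OneK.{u}) :
    ∀ (G : Type u) [Group G] [Finite G], K G → ∀ (S : Sylow 2 G) (P F : Subgroup G), WSt S P F →
    zc (S : Subgroup G) ⊓ centralizer (P : Set G) = ⊥ → FFMod (S : Subgroup G) P →
      (∀ R, IsParS (S : Subgroup G) R → R ≤ normalizer (zl (S : Subgroup G) P : Set G)) →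
        zl (S : Subgroup G) (MZ (S : Subgroup G)) = zl (S : Subgroup G) P →
          (∃ R, PSS (S : Subgroup G) R ∧ zl (S : Subgroup G) R = zl (S : Subgroup G) P) → IsKnownSimple' G :=
  fun _ _ _ _ _ _ _ w _ hff hall he hR => (false_of_five h1 w hff hall he hR).elim

end Cfsg.Agent.Omega.NO3S.SFive
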