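import Cfsg.Agent.Omega.NO3S.SFive.Inst
import Cfsg.Agent.Omega.OM.Lev.Wc

/-!
# GammaFF (S5), `k = 1` natural: THEOREM WC1 (helper879 #23006), step (2)

`Q = O₂(P)`, `L = V_P`, all `R ∈ P*(S)` normalise `L`:

* `K0_eq_of` : if every `N_G(T)`, `Q ≤ T ≤ S`, normalises `L`, then `Q` is weakly closed in `S` and `K₀ = Q`;
* `Fv.exists_move` : some `n ∈ N_G(T)`, `Q ≤ T ≤ S`, moves `L`; `n ∈ M₀`;
* `Fv.exists_bad_move` : the same with `L^n ≰ E_F'` for some `F'` of a given family, from step (1).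
-/

set_option autoImplicit false
set_option linter.unusedSectionVars false

namespace Cfsg.Agent.Omega.NO3S.SFive

open Subgroup Cfsg Cfsg.Agent.ZN Cfsg.Agent.ZN.ChoiceBase Cfsg.Agent.Omega.MinPar
open Cfsg.Agent.Omega.NO3S.Level
open Cfsg.Agent.Omega.NOne.Flat (conj_eq_of_norm)
open scoped Pointwise

universe u

variable {G : Type u} [Group G] [Finite G] {S : Sylow 2 G} {P F : Subgroup G}

/-- `Q ≤ O₂(R)` for all `R ∈ P*(S)` -/
theorem o2_le_o2 (hG : IsCharacteristicTwoType G) (hP : IsParS (S : Subgroup G) P)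
    (hall : ∀ R, IsParS (S : Subgroup G) R → R ≤ normalizer (zl (S : Subgroup G) P : Set G)) {R : Subgroup G}
    (hR : IsParS (S : Subgroup G) R) : o2 P ≤ o2 R := by
  rw [← IsParS.inf_centralizer S hG hR, ← IsParS.inf_centralizer S hG hP]
  exact inf_le_inf_left _ (centralizer_le (ZN.zl_le ZN.zc_le_zl (hall R hR)))

/-- **`K₀ = Q`** -/
theorem K0_eq_of (hG : IsCharacteristicTwoType G) (hP : IsParS (S : Subgroup G) P)
    (hall : ∀ R, IsParS (S : Subgroup G) R → R ≤ normalizer (zl (S : Subgroup G) P : Set G))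
    (hN : ∀ T : Subgroup G, o2 P ≤ T → T ≤ (S : Subgroup G) →
      normalizer (T : Set G) ≤ normalizer (zl (S : Subgroup G) P : Set G)) : K0 (S : Subgroup G) = o2 P := by
  refine le_antisymm (K0_le_o2 hP) (le_K0 ?_ fun R hR => o2_le_o2 hG hP hall hR)
  have hQS : o2 P ≤ (S : Subgroup G) := hP.isLoc.o2_le S
  refine OM.Lev.Wc.wc_of_norm hQS fun T hQT hTS n hn => ?_
  have hL := hN T hQT hTS hn
  have hQ : o2 P = T ⊓ centralizer (zl (S : Subgroup G) P : Set G) := by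
    have h1 := IsParS.inf_centralizer S hG hP
    apply le_antisymm
    · refine le_inf hQT ?_
      rw [← h1]; exact inf_le_right
    · rw [← h1]; exact inf_le_inf_right _ hTS
  rw [mem_normalizer_iff_cj, hQ, cj_inf, cj_centralizer, cj_eq_of_mem_normalizer hn, cj_eq_of_mem_normalizer hL]

/-- **Some `N_G(T)`, `Q ≤ T ≤ S`, moves `L`.** -/
theorem Fv.exists_move (h : Fv S P (X0 (S : Subgroup G)) (M0 (S : Subgroup G)) F)
    (hall : ∀ R, IsParS (S : Subgroup G) R → R ≤ normalizer (zl (S : Subgroup G) P : Set G)) :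
    ∃ T : Subgroup G, o2 P ≤ T ∧ T ≤ (S : Subgroup G) ∧ ∃ n ∈ normalizer (T : Set G), n ∈ M0 (S : Subgroup G) ∧
      ¬ MulAut.conj n • zl (S : Subgroup G) P ≤ zl (S : Subgroup G) P := by
  by_contra hcon
  push Not at hcon
  apply h.ne
  have hK := K0_eq_of h.ct h.par hall (fun T hQT hTS => by
    have hT : ∀ n ∈ normalizer (T : Set G), n ∈ M0 (S : Subgroup G) := fun n hn =>
      Level.norm_le ((K0_le_o2 h.par).trans hQT) hTS hn
    intro n hn
    rw [mem_normalizer_iff_cj]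
    have h1 : cj n (zl (S : Subgroup G) P) ≤ zl (S : Subgroup G) P := hcon T hQT hTS n hn (hT n hn)
    exact Subgroup.eq_of_le_of_card_ge h1 (card_cj _ _).ge)
  refine (le_inf le_rfl ?_).trans h.t6
  have h1 := Level.le_centralizer_zc (K0 (S : Subgroup G))
  rw [hK] at h1
  have h2 : X0 (S : Subgroup G) = zc (o2 P) := by rw [X0, hK]
  rw [h2]
  exact le_centralizer_iff.1 h1

/-- **(2)** from (1): `one` is LEMMA (1) of #23006. -/
theorem Fv.exists_bad_move (h : Fv S P (X0 (S : Subgroup G)) (M0 (S : Subgroup G)) F)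
    (hall : ∀ R, IsParS (S : Subgroup G) R → R ≤ normalizer (zl (S : Subgroup G) P : Set G))
    {FF : Set (Subgroup G)}
    (one : ∀ T : Subgroup G, o2 P ≤ T → T ≤ (S : Subgroup G) → ∀ n ∈ normalizer (T : Set G),
      n ∈ M0 (S : Subgroup G) → (∀ F' ∈ FF, MulAut.conj n • zl (S : Subgroup G) P ≤
        NOne.Flat.EE (X0 (S : Subgroup G)) F') → MulAut.conj n • zl (S : Subgroup G) P ≤ zl (S : Subgroup G) P) :
    ∃ T : Subgroup G, o2 P ≤ T ∧ T ≤ (S : Subgroup G) ∧ ∃ n ∈ normalizer (T : Set G), n ∈ M0 (S : Subgroup G) ∧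
      ∃ F' ∈ FF, ¬ MulAut.conj n • zl (S : Subgroup G) P ≤ NOne.Flat.EE (X0 (S : Subgroup G)) F' := by
  obtain ⟨T, hQT, hTS, n, hn, hnM, hne⟩ := h.exists_move hall
  refine ⟨T, hQT, hTS, n, hn, hnM, ?_⟩
  by_contra hcon
  push Not at hcon
  exact hne (one T hQT hTS n hn hnM hcon)

end Cfsg.Agent.Omega.NO3S.SFive
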