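import Cfsg.Agent.Omega.NO3b.Wc.Frame
import Cfsg.Agent.ZN.ChoiceSit

/-!
# `N_G(T) ≤ N_G(K)` for all `K ≤ T ≤ S`: `K` is weakly closed in `S`

The proof of `Omega/OM/Lev/Wc.lean` with small imports.
-/

set_option autoImplicit false

namespace Cfsg.Agent.Omega.NO3S.SFive.WCNorm

open Subgroup Cfsg Cfsg.Agent.ZN.ChoiceBase

universe u

variable {G : Type u} [Group G] [Finite G]

theorem lt_inf_norm {P Q : Subgroup G} (hP : IsPGroup 2 P) (hQ : Q < P) : Q < P ⊓ normalizer (Q : Set G) := by
  have : Fact (Nat.Prime 2) := ⟨Nat.prime_two⟩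
  have : Group.IsNilpotent P := hP.isNilpotent
  have hnc := Group.normalizerCondition_of_isNilpotent (G := P)
  have h1 : Q.subgroupOf P < ⊤ := by
    rw [lt_top_iff_ne_top]
    intro h
    rw [Subgroup.subgroupOf_eq_top] at h
    exact absurd h (not_le_of_gt hQ)
  have h2 := hnc _ h1
  obtain ⟨x, hx, hx'⟩ := SetLike.exists_of_lt h2
  refine lt_of_le_of_ne (le_inf hQ.le Subgroup.le_normalizer) ?_
  intro heq
  apply hx'
  rw [Subgroup.mem_subgroupOf, heq]
  refine Subgroup.mem_inf.mpr ⟨x.2, ?_⟩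
  rw [Subgroup.mem_normalizer_iff] at hx ⊢
  intro h
  constructor
  · intro hh
    have := (hx ⟨h, hQ.le hh⟩).mp (by simpa [Subgroup.mem_subgroupOf] using hh)
    simpa [Subgroup.mem_subgroupOf] using this
  · intro hh
    have hP' : h ∈ P := by
      have h4 : (x : G) * h * (x : G)⁻¹ ∈ P := hQ.le hh
      have h5 := P.mul_mem (P.mul_mem (P.inv_mem x.2) h4) x.2
      simpa [mul_assoc] using h5
    have := (hx ⟨h, hP'⟩).mpr (by simpa [Subgroup.mem_subgroupOf] using hh)
    simpa [Subgroup.mem_subgroupOf] using this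

variable {S : Sylow 2 G}

theorem mem_norm_of {K : Subgroup G} (hKS : K ≤ (S : Subgroup G))
    (hn : ∀ T : Subgroup G, K ≤ T → T ≤ (S : Subgroup G) → normalizer (T : Set G) ≤ normalizer (K : Set G)) :
    ∀ (n : ℕ) (g : G), K ≤ cj g (S : Subgroup G) →
      Nat.card (S : Subgroup G) - Nat.card ↥((S : Subgroup G) ⊓ cj g (S : Subgroup G)) ≤ n →
        g ∈ normalizer (K : Set G) := by
  have : Fact (Nat.Prime 2) := ⟨Nat.prime_two⟩
  intro n
  induction n with
  | zero =>
    intro g _ hcard
    have h1 : (S : Subgroup G) ⊓ cj g (S : Subgroup G) = (S : Subgroup G) :=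
      Subgroup.eq_of_le_of_card_ge inf_le_left (by omega)
    have h2 : (S : Subgroup G) = cj g (S : Subgroup G) :=
      Subgroup.eq_of_le_of_card_ge (inf_eq_left.1 h1) (by rw [card_cj])
    exact hn _ hKS le_rfl (mem_normalizer_iff_cj.2 h2.symm)
  | succ n ih =>
    intro g hKg hcard
    by_cases hn' : Nat.card (S : Subgroup G) - Nat.card ↥((S : Subgroup G) ⊓ cj g (S : Subgroup G)) ≤ n
    · exact ih g hKg hn'
    set T : Subgroup G := (S : Subgroup G) ⊓ cj g (S : Subgroup G) with hT
    have hlt : Nat.card T < Nat.card (S : Subgroup G) := by omega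
    have hKT : K ≤ T := le_inf hKS hKg
    have hTS : T < (S : Subgroup G) := lt_of_le_of_ne inf_le_left fun h => by rw [h] at hlt; omega
    have hTS' : T < cj g (S : Subgroup G) :=
      lt_of_le_of_ne inf_le_right fun h => by rw [h, card_cj] at hlt; omega
    have hNK : normalizer (T : Set G) ≤ normalizer (K : Set G) := hn T hKT hTS.le
    set R1 : Subgroup G := (S : Subgroup G) ⊓ normalizer (T : Set G) with hR1
    set R2 : Subgroup G := cj g (S : Subgroup G) ⊓ normalizer (T : Set G) with hR2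
    have h1 : T < R1 := lt_inf_norm S.isPGroup' hTS
    have h2 : T < R2 := lt_inf_norm (isPGroup_cj g S.isPGroup') hTS'
    obtain ⟨U, hU, hRU⟩ := ZN.ChoiceSit.exists_syl (S.isPGroup'.to_le (inf_le_left : R1 ≤ (S : Subgroup G)))
      (inf_le_right : R1 ≤ normalizer (T : Set G))
    obtain ⟨U', hU', hRU'⟩ := ZN.ChoiceSit.exists_syl ((isPGroup_cj g S.isPGroup').to_le
      (inf_le_left : R2 ≤ cj g (S : Subgroup G))) (inf_le_right : R2 ≤ normalizer (T : Set G))
    obtain ⟨m, hm, hmU⟩ := ZN.ChoiceSit.syl_conj hU hU'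
    have hmK : m ∈ normalizer (K : Set G) := hNK hm
    obtain ⟨S', hS'⟩ := hU.2.1.exists_le_sylow
    obtain ⟨x, hx⟩ := MulAction.exists_smul_eq G S S'
    have hx2 : (S' : Subgroup G) = cj x (S : Subgroup G) := by
      rw [← hx, Sylow.coe_subgroup_smul]
      rfl
    have hUx : U ≤ cj x (S : Subgroup G) := hS'.trans hx2.le
    -- `x ∈ N(K)`
    have hxK : x ∈ normalizer (K : Set G) := by
      refine ih x ((hKT.trans h1.le).trans (hRU.trans hUx)) ?_
      have h3 : Nat.card R1 ≤ Nat.card ↥((S : Subgroup G) ⊓ cj x (S : Subgroup G)) :=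
        Subgroup.card_le_of_le (le_inf inf_le_left (hRU.trans hUx))
      have h5 : Nat.card T < Nat.card R1 := by
        rcases lt_or_eq_of_le (Subgroup.card_le_of_le h1.le) with h | h
        · exact h
        · exact absurd (Subgroup.eq_of_le_of_card_ge h1.le h.ge) h1.ne
      omega
    -- `y = (m x)⁻¹ g ∈ N(K)`
    have hmx : m * x ∈ normalizer (K : Set G) := mul_mem hmK hxK
    have hmx' := cj_eq_of_mem_normalizer (inv_mem hmx)
    have hU'x : U' ≤ cj (m * x) (S : Subgroup G) := by
      rw [← hmU, ← cj_cj]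
      exact cj_mono m hUx
    have hy : (m * x)⁻¹ * g ∈ normalizer (K : Set G) := by
      refine ih _ ?_ ?_
      · rw [← cj_cj, ← hmx']
        exact cj_mono _ hKg
      · have h3 : cj (m * x)⁻¹ R2 ≤ (S : Subgroup G) ⊓ cj ((m * x)⁻¹ * g) (S : Subgroup G) := by
          refine le_inf ?_ ?_
          · have := cj_mono (m * x)⁻¹ (hRU'.trans hU'x)
            rwa [cj_inv_cj] at this
          · rw [← cj_cj]
            exact cj_mono _ inf_le_left
        have h4 := Subgroup.card_le_of_le h3
        rw [card_cj] at h4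
        have h5 : Nat.card T < Nat.card R2 := by
          rcases lt_or_eq_of_le (Subgroup.card_le_of_le h2.le) with h | h
          · exact h
          · exact absurd (Subgroup.eq_of_le_of_card_ge h2.le h.ge) h2.ne
        omega
    have := mul_mem hmx hy
    rwa [mul_inv_cancel_left] at this

/-- `N_G(T) ≤ N_G(K)` for all `K ≤ T ≤ S`: `K` is weakly closed in `S`. -/
theorem wc_of_norm {K : Subgroup G} (hKS : K ≤ (S : Subgroup G))
    (hn : ∀ T : Subgroup G, K ≤ T → T ≤ (S : Subgroup G) → normalizer (T : Set G) ≤ normalizer (K : Set G)) :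
    NO3b.Wc.WC (S : Subgroup G) K where
  le := hKS
  eq := fun g hg => by
    have h1 : K ≤ cj g⁻¹ (S : Subgroup G) := by
      have := cj_mono g⁻¹ hg
      rwa [cj_inv_cj] at this
    have h2 := mem_norm_of hKS hn _ g⁻¹ h1 le_rfl
    have h3 := inv_mem h2
    rw [inv_inv] at h3
    exact cj_eq_of_mem_normalizer h3

end Cfsg.Agent.Omega.NO3S.SFive.WCNorm
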