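import Cfsg.Agent.Omega.NO3S.SFive.WCFam
import Cfsg.Agent.Omega.NO3S.SFive.WCNorm
import Cfsg.Agent.Omega.NOThreeL.VF.One

/-!
# GammaFF (S5), `k = 1` natural: THEOREM WC1 (helper879 #23006 (1), (2))

* `Wv.UU_le` : `Q ≤ S^n` (`n ∈ M`), `L^{pn} ≤ E` for all `p ∈ P` ⟹ `⟨L, L^{pn} : p ∈ P⟩ ≤ L F` (the family `B_F`,
  `(L^{pn})^x`);
* `Wv.eq_of_good` (LEMMA (1)) : then `L^n = L`;
* **`Wv.wc`** : `O₂(P)` is weakly closed in `S`.
-/

set_option autoImplicit false
set_option linter.unusedSectionVars false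
set_option linter.unusedVariables false

namespace Cfsg.Agent.Omega.NO3S.SFive.One

open Subgroup Cfsg Cfsg.Agent.ZN Cfsg.Agent.ZN.ChoiceBase Cfsg.Agent.Omega.MinPar
open Cfsg.Agent.Omega.NOne.Flat (Hyp EE WW NN)
open Cfsg.Agent.Omega.NOne.NearFF (c c_def)
open Cfsg.Agent.Omega.NO3S.Fld (Crd)
open Cfsg.Agent.Omega.NO3S.BetaFF (Act)
open Cfsg.Agent.Omega.NOThreeL.Low.Key (BH)
open Cfsg.Agent.Omega.FFThm (StmtM NoOverM OffM ElemM)
open Cfsg.Agent.Omega.NOThreeL.VF (fM fM_le fM_cj fM_of_le fM_le_iff exists_two fM_congr elemM_cj elemM_mono)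
open scoped Pointwise

universe u

variable {G : Type u} [Group G] [Finite G]

/-- **The lines trick.** `A` normalises subgroups `l ∈ Ls` of `U` which generate `U` modulo `C_U(A)`-generators, no
subgroup of `A` is an over-offender on some `l`: `f(A) ≤ |U|`. -/
theorem fM_le_of_lines {U A : Subgroup G} (Ls : Set (Subgroup G)) (hLU : ∀ l ∈ Ls, l ≤ U)
    (hno : ∀ l ∈ Ls, ∀ C ≤ A, Nat.card C * Nat.card ↥(l ⊓ centralizer (C : Set G)) ≤
      Nat.card l * Nat.card ↥(C ⊓ centralizer (l : Set G)))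
    (hgen : ∀ C ≤ A, (∀ l ∈ Ls, C ≤ centralizer (l : Set G)) → C ≤ centralizer (U : Set G)) :
    fM U A ≤ Nat.card U := by
  induction hn : Nat.card A using Nat.strong_induction_on generalizing A with
  | _ n ih =>
    by_cases hall : ∀ l ∈ Ls, A ≤ centralizer (l : Set G)
    · exact (fM_of_le (hgen A le_rfl hall)).le
    · push Not at hall
      obtain ⟨l, hl, hlA⟩ := hall
      have h1 := fM_le (hLU l hl) (hno l hl A le_rfl)
      refine h1.trans (ih _ ?_ (fun l' hl' C hC => hno l' hl' C (hC.trans inf_le_left))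
        (fun C hC => hgen C (hC.trans inf_le_left)) rfl)
      rw [← hn]
      refine lt_of_le_of_ne (Subgroup.card_le_of_le inf_le_left) fun h2 => hlA ?_
      exact inf_eq_left.1 (Subgroup.eq_of_le_of_card_ge inf_le_left h2.ge)

namespace Wv

variable {K : Type*} [Field K] {S : Sylow 2 G} {P V M F : Subgroup G}
  {N : Crd K (S : Subgroup G) P (zl (S : Subgroup G) P)} (h : Wv S P V M F N)
include h

/-- The lines `L^{pn}`. -/
def UU (S : Sylow 2 G) (P : Subgroup G) (n : G) : Subgroup G :=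
  zl (S : Subgroup G) P ⊔ ⨆ p : P, cj ((p : G) * n) (zl (S : Subgroup G) P)

omit h in
theorem P_norm_UU (n : G) : P ≤ normalizer (UU S P n : Set G) := by
  intro q hq
  refine mem_normalizer_of_cj_le ?_
  change Subgroup.map _ _ ≤ _
  rw [UU, Subgroup.map_sup]
  refine sup_le_sup (cj_eq_of_mem_normalizer (MinSimple.VModule.le_normalizer_zl _ _ hq)).le ?_
  rw [Subgroup.map_iSup]
  refine iSup_le fun p => ?_
  have h1 : cj q (cj ((p : G) * n) (zl (S : Subgroup G) P)) = cj ((q * p : G) * n) (zl (S : Subgroup G) P) := by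
    rw [cj_cj, mul_assoc]
  change cj q (cj ((p : G) * n) (zl (S : Subgroup G) P)) ≤ _
  rw [h1]
  exact le_iSup (fun p : P => cj ((p : G) * n) (zl (S : Subgroup G) P)) ⟨q * p, mul_mem hq p.2⟩

theorem conj_Q {p : G} (hp : p ∈ P) : cj p (o2 P) = o2 P :=
  cj_eq_of_mem_normalizer (MinSimple.VModule.le_normalizer_o2 P hp)

/-- No over-offender of `P` on `UU`. -/
theorem noOver_UU (hFF : StmtM.{u}) {n : G} (hQn : o2 P ≤ cj n (S : Subgroup G)) : NoOverM (UU S P n) P := by
  intro A hA hE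
  have hPU := P_norm_UU (S := S) (P := P) n
  have hnoL := (h.ff hFF).1
  have hLU : zl (S : Subgroup G) P ≤ UU S P n := le_sup_left
  rw [← fM_le_iff]
  -- a 2-subgroup in `S`
  obtain ⟨A₁, hA₁, hA₁2, hA₁c⟩ := exists_two (hA.trans hPU) hE
  rw [← fM_congr hA₁ hA₁c]
  obtain ⟨g, hg, hgS⟩ := NOThreeL.VF.exists_conj_le S h.SP hA₁2 (hA₁.trans hA)
  have hgS' : cj g A₁ ≤ (S : Subgroup G) := by
    intro x hx
    rw [mem_cj] at hx
    have h1 := hgS _ hx
    have e : g * (g⁻¹ * x * g) * g⁻¹ = x := by group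
    rwa [e] at h1
  rw [← (fM_cj (A := A₁) (hPU hg)).1]
  have hE₁ := elemM_cj (hPU hg) (elemM_mono hE hA₁)
  set A₂ := cj g A₁ with hA₂
  -- the first cut: `C_A(L) ≤ Q`
  have hEL : ElemM (zl (S : Subgroup G) P) A₂ :=
    ⟨fun a ha => centralizer_le hLU (hE₁.sq a ha), fun a ha b hb => centralizer_le hLU (hE₁.comm a ha b hb)⟩
  refine (fM_le hLU (hnoL A₂ (hgS'.trans h.SP) hEL)).trans ?_
  set A₃ := A₂ ⊓ centralizer (zl (S : Subgroup G) P : Set G) with hA₃
  have hA₃Q : A₃ ≤ o2 P := by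
    rw [← h.o2_eq]
    exact inf_le_inf_right _ hgS'
  have hE₃ : ElemM (UU S P n) A₃ := elemM_mono hE₁ inf_le_left
  refine fM_le_of_lines {l | ∃ p : P, l = cj ((p : G) * n) (zl (S : Subgroup G) P)} ?_ ?_ ?_
  · rintro _ ⟨p, rfl⟩
    exact (le_iSup (fun p : P => cj ((p : G) * n) (zl (S : Subgroup G) P)) p).trans le_sup_right
  · rintro _ ⟨p, rfl⟩ C hC
    have hCS : cj ((p : G) * n)⁻¹ C ≤ (S : Subgroup G) := by
      have h1 : o2 P ≤ cj ((p : G) * n) (S : Subgroup G) := by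
        have h2 := cj_mono (p : G) hQn
        rwa [h.conj_Q p.2, cj_cj] at h2
      have h2 := cj_mono ((p : G) * n)⁻¹ ((hC.trans hA₃Q).trans h1)
      rwa [cj_inv_cj] at h2
    have hlU : cj ((p : G) * n) (zl (S : Subgroup G) P) ≤ UU S P n :=
      (le_iSup (fun p : P => cj ((p : G) * n) (zl (S : Subgroup G) P)) p).trans le_sup_right
    have hEC : ElemM (cj ((p : G) * n) (zl (S : Subgroup G) P)) C :=
      ⟨fun a ha => centralizer_le hlU (hE₃.sq a (hC ha)),
        fun a ha b hb => centralizer_le hlU (hE₃.comm a (hC ha) b (hC hb))⟩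
    have hcc : ∀ x, x ∈ centralizer ((cj ((p : G) * n) (zl (S : Subgroup G) P) : Subgroup G) : Set G) →
        ((p : G) * n)⁻¹ * x * ((p : G) * n) ∈ centralizer (zl (S : Subgroup G) P : Set G) := by
      intro x hx
      rw [← cj_centralizer, mem_cj] at hx
      exact hx
    have hEC' : ElemM (zl (S : Subgroup G) P) (cj ((p : G) * n)⁻¹ C) := by
      refine ⟨fun a ha => ?_, fun a ha b hb => ?_⟩
      · rw [mem_cj, inv_inv] at ha
        have h1 := hcc _ (hEC.sq _ ha)
        have e : ((p : G) * n)⁻¹ * ((p : G) * n * a * ((p : G) * n)⁻¹) ^ 2 * ((p : G) * n) = a ^ 2 := by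
          rw [pow_two, pow_two]; group
        rwa [e] at h1
      · rw [mem_cj, inv_inv] at ha hb
        have h1 := hcc _ (hEC.comm _ ha _ hb)
        have e : ((p : G) * n)⁻¹ * (((p : G) * n * a * ((p : G) * n)⁻¹) * ((p : G) * n * b * ((p : G) * n)⁻¹) *
            ((p : G) * n * a * ((p : G) * n)⁻¹)⁻¹ * ((p : G) * n * b * ((p : G) * n)⁻¹)⁻¹) * ((p : G) * n) =
            a * b * a⁻¹ * b⁻¹ := by group
        rwa [e] at h1
    have h1 := hnoL _ (hCS.trans h.SP) hEC'
    have e1 : Nat.card ↥(zl (S : Subgroup G) P ⊓ centralizer ((cj ((p : G) * n)⁻¹ C : Subgroup G) : Set G)) =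
        Nat.card ↥(cj ((p : G) * n) (zl (S : Subgroup G) P) ⊓ centralizer (C : Set G)) := by
      rw [← card_cj ((p : G) * n), cj_inf, cj_centralizer, cj_cj_inv]
    have e2 : Nat.card ↥(cj ((p : G) * n)⁻¹ C ⊓ centralizer (zl (S : Subgroup G) P : Set G)) =
        Nat.card ↥(C ⊓ centralizer ((cj ((p : G) * n) (zl (S : Subgroup G) P) : Subgroup G) : Set G)) := by
      rw [← card_cj ((p : G) * n), cj_inf, cj_centralizer, cj_cj_inv]
    rw [e1, e2, card_cj] at h1
    rw [card_cj]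
    exact h1
  · intro C hC hCl
    rw [le_centralizer_iff]
    refine sup_le ?_ (iSup_le fun p => ?_)
    · exact le_centralizer_iff.1 (hC.trans inf_le_right)
    · exact le_centralizer_iff.1 (hCl _ ⟨p, rfl⟩)

/-- The chambers of the enlarged family. -/
def DU (S : Sylow 2 G) (P V M F : Subgroup G) (n : G) : Set G := DW S V M F ∪ {g | ∃ p ∈ P, g = p * n}

/-- `⟨L, L^{pn} : p ∈ P⟩ ≤ L F` -/
theorem UU_le [Finite K] [CharP K 2] {n : G} (hn : n ∈ M) (hQn : o2 P ≤ cj n (S : Subgroup G))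
    (hE : ∀ p ∈ P, cj (p * n) (zl (S : Subgroup G) P) ≤ EE V F) :
    UU S P n ≤ zl (S : Subgroup G) P ⊔ F := by
  have hc := h.toWc
  have hQp : ∀ p ∈ P, o2 P ≤ cj (p * n) (S : Subgroup G) := by
    intro p hp
    have h2 := cj_mono p hQn
    rwa [h.conj_Q hp, cj_cj] at h2
  have hED : ∀ m ∈ DU S P V M F n, cj m (zl (S : Subgroup G) P) ≤ EE V F := by
    rintro m (hm | ⟨p, hp, rfl⟩)
    · exact h.goodL m hm.1 hm.2
    · exact hE p hp
  -- `L^m`, `m ∈ DW`, against `L^{xpn}`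
  have k1 : ∀ m ∈ DW S V M F, ∀ p ∈ P, ∀ x ∈ centralizer (F : Set G),
      cj (x * (p * n)) (zl (S : Subgroup G) P) ≤ centralizer ((cj m (zl (S : Subgroup G) P) : Subgroup G) : Set G) := by
    intro m hm p hp x hx
    refine h.noff2 ?_ ?_
    · have h1 : cj (x⁻¹ * m) (zl (S : Subgroup G) P) ≤
          normalizer ((cj (p * n) (zl (S : Subgroup G) P) : Subgroup G) : Set G) :=
        (((le_bl hm (inv_mem hx)).trans hc.BQ).trans (hQp p hp)).trans (h.S_norm _)
      have h2 := cj_mono x h1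
      rw [cj_cj, cj_normalizer, cj_cj] at h2
      have e : x * (x⁻¹ * m) = m := by group
      rwa [e] at h2
    · rw [← cj_cj]
      exact ((h.cjE_le_W hx (hE p hp)).trans hm.2).trans (h.S_norm m)
  -- `L^{xpn} ≤ Q`
  have k2 : ∀ p ∈ P, ∀ x ∈ centralizer (F : Set G), cj (x * (p * n)) (zl (S : Subgroup G) P) ≤ o2 P := by
    intro p hp x hx
    rw [← h.o2_eq]
    refine le_inf ?_ ?_
    · rw [← cj_cj]
      exact (h.cjE_le_W hx (hE p hp)).trans h.WS
    · have h1 := k1 1 h.one_mem_DW p hp x hx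
      rwa [cj_one] at h1
  have k3 : ∀ m ∈ DU S P V M F n, ∀ m' ∈ DU S P V M F n, ∀ x ∈ centralizer (F : Set G),
      cj (x * m') (zl (S : Subgroup G) P) ≤ centralizer ((cj m (zl (S : Subgroup G) P) : Subgroup G) : Set G) := by
    rintro m (hm | ⟨p, hp, rfl⟩) m' (hm' | ⟨p', hp', rfl⟩) x hx
    · exact h.commW hm hm' hx
    · exact k1 m hm p' hp' x hx
    · have h1 := k1 m' hm' p hp x⁻¹ (inv_mem hx)
      rw [le_centralizer_iff] at h1
      have h2 := cj_mono x h1
      rw [cj_cj, cj_centralizer, cj_cj] at h2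
      have e : x * (x⁻¹ * (p * n)) = p * n := by group
      rwa [e] at h2
    · refine h.noff2 ?_ (((k2 p' hp' x hx).trans (hQp p hp)).trans (h.S_norm _))
      have h1 := cj_mono x (((k2 p hp x⁻¹ (inv_mem hx)).trans (hQp p' hp')).trans (h.S_norm _))
      rw [cj_cj, cj_normalizer, cj_cj] at h1
      have e : x * (x⁻¹ * (p * n)) = p * n := by group
      rwa [e] at h1
  obtain ⟨bh, hsq⟩ := bh_of (Δ := DU S P V M F n) h.hyp h.sqL hED k3
  have hBB : bl (zl (S : Subgroup G) P) F (DW S V M F) ≤ bl (zl (S : Subgroup G) P) F (DU S P V M F n) := by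
    refine sSup_le ?_
    rintro _ (rfl | ⟨m, hm, x, hx, rfl⟩)
    · exact F_le_bl
    · exact le_bl (Or.inl hm) hx
  have hLB := hc.LB.trans hBB
  have hgood : ∀ g ∈ M, bl (zl (S : Subgroup G) P) F (DU S P V M F n) ≤ cj g (S : Subgroup G) →
      cj g (zl (S : Subgroup G) P) ≤ EE V F →
        bl (zl (S : Subgroup G) P) F (DU S P V M F n) ≤
          centralizer ((cj g (zl (S : Subgroup G) P) : Subgroup G) : Set G) := by
    intro g hg hB hgE
    -- first `B_F`
    have h1 : bl (zl (S : Subgroup G) P) F (DW S V M F) ≤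
        centralizer ((cj g (zl (S : Subgroup G) P) : Subgroup G) : Set G) := by
      refine h.cent_of (hBB.trans hB) hgE fun m hm x hx => ?_
      rw [← cj_cj]
      exact ((h.cjE_le_W hx hgE).trans hm.2).trans (h.S_norm m)
    refine h.cent_of hB hgE ?_
    rintro m (hm | ⟨p, hp, rfl⟩) x hx
    · rw [← cj_cj]
      exact ((h.cjE_le_W hx hgE).trans hm.2).trans (h.S_norm m)
    · refine (le_trans ?_ (hQp p hp)).trans (h.S_norm _)
      rw [← h.o2_eq]
      refine le_inf ?_ ?_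
      · rw [← cj_cj]
        exact (h.cjE_le_W hx hgE).trans h.WS
      · have h2 := (le_bl (L := zl (S : Subgroup G) P) h.one_mem_DW (inv_mem hx)).trans h1
        rw [mul_one, le_centralizer_iff] at h2
        have h3 := cj_mono x h2
        rwa [cj_cj, cj_centralizer, cj_cj_inv] at h3
  obtain ⟨hIL, -⟩ := h.index bh hsq hLB hgood
  refine le_trans (le_inf ?_ ?_) hIL
  · exact sup_le h.LV (iSup_le fun p => (hE p p.2).trans inf_le_left)
  · exact sup_le hLB (iSup_le fun p => le_bl' (Or.inr ⟨p, p.2, rfl⟩))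

/-- **LEMMA (1).** -/
theorem eq_of_good [Finite K] [CharP K 2] (hFF : StmtM.{u}) {n : G} (hn : n ∈ M)
    (hQn : o2 P ≤ cj n (S : Subgroup G)) (hE : ∀ p ∈ P, cj (p * n) (zl (S : Subgroup G) P) ≤ EE V F) :
    n ∈ normalizer (zl (S : Subgroup G) P : Set G) := by
  have hULF : UU S P n ≤ zl (S : Subgroup G) P ⊔ F := h.UU_le hn hQn hE
  have hUE : UU S P n ≤ EE V F := sup_le h.LE (iSup_le fun p => hE p p.2)
  have hUV : UU S P n ≤ V := hUE.trans inf_le_left
  have hLU : zl (S : Subgroup G) P ≤ UU S P n := le_sup_left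
  have s : NOThreeL.VF.Q.Sit P (UU S P n) (zl (S : Subgroup G) P) :=
    { ab := fun x hx y hy => h.hyp.V_comm (hUV hx) (hUV hy)
      sq := fun x hx => h.hyp.sq' (hUV hx)
      VW := hLU
      nW := P_norm_UU n }
  have off : OffM (UU S P n) (WW V F) :=
    { sq := fun a ha => centralizer_le hUV (h.hyp.elemM_W.sq a ha)
      comm := fun a ha b hb => centralizer_le hUV (h.hyp.elemM_W.comm a ha b hb)
      ne := fun h1 => h.mov (h1.trans (centralizer_le hLU))
      le := FFThm.relIndex_le_iff.2 (h.hyp.off_of_le_all hUE) }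
  have hAC : WW V F ⊓ centralizer (zl (S : Subgroup G) P : Set G) ≤ centralizer (UU S P n : Set G) := by
    refine le_trans ?_ (centralizer_le hULF)
    rintro x ⟨hx, hxL⟩
    rw [mem_centralizer_iff]
    intro z hz
    obtain ⟨l, hl, f, hf, rfl⟩ := sup_split (ab_norm h.hyp.comm h.LV h.hyp.F_le_V) hz
    have h1 : l * x = x * l := mem_centralizer_iff.1 hxL l hl
    have h2 : f * x = x * f := Hyp.F_comm hf (Hyp.W_le_X hx)
    rw [mul_assoc, h2, ← mul_assoc, h1, mul_assoc]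
  have hle : UU S P n ≤ zl (S : Subgroup G) P := by
    have hcv := h.cv
    obtain ⟨hno, ⟨K, _, _, _, k, hk, ⟨M⟩⟩ | ⟨k, m, hk, hm, ⟨M⟩⟩⟩ := h.ff hFF
    · rw [hcv] at M
      exact NOThreeL.VF.Q.nat_le M s S.isPGroup' h.SP le_rfl (hUV.trans h.VS) (h.noOver_UU hFF hQn) hno h.WS off
        h.mov hAC
    · rw [hcv] at M
      exact NOThreeL.VF.Q.S.sym_le M (by omega) s S.isPGroup' h.SP le_rfl (hUV.trans h.VS) (h.noOver_UU hFF hQn) hno
        h.WS off h.mov hAC
  have h1 : cj n (zl (S : Subgroup G) P) ≤ zl (S : Subgroup G) P := by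
    have h2 : cj n (zl (S : Subgroup G) P) ≤ UU S P n := by
      have h3 : cj (((1 : P) : G) * n) (zl (S : Subgroup G) P) ≤ UU S P n :=
        (le_iSup (fun p : P => cj ((p : G) * n) (zl (S : Subgroup G) P)) 1).trans le_sup_right
      rwa [OneMemClass.coe_one, one_mul] at h3
    exact h2.trans hle
  exact mem_normalizer_of_cj_le h1

theorem QS : o2 P ≤ (S : Subgroup G) := h.par.isLoc.o2_le S

/-- **THEOREM WC1**: all `N_G(T)`, `Q ≤ T ≤ S`, normalise `L`. -/
theorem norm_le [Finite K] [CharP K 2] (hFF : StmtM.{u})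
    (hM : ∀ T : Subgroup G, o2 P ≤ T → T ≤ (S : Subgroup G) → normalizer (T : Set G) ≤ M)
    {T : Subgroup G} (h1 : o2 P ≤ T) (h2 : T ≤ (S : Subgroup G)) :
    normalizer (T : Set G) ≤ normalizer (zl (S : Subgroup G) P : Set G) := by
  intro n hn
  have hnM := hM T h1 h2 hn
  have hnT : cj n T = T := cj_eq_of_mem_normalizer hn
  have hTn : T ≤ cj n (S : Subgroup G) := by
    have h3 := cj_mono n h2
    rwa [hnT] at h3
  refine h.eq_of_good hFF hnM (h1.trans hTn) fun p hp => ?_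
  by_contra hbad
  refine h.toWc.false hFF (g := p * n) (a := p) (mul_mem (h.PM hp) hnM) hp ?_ ?_ hbad
  · have h3 := cj_mono p (h1.trans hTn)
    rwa [h.conj_Q hp, cj_cj] at h3
  · have h3 := cj_mono n h1
    rw [hnT] at h3
    have h4 := cj_mono p (h3.trans h2)
    rwa [cj_cj] at h4

/-- `O₂(P)` is weakly closed in `S`. -/
theorem wc [Finite K] [CharP K 2] (hFF : StmtM.{u})
    (hM : ∀ T : Subgroup G, o2 P ≤ T → T ≤ (S : Subgroup G) → normalizer (T : Set G) ≤ M) :
    NO3b.Wc.WC (S : Subgroup G) (o2 P) := by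
  refine WCNorm.wc_of_norm h.QS fun T h1 h2 n hn => ?_
  have h3 := h.norm_le hFF hM h1 h2 hn
  have h4 : T ⊓ centralizer (zl (S : Subgroup G) P : Set G) = o2 P := by
    rw [← h.o2_eq]
    apply le_antisymm (inf_le_inf_right _ h2)
    refine le_inf ?_ inf_le_right
    rw [h.o2_eq]
    exact h1
  rw [mem_normalizer_iff_cj, ← h4, cj_inf, cj_centralizer, cj_eq_of_mem_normalizer hn,
    cj_eq_of_mem_normalizer h3]

end Wv

end Cfsg.Agent.Omega.NO3S.SFive.One
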