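import Cfsg.Agent.Omega.NO3S.SFive.Main
import Cfsg.Agent.Omega.NO3S.SFive.WCOne
import Cfsg.Agent.Omega.NO3S.SFive.WCAlp

/-!
# GammaFF: (S5) is impossible, all types

* `oneK` : the natural case `k = 1` (helper879 #23006: `Wv.norm_le`; helper618: `Fv.exists_move`);
* `not_fiveP`, `not_five` : (S5) is impossible;
* **`gamFive`** : the literal of `GamFive K` (`Node/NO3SGam.lean`), no hypothesis.
-/

set_option autoImplicit false

namespace Cfsg.Agent.Omega.NO3S.SFive

open Subgroup Cfsg Cfsg.Agent.ZN Cfsg.Agent.Omega.MinPar Cfsg.Agent.Omega.Frame Cfsg.Agent.Omega.FrameNOFF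
open Cfsg.Agent.Omega.NO3S.Level
open Cfsg.Agent.Omega.NOThreeL.Merge (MZ)
open scoped Pointwise

universe u

/-- **The natural case `k = 1`.** -/
theorem oneK : OneK.{u} := by
  intro G _ _ S P F w hP he K _ _ _ h4 N
  have hH := (w.toHypC.hypN w.par hP.nonLoc).toHyp
  have hall : ∀ R, IsParS (S : Subgroup G) R → R ≤ normalizer (zl (S : Subgroup G) P : Set G) := by
    intro R hR
    have h1 : R ≤ MZ (S : Subgroup G) := le_sSup hR
    rw [← he]
    exact h1.trans (ZN.le_normalizer_zl _ _)
  have h := fv_of w hP.nonLoc hall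
  obtain ⟨C⟩ := Fld.exists_crd hH N
  have hv : One.Wv S P (X0 (S : Subgroup G)) (M0 (S : Subgroup G)) F C :=
    { toAct := act_of w hP.nonLoc
      four := h4
      PM := h.PM
      MV := h.MV
      VS := h.VS
      WM := h.WM
      goodL := h.good
      noffL := h.noffL
      prin := h.prin }
  obtain ⟨T, hT1, hT2, n, hn, -, hne⟩ := h.exists_move hall
  have h3 := hv.norm_le FF.Glob.ffthmM (fun T h1 h2 => norm_le ((K0_le_o2 w.par).trans h1) h2) hT1 hT2 hn
  exact hne (NOne.Flat.conj_eq_of_norm h3).le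

section

variable {G : Type u} [Group G] [Finite G] {S : Sylow 2 G} {P F : Subgroup G}

/-- `FiveP` is impossible. -/
theorem not_fiveP (h : FiveP G S P) : False := false_of_fiveP oneK h

/-- **(S5) is impossible.** -/
theorem not_five (h : WSt S P F) (hff : FFMod (S : Subgroup G) P)
    (hall : ∀ R, IsParS (S : Subgroup G) R → R ≤ normalizer (zl (S : Subgroup G) P : Set G))
    (he : zl (S : Subgroup G) (MZ (S : Subgroup G)) = zl (S : Subgroup G) P)
    (hR : ∃ R, PSS (S : Subgroup G) R ∧ zl (S : Subgroup G) R = zl (S : Subgroup G) P) : False :=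
  false_of_five oneK h hff hall he hR

end

/-- **`GamFive K`** (`Node/NO3SGam.lean`). -/
theorem gamFive (K : Cfsg.Agent.Omega.Frame.Cls.{u}) :
    ∀ (G : Type u) [Group G] [Finite G], K G → ∀ (S : Sylow 2 G) (P F : Subgroup G), WSt S P F →
    zc (S : Subgroup G) ⊓ centralizer (P : Set G) = ⊥ → FFMod (S : Subgroup G) P →
      (∀ R, IsParS (S : Subgroup G) R → R ≤ normalizer (zl (S : Subgroup G) P : Set G)) →
        zl (S : Subgroup G) (MZ (S : Subgroup G)) = zl (S : Subgroup G) P →
          (∃ R, PSS (S : Subgroup G) R ∧ zl (S : Subgroup G) R = zl (S : Subgroup G) P) → IsKnownSimple' G :=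
  gamFive_one K oneK

end Cfsg.Agent.Omega.NO3S.SFive
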