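import Cfsg.Agent.Omega.NO3S.SFive.Chamber
import Cfsg.Agent.Omega.NO3S.SFive.PBN
import Cfsg.Agent.Omega.NO3S.SFive.NatD
import Cfsg.Agent.Omega.NO3S.SFive.TySym

/-!
# GammaFF (S5): `[V, B] ≤ L` is impossible (helper31, (A2); LEMMA (PB) of helper422 #22571)

* `Fv.not_VB` : for `B ≤ S`, `B` not centralising `L`: not all `c v b`, `v ∈ V`, `b ∈ B`, lie in `L`.

All types of `L`, any number of blocks.  `trv V ∩ S ≰ O₂(P)`, so `O²(P) ≤ trv V`; then `pbN` with
`D = O²(P) ∩ (the elements acting on one block only)`.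
-/

set_option autoImplicit false
set_option linter.unusedSectionVars false

namespace Cfsg.Agent.Omega.NO3S.SFive

open Subgroup Cfsg Cfsg.Agent.ZN Cfsg.Agent.Omega.MinPar Cfsg.Agent.Omega.Frame Cfsg.Agent.Omega.FrameNOFF
open Cfsg.Agent.Omega.FFThm (ElemM OffM NoOverM ConclM NatK NatKM SymK SymKM)
open Cfsg.Agent.MinSimple.VModule (oddGen mem_oddGen oddGen_le oddGen_le_of_sup le_normalizer_oddGen)
open scoped Pointwise commutatorElement

universe u

/-! ### Odd powers -/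

section odd

theorem exists_odd_pow {G : Type*} [Group G] [Finite G] (g : G) : ∃ n : ℕ, Odd (orderOf (g ^ 4 ^ n)) := by
  obtain ⟨a, m, hm, h⟩ := Nat.exists_eq_two_pow_mul_odd (orderOf_pos g).ne'
  refine ⟨a, Odd.of_dvd_nat hm (orderOf_dvd_of_pow_eq_one ?_)⟩
  have e : 4 ^ a * m = orderOf g * 2 ^ a := by
    rw [h, show (4 : ℕ) = 2 * 2 from rfl, mul_pow]; ring
  rw [← pow_mul, e, pow_mul, pow_orderOf_eq_one, one_pow]

theorem pow_four_pow {H : Type*} [Monoid H] {T : H} (hT : T ^ 3 = 1) (n : ℕ) : T ^ 4 ^ n = T := by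
  induction n with
  | zero => rw [pow_zero, pow_one]
  | succ n ih =>
    rw [pow_succ, pow_mul, ih]
    calc T ^ 4 = T ^ 3 * T := pow_succ T 3
      _ = T := by rw [hT, one_mul]

end odd

/-! ### Natural modules -/

namespace NatVB

open Cfsg.Agent.ZN.ChoiceBase
open Cfsg.Agent.Omega.Half (Amb)
open Cfsg.Agent.Omega.Half.NatA (fac mem_fac Mv Mv.conj Mv.inv Mv.unique)
open Cfsg.Agent.Omega.NOThreeL.NF.NatR
open Cfsg.Agent.Omega.NatPair (ap ap_mul ap_one ap_inv_ap ap_zero' ap_one' ext2 exists_ap dt)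
open Cfsg.Agent.Omega.NO1.NSix (em em_mem e_em_self e_em_ne em_fac em_eq mem_of_em)
open Cfsg.Agent.Lib.SL2Mat
open NatD

section field

variable {F : Type} [Field F]

theorem pow_three_of_trace (X : Matrix.SpecialLinearGroup (Fin 2) F) (h : ent X 0 0 + ent X 1 1 = -1) : X ^ 3 = 1 := by
  have hd := det_eq X
  rw [pow_succ, pow_two]
  apply ext_ent
  · simp only [ent_mul, ent_one_00]
    linear_combination ((ent X 0 0 + ent X 1 1 - 1) * ent X 0 0 - (ent X 0 0 * ent X 1 1 - ent X 0 1 * ent X 1 0)) * h +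
      (1 - ent X 0 0) * hd
  · simp only [ent_mul, ent_one_01]
    linear_combination ((ent X 0 0 + ent X 1 1 - 1) * ent X 0 1) * h - ent X 0 1 * hd
  · simp only [ent_mul, ent_one_10]
    linear_combination ((ent X 0 0 + ent X 1 1 - 1) * ent X 1 0) * h - ent X 1 0 * hd
  · simp only [ent_mul, ent_one_11]
    linear_combination ((ent X 0 0 + ent X 1 1 - 1) * ent X 1 1 - (ent X 0 0 * ent X 1 1 - ent X 0 1 * ent X 1 0)) * h +
      (1 - ent X 1 1) * hd

/-- an element of order 3 with `x ↦ y` -/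
theorem exists_three_ap {x y : Fin 2 → F} (h : dt x y ≠ 0) :
    ∃ T : Matrix.SpecialLinearGroup (Fin 2) F, T ^ 3 = 1 ∧ ap T x = y := by
  obtain ⟨c, hc⟩ : ∃ c, c * dt x y = 1 := ⟨(dt x y)⁻¹, inv_mul_cancel₀ h⟩
  unfold dt at hc
  refine ⟨mk (c * (y 1 * y 0 + x 1 * (x 0 + y 0))) (-(c * (y 0 * y 0 + x 0 * (x 0 + y 0))))
    (c * (y 1 * y 1 + x 1 * (x 1 + y 1))) (-(c * (y 0 * y 1 + x 0 * (x 1 + y 1)))) ?_, ?_, ?_⟩
  · linear_combination (c * (x 0 * y 1 - x 1 * y 0) + 1) * hc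
  · apply pow_three_of_trace
    rw [mk_00, mk_11]
    linear_combination -hc
  · apply ext2
    · rw [ap_zero', mk_00, mk_01]
      linear_combination (y 0) * hc
    · rw [ap_one', mk_10, mk_11]
      linear_combination (y 1) * hc

end field

section grp

variable {G : Type u} [Group G] {F : Type} [Field F] {S P W : Subgroup G} {k : ℕ} {M : NatKM F S P W ⊥ k}
  {hPW : P ≤ normalizer (W : Set G)} {j : Fin k}

theorem ac_pow {g : G} {X : Matrix.SpecialLinearGroup (Fin 2) F} (hPW : P ≤ normalizer (W : Set G)) (hg : g ∈ P)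
    (h : Ac M g (Pi.mulSingle j X)) (n : ℕ) : Ac M (g ^ n) (Pi.mulSingle j (X ^ n)) := by
  induction n with
  | zero =>
    rw [pow_zero, pow_zero, Pi.mulSingle_one]
    exact ac_one (one_mem _)
  | succ n ih =>
    rw [pow_succ, pow_succ, Pi.mulSingle_mul]
    exact Ac.mul hPW hg ih h

/-- an element of order 3 of `SL₂(F)` is induced by an element of odd order -/
theorem exists_odd_ac [Finite G] (hPW : P ≤ normalizer (W : Set G)) {T : Matrix.SpecialLinearGroup (Fin 2) F}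
    (hT : T ^ 3 = 1) : ∃ g ∈ oneG M hPW j ⊓ oddGen P, Ac M g (Pi.mulSingle j T) := by
  obtain ⟨g, hg, hac⟩ := lift_ac (M := M) (Pi.mulSingle j T)
  obtain ⟨n, hn⟩ := exists_odd_pow g
  have h1 := ac_pow hPW hg hac (4 ^ n)
  rw [pow_four_pow hT] at h1
  have h2 : g ^ 4 ^ n ∈ P := pow_mem hg _
  exact ⟨g ^ 4 ^ n, mem_inf.2 ⟨⟨h2, T, h1⟩, mem_oddGen h2 hn⟩, h1⟩

/-- `O²(P) ∩ oneG j` is irreducible on the block `j`. -/
theorem irr [Finite G] {U : Subgroup G} (hU : U ≤ fac M.toNatK {j}) (hne : U ≠ ⊥)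
    (hn : oneG M hPW j ⊓ oddGen P ≤ normalizer (U : Set G)) : fac M.toNatK {j} ≤ U := by
  obtain ⟨⟨u, hu⟩, hu1'⟩ := U.ne_bot_iff_exists_ne_one.1 hne
  have hu1 : u ≠ 1 := fun h1 => hu1' (Subtype.ext h1)
  have huW : u ∈ W := (hU hu).1
  have hx : M.e u j ≠ 0 := by
    intro h0
    apply hu1
    refine e_inj (M := M) huW (one_mem _) ?_
    rw [e_one]
    funext i
    by_cases hi : i = j
    · rw [hi, h0]; rfl
    · exact (hU hu).2 i hi
  have step : ∀ w ∈ U, ∀ y : Fin 2 → F, dt (M.e w j) y ≠ 0 → em M.toNatK j y ∈ U := by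
    intro w hw y hy
    have hwW : w ∈ W := (hU hw).1
    obtain ⟨T, hT, hTy⟩ := exists_three_ap hy
    obtain ⟨g, hg, hac⟩ := exists_odd_ac (M := M) (j := j) hPW hT
    have h1 : g * w * g⁻¹ ∈ U := (mem_normalizer_iff.1 (hn hg) w).1 hw
    have h2 : em M.toNatK j y = g * w * g⁻¹ := by
      refine e_inj (M := M) (em_mem _ _ _) (hU h1).1 ?_
      funext i
      by_cases hi : i = j
      · subst hi
        rw [ac_self hac hwW, hTy]
        exact e_em_self _ _ _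
      · rw [ac_other hac hwW hi, (hU hw).2 i hi]
        exact e_em_ne _ hi _
    rw [h2]; exact h1
  have all : ∀ y : Fin 2 → F, y ≠ 0 → em M.toNatK j y ∈ U := by
    intro y hy
    obtain ⟨z, hz1, hz2⟩ := NatD.exists_third hx hy
    have h1 := step u hu z hz1
    refine step _ h1 y ?_
    have e : M.e (em M.toNatK j z) j = z := e_em_self _ _ _
    rwa [e]
  intro v hv
  by_cases h0 : M.e v j = 0
  · have : v = 1 := by
      refine e_inj (M := M) hv.1 (one_mem _) ?_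
      rw [e_one]
      funext i
      by_cases hi : i = j
      · rw [hi, h0]; rfl
      · exact hv.2 i hi
    rw [this]; exact one_mem _
  · have h1 := all _ h0
    have h2 := em_eq M.toNatK hv.1 (i := j) fun i hi => hv.2 i hi
    rwa [h2] at h1

theorem nt [Finite G] : ¬ oneG M hPW j ⊓ oddGen P ≤ centralizer (fac M.toNatK {j} : Set G) := by
  intro hc
  have h01 : dt (![1, 0] : Fin 2 → F) ![0, 1] ≠ 0 := by simp [dt]
  obtain ⟨T, hT, hTy⟩ := exists_three_ap h01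
  obtain ⟨g, hg, hac⟩ := exists_odd_ac (M := M) (j := j) hPW hT
  have hvN : em M.toNatK j ![1, 0] ∈ fac M.toNatK {j} := em_fac _ _ _
  have hve : M.e (em M.toNatK j ![1, 0]) j = ![1, 0] := e_em_self _ _ _
  have h1 := mem_centralizer_iff.1 (hc hg) _ hvN
  have h2 := ac_self hac hvN.1
  rw [← h1, mul_inv_cancel_right, hve, hTy] at h2
  have h3 := congrFun h2 0
  exact one_ne_zero h3

theorem dis (hA : Amb S P W) {p : G} (hp : p ∈ P) :
    MulAut.conj p • fac M.toNatK {j} = fac M.toNatK {j} ∨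
      oneG M hPW j ⊓ oddGen P ≤ centralizer ((MulAut.conj p • fac M.toNatK {j} : Subgroup G) : Set G) := by
  obtain ⟨σ, hσ⟩ := M.perm p hp
  rw [exists_conj_fac hA hp hσ]
  by_cases h1 : σ j = j
  · left; rw [h1]
  · right
    exact inf_le_left.trans (le_centralizer_iff.1 fun v hv => cent_oneG hv.1 (hv.2 j fun h => h1 h.symm))

theorem gen (hA : Amb S P W) (j : Fin k) : W ≤ ⨆ p : P, MulAut.conj (p : G) • fac M.toNatK {j} := by
  intro v hv
  refine mem_of_em M.toNatK hv fun i => ?_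
  obtain ⟨s, hs, hsi⟩ := M.trans j i
  obtain ⟨σ, hσ⟩ := M.perm s (hA.TH hs)
  have h1 : σ j = i := Mv.unique M.toNatK hA hσ (hA.TH hs) hsi
  have h2 := exists_conj_fac hA (hA.TH hs) hσ j
  rw [h1] at h2
  have h3 : em M.toNatK i (M.e v i) ∈ fac M.toNatK {i} := em_fac _ _ _
  rw [← h2] at h3
  exact (le_iSup (fun p : P => MulAut.conj (p : G) • fac M.toNatK {j}) ⟨s, hA.TH hs⟩) h3

end grp

end NatVB

/-! ### Even-subset blocks -/

namespace SymVB

open Cfsg.Agent.ZN.ChoiceBase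
open Cfsg.Agent.Omega.Half (Amb)
open Cfsg.Agent.Omega.Half.SymA
open Cfsg.Agent.Omega.NOThreeL.NF.SymRP
open TyS
open scoped Classical

variable {G : Type u} [Group G] {T H V : Subgroup G} {k m : ℕ} {M : SymK T H V ⊥ k m} (hA : Amb T H V)

theorem tc_three {a b c : Pt k m} (hab : a ≠ b) (hbc : b ≠ c) (hac : a ≠ c) :
    (Equiv.swap a b * Equiv.swap b c) ^ 3 = 1 := by
  have h1 := Equiv.Perm.isThreeCycle_swap_mul_swap_same hab.symm hbc hac
  rw [Equiv.swap_comm b a] at h1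
  rw [← h1.orderOf, pow_orderOf_eq_one]

include hA

theorem mv_pow {g : G} {π : Equiv.Perm (Pt k m)} (hg : g ∈ H) (h : Mv M g π) (n : ℕ) : Mv M (g ^ n) (π ^ n) := by
  induction n with
  | zero =>
    rw [pow_zero, pow_zero]
    exact Mv_one M
  | succ n ih =>
    rw [pow_succ, pow_succ]
    exact ih.mul hA h hg

/-- 3-cycles are induced by elements of odd order -/
theorem exists_odd_tc [Finite G] {j : Fin k} {a b c : Pt k m} (ha : a.1 = j) (hb : b.1 = j) (hc : c.1 = j)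
    (hab : a ≠ b) (hbc : b ≠ c) (hac : a ≠ c) :
    ∃ g ∈ Ab M hA j ⊓ oddGen H, Mv M g (Equiv.swap a b * Equiv.swap b c) := by
  obtain ⟨s, hs, hs1⟩ := exists_swap (M := M) (p := a) (q := b) (ha.trans hb.symm)
  obtain ⟨t, ht, ht1⟩ := exists_swap (M := M) (p := b) (q := c) (hb.trans hc.symm)
  have h0 : s * t ∈ H := mul_mem hs ht
  have h1 := hs1.mul hA ht1 ht
  obtain ⟨n, hn⟩ := exists_odd_pow (s * t)
  have h2 := mv_pow hA h0 h1 (4 ^ n)
  rw [pow_four_pow (tc_three hab hbc hac)] at h2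
  have h3 : (s * t) ^ 4 ^ n ∈ H := pow_mem h0 _
  refine ⟨(s * t) ^ 4 ^ n, mem_inf.2 ⟨⟨h3, _, h2, fun r hr => ?_⟩, mem_oddGen h3 hn⟩, h2⟩
  refine tc_ne ?_ ?_ ?_
  · rintro rfl; exact hr ha
  · rintro rfl; exact hr hb
  · rintro rfl; exact hr hc

theorem irr [Finite G] (hm : 2 ≤ m) {j : Fin k} {U : Subgroup G} (hU : U ≤ blk M j) (hne : U ≠ ⊥)
    (hn : Ab M hA j ⊓ oddGen H ≤ normalizer (U : Set G)) : blk M j ≤ U :=
  blk_le_of_tc hA hm hU hne (inf_le_right.trans (oddGen_le H)) hn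
    fun _ _ _ ha hb hc hab hbc hac => exists_odd_tc hA ha hb hc hab hbc hac

theorem nt [Finite G] (hm : 2 ≤ m) {j : Fin k} : ¬ Ab M hA j ⊓ oddGen H ≤ centralizer (blk M j : Set G) := by
  intro hcon
  obtain ⟨y, z, hyz, ⟨hy1, -, -⟩, hz1, -, -⟩ := exists_two hm 0 0 0
  obtain ⟨c, hc⟩ := exists_isC (M := M) (p := (j, 0)) (q := (j, y)) rfl
  have n1 : ((j, 0) : Pt k m) ≠ (j, y) := fun h => hy1 (congrArg Prod.snd h).symm
  have n2 : ((j, y) : Pt k m) ≠ (j, z) := fun h => hyz (congrArg Prod.snd h)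
  have n3 : ((j, 0) : Pt k m) ≠ (j, z) := fun h => hz1 (congrArg Prod.snd h).symm
  obtain ⟨g, hg, hg1⟩ := exists_odd_tc (M := M) hA (j := j) (a := (j, 0)) (b := (j, y)) (c := (j, z)) rfl rfl rfl n1 n2 n3
  have h1 := mem_centralizer_iff.1 (hcon hg) c (pair_mem_blk (j := j) (a := (j, 0)) (b := (j, y)) rfl rfl hc)
  have h2 := hg1 c hc.1 (j, z)
  rw [← h1, mul_inv_cancel_right, tc_c, hc.left n1, hc.zero n3.symm n2.symm] at h2
  exact one_ne_zero h2

theorem dis (hm : 1 ≤ m) {j : Fin k} {p : G} (hp : p ∈ H) :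
    MulAut.conj p • blk M j = blk M j ∨
      Ab M hA j ⊓ oddGen H ≤ centralizer ((MulAut.conj p • blk M j : Subgroup G) : Set G) := by
  obtain ⟨π, hπ, -⟩ := exists_mv (M := M) hp
  have h0 := smul_blk hA hm hp hπ ((j, 0) : Pt k m)
  change MulAut.conj p • blk M j = _ at h0
  rw [h0]
  by_cases hj : (π (j, 0)).1 = j
  · left; rw [hj]
  · right
    exact inf_le_left.trans (ab_cent hA hj)

end SymVB

/-! ### The theorem -/

variable {G : Type u} [Group G] [Finite G] {S : Sylow 2 G} {P V M F : Subgroup G}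

namespace Fv

variable (h : Fv S P V M F)
include h

/-- if `[V, B] ≤ L`, `B` not centralising `L`, then `[V, O²(P)] ≤ L` -/
theorem oddGen_le_trv {B : Subgroup G} (hBS : B ≤ (S : Subgroup G))
    (hBL : ¬ B ≤ centralizer (zl (S : Subgroup G) P : Set G))
    (hc : ∀ v ∈ V, ∀ b ∈ B, NOne.NearFF.c v b ∈ zl (S : Subgroup G) P) : oddGen P ≤ trv h.PL V := by
  have hBt : B ≤ trv h.PL V := by
    intro b hb
    refine ⟨h.SP (hBS hb), fun v hv => ?_⟩
    have h1 := inv_mem (hc v hv b hb)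
    have e : (NOne.NearFF.c v b)⁻¹ = ph v b := by simp only [ph, NOne.NearFF.c_def]; group
    rwa [e] at h1
  have hn : P ≤ normalizer (trv h.PL V : Set G) := by
    refine le_normalizer_of' fun p hp r hr => ⟨mul_mem (mul_mem hp hr.1) (inv_mem hp), fun v hv => ?_⟩
    have h1 : p⁻¹ * v * p ∈ V := by
      have h2 := (mem_normalizer_iff.1 (h.MV (h.PM (inv_mem hp))) v).1 hv
      rwa [inv_inv] at h2
    have h2 := (mem_normalizer_iff.1 (h.PL hp) _).1 (hr.2 _ h1)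
    have e : p * ph (p⁻¹ * v * p) r * p⁻¹ = ph v (p * r * p⁻¹) := by simp only [ph]; group
    rwa [e] at h2
  have hle : trv h.PL V ≤ P := fun r hr => hr.1
  rcases h.par.toIsPar.sup_eq_or_inf_le S hle hn with h1 | h1
  · exact oddGen_le_of_sup hn h1.ge h.SP hle S.isPGroup'
  · exfalso
    refine hBL fun b hb => ?_
    have h2 : b ∈ o2 P := h1 (mem_inf.2 ⟨hBS hb, hBt hb⟩)
    rw [← h.par.inf_centralizer S h.ct] at h2
    exact (mem_inf.1 h2).2

/-- every nontrivial `P`-invariant subgroup of `V` meets `L` -/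
theorem inf_zl_ne {U : Subgroup G} (hU : U ≤ V) (hne : U ≠ ⊥) (hPU : P ≤ normalizer (U : Set G)) :
    U ⊓ zl (S : Subgroup G) P ≠ ⊥ := by
  obtain ⟨x, hx, hx1, hxf⟩ := NOThreeL.AdjTransv.exists_fixed (S := (S : Subgroup G)) (N := U) S.isPGroup' hne
    (fun n hn => by rw [← pow_two]; exact h.sq_V (hU hn))
    (fun s hs n hn => (mem_normalizer_iff.1 (hPU (h.SP hs)) n).1 hn)
  have h1 : x ∈ zc (S : Subgroup G) := MinSimple.VModule.mem_zc.2
    ⟨h.VS (hU hx), fun s hs => mul_inv_eq_iff_eq_mul.1 (hxf s hs), h.sq_V (hU hx)⟩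
  intro h2
  have h3 : x ∈ U ⊓ zl (S : Subgroup G) P := mem_inf.2 ⟨hx, MinSimple.VModule.zc_le_zl _ _ h1⟩
  rw [h2, mem_bot] at h3
  exact hx1 h3

theorem block_false (ht : oddGen P ≤ trv h.PL V) {D N : Subgroup G} (hD : D ≤ oddGen P)
    (hNL : N ≤ zl (S : Subgroup G) P) (hgen : zl (S : Subgroup G) P ≤ ⨆ p : P, MulAut.conj (p : G) • N)
    (hirr : ∀ U ≤ N, U ≠ ⊥ → D ≤ normalizer (U : Set G) → N ≤ U) (hDN : D ≤ normalizer (N : Set G))
    (hnt : ¬ D ≤ centralizer (N : Set G))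
    (hdis : ∀ p ∈ P, MulAut.conj p • N = N ∨ D ≤ centralizer ((MulAut.conj p • N : Subgroup G) : Set G)) :
    False := by
  refine h.ne (pbN (Q := o2 P) h.toHyp.comm (fun v hv => h.sq_V hv) (h.PM.trans h.MV) h.PL h.LV (o2_le P)
    ?_ h.t6 (hD.trans (oddGen_le P)) hNL hgen hirr hDN hnt hdis ?_ (fun U hU hne hn => h.inf_zl_ne hU hne hn)
    fun A hA' => h.noOff A ((hA'.trans h.PM).trans h.MV))
  · rw [← h.par.inf_centralizer S h.ct]
    exact inf_le_right
  · rw [commutator_le]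
    intro v hv d hd
    have h1 := inv_mem ((ht (hD hd)).2 v hv)
    have e : (ph v d)⁻¹ = ⁅v, d⁆ := by rw [commutatorElement_def]; simp only [ph]; group
    rwa [e] at h1

theorem nat_false' (ht : oddGen P ≤ trv h.PL V) {K : Type} [Field K] {k : ℕ} (j : Fin k)
    (MM : NatKM K (S : Subgroup G) P (zl (S : Subgroup G) P) ⊥ k)
    (hA : Half.Amb (S : Subgroup G) P (zl (S : Subgroup G) P)) : False := by
  have h1 : Half.NatA.fac MM.toNatK {j} ≤ zl (S : Subgroup G) P := fun v hv => hv.1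
  have h2 := NatVB.gen (M := MM) hA j
  have h3 : ∀ U ≤ Half.NatA.fac MM.toNatK {j}, U ≠ ⊥ →
      NatD.oneG MM hA.HV j ⊓ oddGen P ≤ normalizer (U : Set G) → Half.NatA.fac MM.toNatK {j} ≤ U :=
    fun U hU hne hn => NatVB.irr (M := MM) (hPW := hA.HV) (j := j) hU hne hn
  have h4 : NatD.oneG MM hA.HV j ⊓ oddGen P ≤ normalizer (Half.NatA.fac MM.toNatK {j} : Set G) :=
    inf_le_left.trans (NatD.oneG_norm (M := MM) (hPW := hA.HV) (j := j))
  have h5 := NatVB.nt (M := MM) (hPW := hA.HV) (j := j)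
  have h6 := fun p (hp : p ∈ P) => NatVB.dis (M := MM) (hPW := hA.HV) (j := j) hA hp
  exact h.block_false ht inf_le_right h1 h2 h3 h4 h5 h6

theorem nat_false (ht : oddGen P ≤ trv h.PL V) {K : Type} [Field K] {k : ℕ} (hk : 0 < k)
    (MM : NatKM K (S : Subgroup G) P (zl (S : Subgroup G) P) ⊥ k) : False :=
  h.nat_false' ht ⟨0, hk⟩ MM (Half.amb_of_loc h.ct S h.par.isLoc)

theorem sym_false (ht : oddGen P ≤ trv h.PL V) {k m : ℕ} (hk : 0 < k) (hm : 2 ≤ m)
    (MM : SymK (S : Subgroup G) P (zl (S : Subgroup G) P) ⊥ k m) : False := by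
  have hA : Half.Amb (S : Subgroup G) P (zl (S : Subgroup G) P) := Half.amb_of_loc h.ct S h.par.isLoc
  have hm1 : 1 ≤ m := by omega
  exact h.block_false ht (D := TyS.Ab MM hA ⟨0, hk⟩ ⊓ oddGen P) (N := TyS.blk MM ⟨0, hk⟩)
    inf_le_right (fun v hv => hv.1) (TyS.gen hA hm1 _) (fun U hU hne hn => SymVB.irr hA hm hU hne hn)
    (inf_le_left.trans (TyS.ab_norm hA _)) (SymVB.nt hA hm) fun p hp => SymVB.dis hA hm1 hp

/-- **`[V, O²(P)] ≤ L` is impossible.** -/
theorem not_oddGen_le (ht : oddGen P ≤ trv h.PL V) : False := by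
  have hcc := h.concl
  unfold ConclM at hcc
  rw [h.cvb] at hcc
  rcases hcc with ⟨K, _, _, _, k, hk, ⟨MM⟩⟩ | ⟨k, m, hk, hm, ⟨MM⟩⟩
  · exact h.nat_false ht hk MM
  · exact h.sym_false ht hk hm MM.toSymK

/-- **(A2)** -/
theorem not_VB {B : Subgroup G} (hBS : B ≤ (S : Subgroup G))
    (hBL : ¬ B ≤ centralizer (zl (S : Subgroup G) P : Set G)) :
    ¬ ∀ v ∈ V, ∀ b ∈ B, NOne.NearFF.c v b ∈ zl (S : Subgroup G) P :=
  fun hc => h.not_oddGen_le (h.oddGen_le_trv hBS hBL hc)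

end Fv

end Cfsg.Agent.Omega.NO3S.SFive
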