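import Cfsg.Agent.Omega.NO3S.SFive.Four
import Cfsg.Agent.Omega.NO3S.SFive.GamC
import Cfsg.Agent.Omega.NO3S.SFive.Fin
import Cfsg.Agent.Omega.NO3S.SFive.GamA

/-!
# GammaFF (S5): the output of #22081 from the frame (helper75 #22081, helper31 #23010)

`Gw S P V M F` : `[L ∩ E', B'] = 1` at all chambers `B' ≤ S` with `L ≰ E'`.

* `Fv.gamOw` : `GamO` from `Gw`;
* `Fv.gw_of` : `Gw`, if no `B ≤ S` with `[L, B] ≠ 1` has `[V, B] ≤ L` (helper531, `Fv.not_VB`);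
* `Fv.perp_of`, `Fv.four_of` : (4) from `Gw`;
* **`Fv.outF`** : `OutD S P V M F F' B s` from `Gw`.
-/

set_option autoImplicit false

namespace Cfsg.Agent.Omega.NO3S.SFive

open Subgroup Cfsg Cfsg.Agent.ZN Cfsg.Agent.Omega.MinPar Cfsg.Agent.Omega.Frame Cfsg.Agent.Omega.FrameNOFF
open Cfsg.Agent.Omega.NOne.Flat (EE NN)
open Cfsg.Agent.Omega.NOne.NearFF (c)
open scoped Pointwise commutatorElement

universe u

variable {G : Type u} [Group G] [Finite G] {S : Sylow 2 G} {P V M F : Subgroup G}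

/-- `[L ∩ E', B'] = 1` at all chambers `B' ≤ S` with `L ≰ E'` -/
def Gw (S : Sylow 2 G) (P V M F : Subgroup G) : Prop :=
  ∀ m ∈ M, BB S P V M (MulAut.conj m • F) ≤ (S : Subgroup G) →
    ¬ zl (S : Subgroup G) P ≤ EE V (MulAut.conj m • F) →
      zl (S : Subgroup G) P ⊓ EE V (MulAut.conj m • F) ≤
        centralizer ((BB S P V M (MulAut.conj m • F) : Subgroup G) : Set G)

namespace Fv

variable (h : Fv S P V M F)
include h

theorem gamOw (ha : ∃ m ∈ DW S V M F, ¬ MulAut.conj m • zl (S : Subgroup G) P ≤ F) (gw : Gw S P V M F) :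
    ∀ m ∈ M, BB S P V M (MulAut.conj m • F) ≤ (S : Subgroup G) →
      ¬ zl (S : Subgroup G) P ≤ EE V (MulAut.conj m • F) →
      GamO (S : Subgroup G) P V (MulAut.conj m • F) (BB S P V M (MulAut.conj m • F)) := by
  intro m hm hBS hUE
  have h' := h.conj hm
  have hg := gw m hm hBS hUE
  obtain ⟨h1, h2, h3, h4⟩ := h'.gam_of h'.bh h'.sq_BB hBS hUE (h'.not_le_F (h.act_conj hm ha) le_rfl) hg
  exact ⟨hg, h1, h2, h3, h4⟩

/-- `Gw` from: no `B ≤ S` with `[L, B] ≠ 1` has `[V, B] ≤ L` -/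
theorem gw_of (ha : ∃ m ∈ DW S V M F, ¬ MulAut.conj m • zl (S : Subgroup G) P ≤ F)
    (nvb : ∀ B ≤ (S : Subgroup G), ¬ B ≤ centralizer (zl (S : Subgroup G) P : Set G) →
      ¬ ∀ v ∈ V, ∀ b ∈ B, c v b ∈ zl (S : Subgroup G) P) : Gw S P V M F := by
  intro m hm hBS hUE
  have h' := h.conj hm
  have ha' := h.act_conj hm ha
  by_contra hne
  refine nvb _ hBS (fun h1 => hne (inf_le_left.trans (le_centralizer_iff.1 h1))) ?_
  refine h'.comm_le h'.bh h'.sq_BB hBS hUE ?_ hne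
  obtain ⟨m', hm', h1⟩ := ha'
  exact ⟨m', hm'.1, hm'.2, le_BL' hm', h1⟩

/-- `C_E(B) = I` -/
theorem perp_of (ha : ∃ m ∈ DW S V M F, ¬ MulAut.conj m • zl (S : Subgroup G) P ≤ F) (gw : Gw S P V M F) :
    EE V F ⊓ centralizer (BB S P V M F : Set G) ≤ V ⊓ BB S P V M F := h.perp ha (h.gamOw ha gw)

/-- **(4)** -/
theorem four_of (a : BetaFF.Act S P V F) (gw : Gw S P V M F) :
    ∀ b ∈ BB S P V M F, b ∉ NN V F → ∀ e ∈ EE V F, e * b = b * e → e ∈ BB S P V M F :=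
  h.four a (h.gamOw (h.act_ex a) gw)

/-- **The output of #22081.** -/
theorem outF (hWS : NOne.Flat.WW V F ≤ (S : Subgroup G))
    (hmov : ¬ NOne.Flat.WW V F ≤ centralizer (zl (S : Subgroup G) P : Set G)) (gw : Gw S P V M F) :
    ∃ F' B s, OutD S P V M F F' B s :=
  h.out_of' hWS hmov gw (h.four_of (h.act_one hWS hmov) gw)

end Fv

end Cfsg.Agent.Omega.NO3S.SFive
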