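import Cfsg.Agent.Omega.NO3S.SFive.OutF
import Cfsg.Agent.Omega.NO3S.SFive.Gam

/-!
# GammaFF (S5): #22081 (1)-(7), complete (helper75, 31, 618, 589, 792, 214)

* `Fv.gw` : `[L ∩ E', B'] = 1` at all bad chambers;
* `Fv.perpG` : `C_E(B) = I`; `Fv.fourG` : `C_E(b) ≤ I` for `b ∈ B - N`; **`Fv.outG`** : `OutD`.
-/

set_option autoImplicit false

namespace Cfsg.Agent.Omega.NO3S.SFive

open Subgroup Cfsg Cfsg.Agent.ZN Cfsg.Agent.Omega.MinPar Cfsg.Agent.Omega.Frame Cfsg.Agent.Omega.FrameNOFF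
open Cfsg.Agent.Omega.NOne.Flat (EE NN)
open scoped Pointwise commutatorElement

universe u

variable {G : Type u} [Group G] [Finite G] {S : Sylow 2 G} {P V M F : Subgroup G}

namespace Fv

variable (h : Fv S P V M F)
include h

theorem gw (ha : ∃ m ∈ DW S V M F, ¬ MulAut.conj m • zl (S : Subgroup G) P ≤ F) : Gw S P V M F :=
  h.gw_of ha fun _ hB hne hVB => h.pbo hB hne hVB

/-- `C_E(B) = I` -/
theorem perpG (ha : ∃ m ∈ DW S V M F, ¬ MulAut.conj m • zl (S : Subgroup G) P ≤ F) :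
    EE V F ⊓ centralizer (BB S P V M F : Set G) ≤ V ⊓ BB S P V M F := h.perp_of ha (h.gw ha)

/-- **(4)** -/
theorem fourG (a : BetaFF.Act S P V F) :
    ∀ b ∈ BB S P V M F, b ∉ NN V F → ∀ e ∈ EE V F, e * b = b * e → e ∈ BB S P V M F :=
  h.four_of a (h.gw (h.act_ex a))

/-- **The output of #22081.** -/
theorem outG (hWS : NOne.Flat.WW V F ≤ (S : Subgroup G))
    (hmov : ¬ NOne.Flat.WW V F ≤ centralizer (zl (S : Subgroup G) P : Set G)) :
    ∃ F' B s, OutD S P V M F F' B s :=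
  h.outF hWS hmov (h.gw (h.act_ex (h.act_one hWS hmov)))

end Fv

end Cfsg.Agent.Omega.NO3S.SFive
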