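import Cfsg.Agent.Omega.NO3S.BetaFF.Act
import Cfsg.Agent.Omega.NOThreeL.Low.Key
import Cfsg.Agent.Omega.NO3S.Fld.LevBR

/-!
# GammaFF (S5), `k = 1` natural: THEOREM WC1 (helper879 #23006), the block analysis in adapted coordinates

`L = V_P` natural for `SL₂(K)`, `|K| ≥ 4`, `N : Crd K S P L`, `R = N.R` the root line; `F` a maximal bad subgroup of `V`,
`E`, `W`; `B` (`BH V F B`) elementary abelian, `I = V ∩ B`.

* `BH_cj` : `BH V F B` is invariant under `N(V)`;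
* `Rt N V F B R'` : `B` acts on `L` as the full root group, `R ∩ F = 1`, `R ≤ B`, `[V, B] ≤ R R'`;
* `rt_of` : this holds if `B ≤ S`, `|I : F| = |K|`, `L ≰ E`, `[E, B] ≤ R'`.
-/

set_option autoImplicit false
set_option linter.unusedSectionVars false
set_option linter.unusedVariables false

namespace Cfsg.Agent.Omega.NO3S.SFive.One

/- `WW`, `Hyp` are those of `NOne.Flat` in this namespace (and not those of `NO3S`). -/
export Cfsg.Agent.Omega.NOne.Flat (WW Hyp)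

open Subgroup Cfsg Cfsg.Agent.ZN Cfsg.Agent.ZN.ChoiceBase Cfsg.Agent.Omega.MinPar
open Cfsg.Agent.Omega.NOne.Flat (Hyp EE WW NN Cos card_mul_relIndex')
open Cfsg.Agent.Omega.NOne.NearFF (c c_def)
open Cfsg.Agent.Omega.NOThreeL.Low.Key (BH)
open Cfsg.Agent.Omega.NO3S.Fld (Crd)
open scoped Pointwise

universe u

variable {G : Type u} [Group G] [Finite G]

theorem cs_eq (m : G) (H : Subgroup G) : MulAut.conj m • H = cj m H := rfl

/-- elements of a product -/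
theorem sup_split {A B : Subgroup G} (hn : A ≤ normalizer (B : Set G)) {x : G} (hx : x ∈ A ⊔ B) :
    ∃ a ∈ A, ∃ b ∈ B, x = a * b := by
  have h1 : x ∈ ((A ⊔ B : Subgroup G) : Set G) := hx
  rw [coe_mul_of_left_le_normalizer_right A B hn] at h1
  obtain ⟨a, ha, b, hb, hab⟩ := h1
  exact ⟨a, ha, b, hb, hab.symm⟩

/-- subgroups of an abelian group normalise each other -/
theorem ab_norm {V A B : Subgroup G} (hV : V ≤ centralizer (V : Set G)) (hA : A ≤ V) (hB : B ≤ V) :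
    A ≤ normalizer (B : Set G) :=
  (hA.trans (hV.trans (centralizer_le hB))).trans (centralizer_le_normalizer _)

/-- `cj` of a commutator -/
theorem cj_c (g x y : G) : g * c x y * g⁻¹ = c (g * x * g⁻¹) (g * y * g⁻¹) := by
  simp only [c]; group

theorem mem_cj' {g x : G} {H : Subgroup G} (hx : x ∈ H) : g * x * g⁻¹ ∈ cj g H := by
  rw [mem_cj]
  have e : g⁻¹ * (g * x * g⁻¹) * g = x := by group
  rwa [e]

theorem EE_cj {V F : Subgroup G} {m : G} (hm : m ∈ normalizer (V : Set G)) : EE V (cj m F) = cj m (EE V F) := by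
  rw [← cs_eq m F, ← cs_eq m (EE V F)]
  exact (NOne.Flat.EE_conj hm).symm

theorem WW_cj {V F : Subgroup G} {m : G} (hm : m ∈ normalizer (V : Set G)) : WW V (cj m F) = cj m (WW V F) := by
  rw [← cs_eq m F, ← cs_eq m (WW V F)]
  exact (NOne.Flat.WW_conj hm).symm

theorem Hyp_cj {V F : Subgroup G} (h : Hyp V F) {m : G} (hm : m ∈ normalizer (V : Set G)) : Hyp V (cj m F) := by
  rw [← cs_eq m F]
  exact h.conj hm

/-- `BH` is invariant under `N(V)`. -/
theorem BH_cj {V F B : Subgroup G} (h : BH V F B) {m : G} (hm : m ∈ normalizer (V : Set G)) :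
    BH V (cj m F) (cj m B) := by
  have h0 := Hyp_cj h.toHyp hm
  have h1 : cj m B ≤ WW V (cj m F) := by
    rw [WW_cj hm]
    exact cj_mono m h.le_W
  have h2 : cj m B ≤ centralizer ((cj m B : Subgroup G) : Set G) := by
    rw [← cj_centralizer]
    exact cj_mono m h.abel
  have h3 : centralizer ((cj m F : Subgroup G) : Set G) ≤ normalizer ((cj m B : Subgroup G) : Set G) := by
    rw [← cj_centralizer, ← cj_normalizer]
    exact cj_mono m h.norm
  exact { toHyp := h0, le_W := h1, F_le := cj_mono m h.F_le, abel := h2, norm := h3 }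

variable {K : Type*} [Field K] {S P L V F B R' : Subgroup G}

/-- The output of the block analysis: `B` acts on `L` as the full root group. -/
structure Rt (N : Crd K S P L) (V F B R' : Subgroup G) : Prop where
  cen : B ≤ centralizer (N.R : Set G)
  full : ∀ a : K, ∃ b ∈ B, N.Act b (RingEquiv.refl K) a
  RF : N.R ⊓ F = ⊥
  RB : N.R ≤ B
  comm : ∀ v ∈ V, ∀ b ∈ B, c v b ∈ N.R ⊔ R'

section

variable [Finite K] [CharP K 2] (N : Crd K S P L) (bh : BH V F B) (hsq : ∀ b ∈ B, b ^ 2 = 1) (hBS : B ≤ S)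
  (hLV : L ≤ V)
include N bh hsq hBS hLV

/-- `c v b ∈ R` for `v ∈ L`, `b ∈ C_S(R)` -/
theorem c_mem_R {v b : G} (hb : b ∈ S) (hbR : b ∈ centralizer (N.R : Set G)) (hv : v ∈ L) : c v b ∈ N.R := by
  have h1 := N.comm_R hb hbR hv
  have h2 := inv_mem h1
  have e : (b * v * b⁻¹ * v⁻¹)⁻¹ = c v b := by rw [c]; group
  rwa [e] at h2

/-- no field automorphisms -/
theorem cen_of (h4 : 2 < F.relIndex (V ⊓ B)) (hLE : ¬ L ≤ EE V F) : B ≤ centralizer (N.R : Set G) := by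
  by_contra hn
  have hsq' : ∀ a ∈ B, a ^ 2 ∈ centralizer (N.R : Set G) := fun a ha => by
    rw [hsq a ha]; exact one_mem _
  obtain ⟨φ, h1, h2, h3⟩ := N.exists_phi hBS hsq' hn
  obtain ⟨f, hf, hfR⟩ := SetLike.not_le_iff_exists.1 hn
  obtain ⟨cf, hcf⟩ := h3 f hf hfR
  -- the elements of `C_B(R)` centralise `L`
  have key : ∀ d ∈ B, d ∈ centralizer (N.R : Set G) → d ∈ centralizer (L : Set G) := by
    intro d hd hdR
    obtain ⟨cd, hcd⟩ := N.exists_root (hBS hd) hdR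
    obtain ⟨y, hy⟩ : ∃ y, φ y ≠ y := by
      by_contra hcon
      push Not at hcon
      exact h1 (RingEquiv.ext hcon)
    rw [hcd.mem_centV]
    refine ⟨rfl, ?_⟩
    have h5 := bh.quad (hLV (N.e_mem ![0, y])) hf hd
    have h6 : c (N.e ![0, y]) f = N.e ![-(cf * φ y), y - φ y] := by
      have h7 := hcf ![0, y]
      have e : c (N.e ![0, y]) f = N.e ![0, y] * (f * N.e ![0, y] * f⁻¹)⁻¹ := by rw [c]; group
      rw [e, h7, ← N.e_neg, ← N.e_add]
      congr 1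
      apply NatPair.ext2 <;> simp [sub_eq_add_neg]
    rw [h6] at h5
    have h8 := hcd ![-(cf * φ y), y - φ y]
    rw [← h5, mul_inv_cancel_right] at h8
    have h9 := congrFun (N.e_inj h8) 0
    have h10 : cd * (y - φ y) = 0 := by
      have h11 : -(cf * φ y) = -(cf * φ y) + cd * (y - φ y) := by simpa using h9
      exact left_eq_add.1 h11
    rcases mul_eq_zero.1 h10 with h11 | h11
    · exact h11
    · exact absurd (sub_eq_zero.1 h11).symm hy
  obtain ⟨w, hw, hwE⟩ := SetLike.not_le_iff_exists.1 hLE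
  refine absurd h4 (not_lt.2 (bh.relIndex_le_two (hLV hw) hwE fun b hb b' hb' hbw hbw' => ?_))
  have hmv : ∀ b ∈ B, b * w * b⁻¹ ≠ w → b ∉ centralizer (N.R : Set G) := by
    intro b hb hbw hbR
    apply hbw
    have h5 := mem_centralizer_iff.1 (key b hb hbR) w hw
    rw [← h5, mul_inv_cancel_right]
  obtain ⟨c1, hc1⟩ := h3 b hb (hmv b hb hbw)
  obtain ⟨c2, hc2⟩ := h3 b' hb' (hmv b' hb' hbw')
  have h5 : b'⁻¹ * b ∈ centralizer (L : Set G) := by
    refine key _ (mul_mem (inv_mem hb') hb) ?_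
    rw [(hc2.inv.mul hc1).mem_centR]
    ext x
    simp
  have h6 := mem_centralizer_iff.1 h5 w hw
  calc b * w * b⁻¹ = b' * ((b'⁻¹ * b) * w) * b⁻¹ := by group
    _ = b' * (w * (b'⁻¹ * b)) * b⁻¹ := by rw [h6]
    _ = b' * w * b'⁻¹ := by group

/-- `R ∩ F = 1`, `R ≤ B`, `|I : F| = |K|` -/
theorem RF_of (hcen : B ≤ centralizer (N.R : Set G)) (hidx : Nat.card K ≤ F.relIndex (V ⊓ B))
    (hLE : ¬ L ≤ EE V F) : N.R ⊓ F = ⊥ ∧ N.R ≤ B ∧ F.relIndex (V ⊓ B) = Nat.card K := by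
  obtain ⟨w, hw, hwE⟩ := SetLike.not_le_iff_exists.1 hLE
  have hF := bh.F_le_I
  -- `I = (R ∩ I) F`
  have h1 : (N.R ⊓ (V ⊓ B)) ⊔ F = V ⊓ B := by
    apply le_antisymm (sup_le inf_le_right hF)
    intro y hy
    obtain ⟨b, hb, hbF⟩ := bh.surj (hLV hw) hwE hy
    have h2 := c_mem_R N bh hsq hBS hLV (hBS hb) (hcen hb) hw
    have e : y = c w b * ((c w b)⁻¹ * y) := by group
    rw [e]
    exact mul_mem (mem_sup_left ⟨h2, bh.c_memI (hLV hw) hb⟩) (mem_sup_right hbF)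
  have hnF : (N.R ⊓ (V ⊓ B) : Subgroup G) ≤ normalizer (F : Set G) :=
    ab_norm bh.toHyp.comm (inf_le_right.trans inf_le_left) bh.toHyp.F_le_V
  have h2 := NOne.Flat.Off.card_sup_mul_inf hnF
  rw [h1] at h2
  have h3 := card_mul_relIndex' hF
  have h4 : Nat.card ↥(N.R ⊓ (V ⊓ B) : Subgroup G) ≤ Nat.card K := by
    rw [← N.card_R]
    exact Subgroup.card_le_of_le inf_le_left
  have p1 : 0 < Nat.card F := Nat.card_pos
  have p2 : 0 < Nat.card K := Nat.card_pos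
  rw [← h3] at h2
  have h5 : F.relIndex (V ⊓ B) * Nat.card ↥((N.R ⊓ (V ⊓ B)) ⊓ F : Subgroup G) =
      Nat.card ↥(N.R ⊓ (V ⊓ B) : Subgroup G) := by
    have h6 : Nat.card F * (F.relIndex (V ⊓ B) * Nat.card ↥((N.R ⊓ (V ⊓ B)) ⊓ F : Subgroup G)) =
        Nat.card F * Nat.card ↥(N.R ⊓ (V ⊓ B) : Subgroup G) := by
      rw [← mul_assoc, h2, mul_comm]
    exact Nat.eq_of_mul_eq_mul_left p1 h6
  have h6 : Nat.card ↥((N.R ⊓ (V ⊓ B)) ⊓ F : Subgroup G) = 1 := by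
    have p3 : 0 < Nat.card ↥((N.R ⊓ (V ⊓ B)) ⊓ F : Subgroup G) := Nat.card_pos
    by_contra hne
    have h7 : 2 ≤ Nat.card ↥((N.R ⊓ (V ⊓ B)) ⊓ F : Subgroup G) := by omega
    have h8 := Nat.mul_le_mul hidx h7
    omega
  rw [h6, mul_one] at h5
  have h8 : F.relIndex (V ⊓ B) = Nat.card K := le_antisymm (by rw [h5]; exact h4) hidx
  have h7 : N.R ⊓ (V ⊓ B) = N.R := Subgroup.eq_of_le_of_card_ge inf_le_left (by rw [N.card_R, ← h5, h8])
  refine ⟨?_, (inf_eq_left.1 h7).trans inf_le_right, h8⟩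
  rw [← h7]
  exact Subgroup.card_eq_one.1 h6

/-- The root group is full. -/
theorem full_of (hcen : B ≤ centralizer (N.R : Set G)) (hRF : N.R ⊓ F = ⊥) (hRB : N.R ≤ B) (hLE : ¬ L ≤ EE V F)
    (a : K) : ∃ b ∈ B, N.Act b (RingEquiv.refl K) a := by
  obtain ⟨w, hw, hwE⟩ := SetLike.not_le_iff_exists.1 hLE
  obtain ⟨x, rfl⟩ := (N.mem_iff w).1 hw
  have hx : x 1 ≠ 0 := by
    intro h0
    apply hwE
    exact bh.I_le_E ⟨hLV hw, hRB (N.e_mem_R.2 h0)⟩
  have ht : N.e ![-(a * x 1), 0] ∈ V ⊓ B :=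
    ⟨hLV (N.e_mem _), hRB ⟨_, rfl⟩⟩
  obtain ⟨b, hb, hbF⟩ := bh.surj (hLV hw) hwE ht
  have h2 := c_mem_R N bh hsq hBS hLV (hBS hb) (hcen hb) hw
  have h3 : (c (N.e x) b)⁻¹ * N.e ![-(a * x 1), 0] = 1 := by
    have h4 : (c (N.e x) b)⁻¹ * N.e ![-(a * x 1), 0] ∈ N.R ⊓ F := ⟨N.R.mul_mem (N.R.inv_mem h2) ⟨_, rfl⟩, hbF⟩
    rw [hRF] at h4
    exact mem_bot.1 h4
  have h4 : c (N.e x) b = N.e ![-(a * x 1), 0] := (inv_mul_eq_one.1 h3)
  obtain ⟨cb, hcb⟩ := N.exists_root (hBS hb) (hcen hb)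
  have h5 : c (N.e x) b = N.e ![-(cb * x 1), 0] := by
    have h7 := hcb x
    have e : c (N.e x) b = N.e x * (b * N.e x * b⁻¹)⁻¹ := by rw [c]; group
    rw [e, h7, ← N.e_neg, ← N.e_add]
    congr 1
    apply NatPair.ext2 <;> simp
  rw [h5] at h4
  have h6 := congrFun (N.e_inj h4) 0
  have h7 : cb * x 1 = a * x 1 := by simpa using h6
  have h8 := mul_right_cancel₀ hx h7
  subst h8
  exact ⟨b, hb, hcb⟩

/-- `L ∩ E = R` -/
theorem inf_E (hcen : B ≤ centralizer (N.R : Set G)) (hRF : N.R ⊓ F = ⊥) (hRB : N.R ≤ B) (hLE : ¬ L ≤ EE V F) :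
    L ⊓ EE V F = N.R := by
  have hfull := full_of N bh hsq hBS hLV hcen hRF hRB hLE
  have hRE : N.R ≤ EE V F := fun r hr => bh.I_le_E ⟨hLV (N.R_le hr), hRB hr⟩
  refine le_antisymm ?_ (le_inf N.R_le hRE)
  rintro v ⟨hv, hvE⟩
  obtain ⟨x, rfl⟩ := (N.mem_iff v).1 hv
  rw [N.e_mem_R]
  by_contra hx
  obtain ⟨b, hb, hbc⟩ := hfull 1
  have h5 : c (N.e x) b ∈ N.R ⊓ F :=
    ⟨c_mem_R N bh hsq hBS hLV (hBS hb) (hcen hb) hv, bh.toHyp.comm_EW hvE (bh.le_W hb)⟩
  rw [hRF, mem_bot, NOne.Flat.Off.c_eq_one] at h5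
  have h6 := hbc x
  rw [← h5, mul_inv_cancel_right] at h6
  have h7 := congrFun (N.e_inj h6) 0
  have h8 : x 0 = x 0 + x 1 := by simpa using h7
  exact hx (left_eq_add.1 h8)

/-- **`|I : F| = |K| ≤ |V : E|`** at a bad line. -/
theorem idx_of (h4 : 4 ≤ Nat.card K) (hidx : Nat.card K ≤ F.relIndex (V ⊓ B)) (hLE : ¬ L ≤ EE V F) :
    F.relIndex (V ⊓ B) = Nat.card K ∧ F.relIndex (V ⊓ B) ≤ (EE V F).relIndex V := by
  have hcen := cen_of N bh hsq hBS hLV (by omega) hLE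
  obtain ⟨hRF, hRB, hidx'⟩ := RF_of N bh hsq hBS hLV hcen hidx hLE
  refine ⟨hidx', ?_⟩
  rw [hidx']
  have h1 := inf_E N bh hsq hBS hLV hcen hRF hRB hLE
  have h2 : (EE V F).relIndex L = Nat.card K := by
    rw [← inf_relIndex_right, inf_comm, h1]
    have h3 := card_mul_relIndex' N.R_le
    rw [N.card_R, N.card_V] at h3
    exact Nat.eq_of_mul_eq_mul_left Nat.card_pos h3
  rw [← h2]
  exact relIndex_le_of_le_right hLV index_ne_zero_of_finite

/-- **The block analysis.** -/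
theorem rt_of (h4 : 4 ≤ Nat.card K) (hidx : F.relIndex (V ⊓ B) = Nat.card K) (hLE : ¬ L ≤ EE V F)
    (hρ : ∀ e ∈ EE V F, ∀ b ∈ B, c e b ∈ R') : Rt N V F B R' := by
  have hcen := cen_of N bh hsq hBS hLV (by omega) hLE
  obtain ⟨hRF, hRB, -⟩ := RF_of N bh hsq hBS hLV hcen hidx.ge hLE
  have hfull := full_of N bh hsq hBS hLV hcen hRF hRB hLE
  refine ⟨hcen, hfull, hRF, hRB, ?_⟩
  have h1 := inf_E N bh hsq hBS hLV hcen hRF hRB hLE
  -- `V = L E`
  have hI : ¬ V ⊓ B ≤ F := fun h => by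
    rw [relIndex_eq_one.2 h] at hidx
    omega
  have h2 : L ⊔ EE V F = V := by
    refine Subgroup.eq_of_le_of_card_ge (sup_le hLV inf_le_left) ?_
    have hn : L ≤ normalizer (EE V F : Set G) := ab_norm bh.toHyp.comm hLV inf_le_left
    have h5 := NOne.Flat.Off.card_sup_mul_inf hn
    rw [h1, N.card_R, N.card_V] at h5
    have h6 := card_mul_relIndex' (inf_le_left : EE V F ≤ V)
    have h7 := bh.relIndex_V_le hI
    rw [hidx] at h7
    have p : 0 < Nat.card K := Nat.card_pos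
    have h8 : Nat.card ↥(L ⊔ EE V F) = Nat.card K * Nat.card ↥(EE V F) := by
      have h9 : Nat.card K * Nat.card ↥(L ⊔ EE V F) = Nat.card K * (Nat.card K * Nat.card ↥(EE V F)) := by
        rw [mul_comm, h5, mul_assoc]
      exact Nat.eq_of_mul_eq_mul_left p h9
    rw [h8, ← h6, mul_comm]
    exact Nat.mul_le_mul_right _ h7
  intro v hv b hb
  rw [← h2] at hv
  have hn : L ≤ normalizer (EE V F : Set G) := ab_norm bh.toHyp.comm hLV inf_le_left
  obtain ⟨l, hl, e, he, rfl⟩ := sup_split hn hv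
  rw [bh.toHyp.c_mul_left (hLV hl) he.1 (bh.le_W hb)]
  exact mul_mem (mem_sup_left (c_mem_R N bh hsq hBS hLV (hBS hb) (hcen hb) hl)) (mem_sup_right (hρ e he b hb))

end

end Cfsg.Agent.Omega.NO3S.SFive.One
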