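import Cfsg.Agent.Omega.NO3S.SFive.WCEnd

/-!
# GammaFF (S5), `k = 1` natural: THEOREM WC1, the families of lines (helper75 #22081 (1), (2), helper876 #19093)

* `bl L F Δ = ⟨F, L^{xm} : m ∈ Δ, x ∈ C_G(F)⟩`; `bh_of` : `BH V F (bl L F Δ)` if the lines `L^m`, `m ∈ Δ`, lie in `E` and all
  `L^m`, `L^{xm'}` commute;
* `Wv S P V M F N` : the W-stage at one active `F`: (NOFF) for lines, the PRINCIPLE for `M`, `L^m ≤ E` if `W ≤ S^m`;
* `Wv.index` : `B = bl L F Δ` (`L ≤ B`) which centralises every line `L^g ≤ E` with `B ≤ S^g`: `V ∩ B = L F`,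
  `|V ∩ B : F| = |K| ≤ |V : E|`;
* `Wv.toWc` : `Wc` for `B_F = bl L F {m : W ≤ S^m}`.
-/

set_option autoImplicit false
set_option linter.unusedSectionVars false
set_option linter.unusedVariables false

namespace Cfsg.Agent.Omega.NO3S.SFive.One

open Subgroup Cfsg Cfsg.Agent.ZN Cfsg.Agent.ZN.ChoiceBase Cfsg.Agent.Omega.MinPar
open Cfsg.Agent.Omega.NOne.Flat (Hyp EE WW NN Cos card_mul_relIndex')
open Cfsg.Agent.Omega.NOne.NearFF (c c_def)
open Cfsg.Agent.Omega.NOThreeL.Low.Key (BH)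
open Cfsg.Agent.Omega.NO3S.Fld (Crd)
open Cfsg.Agent.Omega.NO3S.BetaFF (Act)
open Cfsg.Agent.Omega.FFThm (StmtM)
open scoped Pointwise

universe u

variable {G : Type u} [Group G] [Finite G]

/-- The generators. -/
def gens (L F : Subgroup G) (Δ : Set G) : Set (Subgroup G) :=
  {l | l = F ∨ ∃ m ∈ Δ, ∃ x ∈ centralizer (F : Set G), l = cj (x * m) L}

/-- `⟨F, L^{xm} : m ∈ Δ, x ∈ C_G(F)⟩` -/
def bl (L F : Subgroup G) (Δ : Set G) : Subgroup G := sSup (gens L F Δ)

section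

variable {V L F : Subgroup G} {Δ : Set G}

theorem F_le_bl : F ≤ bl L F Δ := le_sSup (Or.inl rfl)

theorem le_bl {m x : G} (hm : m ∈ Δ) (hx : x ∈ centralizer (F : Set G)) : cj (x * m) L ≤ bl L F Δ :=
  le_sSup (Or.inr ⟨m, hm, x, hx, rfl⟩)

theorem le_bl' {m : G} (hm : m ∈ Δ) : cj m L ≤ bl L F Δ := by
  have h1 := le_bl (L := L) (F := F) hm (one_mem (centralizer (F : Set G)))
  rwa [one_mul] at h1

theorem cj_le_X {x : G} (hx : x ∈ centralizer (F : Set G)) {A : Subgroup G} (hA : A ≤ centralizer (F : Set G)) :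
    cj x A ≤ centralizer (F : Set G) := by
  have h1 := cj_mono x hA
  rwa [cj_eq_of_mem_normalizer (le_normalizer hx)] at h1

theorem bh_of (h : Hyp V F) (hLV : ∀ v ∈ L, v ^ 2 = 1) (hE : ∀ m ∈ Δ, cj m L ≤ EE V F)
    (hc : ∀ m ∈ Δ, ∀ m' ∈ Δ, ∀ x ∈ centralizer (F : Set G), cj (x * m') L ≤ centralizer ((cj m L : Subgroup G) : Set G)) :
    BH V F (bl L F Δ) ∧ ∀ b ∈ bl L F Δ, b ^ 2 = 1 := by
  have hX : ∀ m ∈ Δ, ∀ x ∈ centralizer (F : Set G), cj (x * m) L ≤ centralizer (F : Set G) := by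
    intro m hm x hx
    rw [← cj_cj]
    exact cj_le_X hx ((hE m hm).trans Hyp.E_le_X)
  have hFF : F ≤ centralizer (F : Set G) := h.F_le_V.trans h.V_le_X
  have habel : bl L F Δ ≤ centralizer (bl L F Δ : Set G) := by
    refine sSup_le ?_
    rintro _ (rfl | ⟨m, hm, x, hx, rfl⟩)
    · rw [le_centralizer_iff]
      refine sSup_le ?_
      rintro _ (rfl | ⟨m, hm, x, hx, rfl⟩)
      · exact hFF
      · exact hX m hm x hx
    · rw [le_centralizer_iff]
      refine sSup_le ?_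
      rintro _ (rfl | ⟨m', hm', x', hx', rfl⟩)
      · rw [le_centralizer_iff]
        exact hX m hm x hx
      · have h1 := hc m hm m' hm' (x⁻¹ * x') (mul_mem (inv_mem hx) hx')
        have h2 := cj_mono x h1
        rw [cj_centralizer, cj_cj, cj_cj] at h2
        have e : x * (x⁻¹ * x' * m') = x' * m' := by group
        rwa [e] at h2
  refine ⟨{ toHyp := h, le_W := ?_, F_le := F_le_bl, abel := habel, norm := ?_ }, ?_⟩
  · refine sSup_le ?_
    rintro _ (rfl | ⟨m, hm, x, hx, rfl⟩)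
    · exact h.F_le_E.trans Hyp.E_le_W
    · rw [← cj_cj]
      exact (cj_mono x (hE m hm)).trans (Hyp.conjE_le_W hx)
  · intro y hy
    refine mem_normalizer_of_cj_le ?_
    rw [cj_le_iff]
    refine sSup_le ?_
    rintro _ (rfl | ⟨m, hm, x, hx, rfl⟩)
    · rw [← cj_le_iff, cj_eq_of_mem_normalizer (centralizer_le_normalizer _ hy)]
      exact F_le_bl
    · rw [← cj_le_iff, cj_cj, ← mul_assoc]
      exact le_bl hm (mul_mem hy hx)
  · let T : Subgroup G :=
      { carrier := {b | b ∈ bl L F Δ ∧ b ^ 2 = 1}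
        mul_mem' := by
          rintro a b ⟨ha, ha2⟩ ⟨hb, hb2⟩
          refine ⟨mul_mem ha hb, ?_⟩
          have h1 : b * a = a * b := (mem_centralizer_iff.1 (habel ha) b hb)
          rw [pow_two] at ha2 hb2 ⊢
          calc a * b * (a * b) = a * (b * a) * b := by group
            _ = a * a * (b * b) := by rw [h1]; group
            _ = 1 := by rw [ha2, hb2, one_mul]
        one_mem' := ⟨one_mem _, one_pow 2⟩
        inv_mem' := by
          rintro a ⟨ha, ha2⟩
          exact ⟨inv_mem ha, by rw [inv_pow, ha2, inv_one]⟩ }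
    have h1 : bl L F Δ ≤ T := by
      refine sSup_le fun l hl => ?_
      have hl' : l ≤ bl L F Δ := le_sSup hl
      rcases hl with rfl | ⟨m, hm, x, hx, rfl⟩
      · exact fun f hf => ⟨hl' hf, h.sq f (h.F_le_V hf)⟩
      · intro b hb
        refine ⟨hl' hb, ?_⟩
        rw [mem_cj] at hb
        have h2 := hLV _ hb
        rw [pow_two] at h2 ⊢
        have e : b * b = x * m * ((x * m)⁻¹ * b * (x * m) * ((x * m)⁻¹ * b * (x * m))) * (x * m)⁻¹ := by group
        rw [e, h2]; group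
    exact fun b hb => (h1 hb).2

end

/-- The chambers which contain `W_F`. -/
def DW (S : Sylow 2 G) (V M F : Subgroup G) : Set G := {m | m ∈ M ∧ WW V F ≤ cj m (S : Subgroup G)}

/-- **The W-stage** at one active `F`, `V_P` natural, `k = 1`. -/
structure Wv {K : Type*} [Field K] (S : Sylow 2 G) (P V M F : Subgroup G)
    (N : Crd K (S : Subgroup G) P (zl (S : Subgroup G) P)) : Prop extends Act S P V F where
  four : 4 ≤ Nat.card K
  PM : P ≤ M
  MV : M ≤ normalizer (V : Set G)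
  VS : V ≤ (S : Subgroup G)
  WM : WW V F ≤ M
  goodL : ∀ m ∈ M, WW V F ≤ cj m (S : Subgroup G) → cj m (zl (S : Subgroup G) P) ≤ EE V F
  noffL : ∀ g : G, zl (S : Subgroup G) P ≤ normalizer ((cj g (zl (S : Subgroup G) P) : Subgroup G) : Set G) →
    cj g (zl (S : Subgroup G) P) ≤ normalizer (zl (S : Subgroup G) P : Set G) →
      cj g (zl (S : Subgroup G) P) ≤ centralizer (zl (S : Subgroup G) P : Set G)
  prin : ∀ A ≤ M, IsPGroup 2 A → ¬ A ≤ centralizer (V : Set G) →
    ∃ m ∈ M, cj m A ≤ (S : Subgroup G) ∧ ¬ cj m A ≤ centralizer (zl (S : Subgroup G) P : Set G)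

namespace Wv

variable {K : Type*} [Field K] {S : Sylow 2 G} {P V M F : Subgroup G}
  {N : Crd K (S : Subgroup G) P (zl (S : Subgroup G) P)} (h : Wv S P V M F N)
include h

theorem sqL : ∀ v ∈ zl (S : Subgroup G) P, v ^ 2 = 1 := fun v hv => h.hyp.sq v (h.LV hv)

/-- NOFF for two lines. -/
theorem noff2 {g g' : G}
    (h1 : cj g (zl (S : Subgroup G) P) ≤ normalizer ((cj g' (zl (S : Subgroup G) P) : Subgroup G) : Set G))
    (h2 : cj g' (zl (S : Subgroup G) P) ≤ normalizer ((cj g (zl (S : Subgroup G) P) : Subgroup G) : Set G)) :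
    cj g' (zl (S : Subgroup G) P) ≤ centralizer ((cj g (zl (S : Subgroup G) P) : Subgroup G) : Set G) := by
  have h3 := h.noffL (g⁻¹ * g') (by
    have h4 := cj_mono g⁻¹ h1
    rwa [cj_inv_cj, cj_normalizer, cj_cj] at h4) (by
    have h4 := cj_mono g⁻¹ h2
    rwa [cj_normalizer, cj_inv_cj, cj_cj] at h4)
  have h4 := cj_mono g h3
  rwa [cj_centralizer, cj_cj, mul_inv_cancel_left] at h4

/-- `S^m` normalises `L^m`. -/
theorem S_norm (m : G) : cj m (S : Subgroup G) ≤ normalizer ((cj m (zl (S : Subgroup G) P) : Subgroup G) : Set G) := by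
  rw [← cj_normalizer]
  exact cj_mono m (h.SP.trans h.PL)

theorem cjE_le_W {x : G} (hx : x ∈ centralizer (F : Set G)) {A : Subgroup G} (hA : A ≤ EE V F) : cj x A ≤ WW V F :=
  (cj_mono x hA).trans (Hyp.conjE_le_W hx)

theorem one_mem_DW : (1 : G) ∈ DW S V M F := ⟨one_mem _, by rw [cj_one]; exact h.WS⟩

/-- lines of the chambers containing `W`: `L^m`, `L^{xm'}` commute. -/
theorem commW {m m' x : G} (hm : m ∈ DW S V M F) (hm' : m' ∈ DW S V M F) (hx : x ∈ centralizer (F : Set G)) :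
    cj (x * m') (zl (S : Subgroup G) P) ≤ centralizer ((cj m (zl (S : Subgroup G) P) : Subgroup G) : Set G) := by
  refine h.noff2 ?_ ?_
  · -- `L^m` normalises `L^{xm'}`
    have h1 : cj x⁻¹ (cj m (zl (S : Subgroup G) P)) ≤
        normalizer ((cj m' (zl (S : Subgroup G) P) : Subgroup G) : Set G) :=
      ((h.cjE_le_W (inv_mem hx) (h.goodL m hm.1 hm.2)).trans hm'.2).trans (h.S_norm m')
    have h2 := cj_mono x h1
    rwa [cj_cj_inv, cj_normalizer, cj_cj] at h2
  · rw [← cj_cj]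
    exact ((h.cjE_le_W hx (h.goodL m' hm'.1 hm'.2)).trans hm.2).trans (h.S_norm m)

theorem bhW : BH V F (bl (zl (S : Subgroup G) P) F (DW S V M F)) ∧
    ∀ b ∈ bl (zl (S : Subgroup G) P) F (DW S V M F), b ^ 2 = 1 :=
  bh_of h.hyp h.sqL (fun m hm => h.goodL m hm.1 hm.2) fun m hm m' hm' x hx => h.commW hm hm' hx

/-- `B` centralises `L^g` if `B ≤ S^g`, `L^g ≤ E`, and the lines `L^{xg}` normalise the generating lines. -/
theorem cent_of {Δ : Set G} {g : G} (hB : bl (zl (S : Subgroup G) P) F Δ ≤ cj g (S : Subgroup G))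
    (hE : cj g (zl (S : Subgroup G) P) ≤ EE V F)
    (hN : ∀ m ∈ Δ, ∀ x ∈ centralizer (F : Set G), cj (x * g) (zl (S : Subgroup G) P) ≤
      normalizer ((cj m (zl (S : Subgroup G) P) : Subgroup G) : Set G)) :
    bl (zl (S : Subgroup G) P) F Δ ≤ centralizer ((cj g (zl (S : Subgroup G) P) : Subgroup G) : Set G) := by
  refine sSup_le fun l hl => ?_
  have hlB : l ≤ bl (zl (S : Subgroup G) P) F Δ := le_sSup hl
  rcases hl with rfl | ⟨m, hm, x, hx, rfl⟩
  · rw [le_centralizer_iff]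
    exact hE.trans Hyp.E_le_X
  · refine h.noff2 ?_ ((hlB.trans hB).trans (h.S_norm g))
    have h1 := cj_mono x (hN m hm x⁻¹ (inv_mem hx))
    rw [cj_cj, cj_normalizer, cj_cj] at h1
    have e : x * (x⁻¹ * g) = g := by group
    rwa [e] at h1

/-- **The index**: `V ∩ B = L F`, `|V ∩ B : F| = |K| ≤ |V : E|`. -/
theorem index [Finite K] [CharP K 2] {B : Subgroup G} (bh : BH V F B) (hsq : ∀ b ∈ B, b ^ 2 = 1)
    (hLB : zl (S : Subgroup G) P ≤ B)
    (hgood : ∀ g ∈ M, B ≤ cj g (S : Subgroup G) → cj g (zl (S : Subgroup G) P) ≤ EE V F →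
      B ≤ centralizer ((cj g (zl (S : Subgroup G) P) : Subgroup G) : Set G)) :
    V ⊓ B ≤ zl (S : Subgroup G) P ⊔ F ∧ F.relIndex (V ⊓ B) ≤ (EE V F).relIndex V := by
  have hWR : WW V F ≤ centralizer (N.R : Set G) := N.off_le_centR h.WS h.elemM h.offM.le
  -- `L ∩ F = R`
  have hLF : zl (S : Subgroup G) P ⊓ F = N.R := by
    apply le_antisymm
    · rintro v ⟨hv, hvF⟩
      obtain ⟨s, hs, hsL⟩ := SetLike.not_le_iff_exists.1 h.mov
      exact N.fix (h.WS hs) (hWR hs) hsL hv (Hyp.F_comm hvF (Hyp.W_le_X hs)).symm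
    · refine le_inf N.R_le ?_
      rw [← h.hyp.cent_VW]
      exact le_inf (N.R_le.trans h.LV) (le_centralizer_iff.1 hWR)
  have hrF : F.relIndex (zl (S : Subgroup G) P) = Nat.card K := by
    rw [← inf_relIndex_right, inf_comm, hLF]
    have h1 := card_mul_relIndex' N.R_le
    rw [N.card_R, N.card_V] at h1
    exact Nat.eq_of_mul_eq_mul_left Nat.card_pos h1
  have hle : Nat.card K ≤ F.relIndex (V ⊓ B) := by
    rw [← hrF]
    exact relIndex_le_of_le_right (le_inf h.LV hLB) index_ne_zero_of_finite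
  -- `B` moves `V`
  have hmv : ¬ B ≤ centralizer (V : Set G) := by
    intro hc
    apply h.mov
    refine NoFF.Basic.V_le fun x hx => ?_
    have h1 : cj x⁻¹ (zl (S : Subgroup G) P) ≤ B := by
      have h2 := cj_mono x⁻¹ hLB
      rwa [cj_eq_of_mem_normalizer (bh.norm (inv_mem hx))] at h2
    have h2 := cj_mono x (h1.trans (hc.trans (centralizer_le (inf_le_left : EE V F ≤ V))))
    rw [cj_cj_inv, cj_centralizer] at h2
    exact le_centralizer_iff.1 h2
  have hB2 : IsPGroup 2 B := by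
    rintro ⟨b, hb⟩
    exact ⟨1, Subtype.ext (by simpa using hsq b hb)⟩
  obtain ⟨m, hm, hmS, hmL⟩ := h.prin B (bh.le_W.trans h.WM) hB2 hmv
  have hmV := h.MV hm
  have hEE : EE V (cj m F) = cj m (EE V F) := EE_cj hmV
  have hbad : ¬ zl (S : Subgroup G) P ≤ EE V (cj m F) := by
    intro h1
    rw [hEE] at h1
    apply hmL
    have h2 := cj_mono m⁻¹ h1
    rw [cj_inv_cj] at h2
    have h3 := cj_mono m⁻¹ hmS
    rw [cj_inv_cj] at h3
    have h4 := cj_mono m (hgood m⁻¹ (inv_mem hm) h3 h2)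
    rwa [cj_centralizer, cj_cj_inv] at h4
  have hcjI : V ⊓ cj m B = cj m (V ⊓ B) := by rw [cj_inf, cj_eq_of_mem_normalizer hmV]
  have hrel : (cj m F).relIndex (V ⊓ cj m B) = F.relIndex (V ⊓ B) := by
    rw [hcjI]
    exact relIndex_cj m F (V ⊓ B)
  have hrelE : (EE V (cj m F)).relIndex V = (EE V F).relIndex V := by
    have h1 := relIndex_cj m (EE V F) V
    change (cj m (EE V F)).relIndex (cj m V) = _ at h1
    rwa [cj_eq_of_mem_normalizer hmV, ← hEE] at h1
  obtain ⟨h1, h2⟩ := idx_of N (BH_cj bh hmV) (fun b hb => by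
    rw [mem_cj] at hb
    have h1 := hsq _ hb
    rw [pow_two] at h1 ⊢
    have e : b * b = m * (m⁻¹ * b * m * (m⁻¹ * b * m)) * m⁻¹ := by group
    rw [e, h1]; group) hmS h.LV h.four (by rw [hrel]; exact hle) hbad
  rw [hrel, hrelE] at h2
  rw [hrel] at h1
  refine ⟨?_, h2⟩
  -- `|L F| = |V ∩ B|`
  have h3 : zl (S : Subgroup G) P ⊔ F ≤ V ⊓ B := sup_le (le_inf h.LV hLB) bh.F_le_I
  have hn : zl (S : Subgroup G) P ≤ normalizer (F : Set G) := ab_norm h.hyp.comm h.LV h.hyp.F_le_V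
  have h4 := NOne.Flat.Off.card_sup_mul_inf hn
  rw [hLF, N.card_R, N.card_V] at h4
  have h5 := card_mul_relIndex' bh.F_le_I
  rw [h1] at h5
  have p2 : 0 < Nat.card K := Nat.card_pos
  have h6 : Nat.card ↥(zl (S : Subgroup G) P ⊔ F) = Nat.card ↥(V ⊓ B) := by
    rw [← h5]
    have h7 : Nat.card K * Nat.card ↥(zl (S : Subgroup G) P ⊔ F) = Nat.card K * (Nat.card F * Nat.card K) := by
      calc _ = Nat.card ↥(zl (S : Subgroup G) P ⊔ F) * Nat.card K := mul_comm _ _
        _ = _ := by rw [h4]; ring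
    exact Nat.eq_of_mul_eq_mul_left p2 h7
  exact (Subgroup.eq_of_le_of_card_ge h3 h6.ge).ge

/-- **`Wc` for `B_F`.** -/
theorem toWc [Finite K] [CharP K 2] : Wc S P V M F (bl (zl (S : Subgroup G) P) F (DW S V M F)) N := by
  obtain ⟨bh, hsq⟩ := h.bhW
  have hLB : zl (S : Subgroup G) P ≤ bl (zl (S : Subgroup G) P) F (DW S V M F) := by
    have h1 := le_bl' (L := zl (S : Subgroup G) P) (F := F) h.one_mem_DW
    rwa [cj_one] at h1
  have hgood : ∀ g ∈ M, bl (zl (S : Subgroup G) P) F (DW S V M F) ≤ cj g (S : Subgroup G) →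
      cj g (zl (S : Subgroup G) P) ≤ EE V F →
        bl (zl (S : Subgroup G) P) F (DW S V M F) ≤
          centralizer ((cj g (zl (S : Subgroup G) P) : Subgroup G) : Set G) := by
    intro g hg hB hE
    refine h.cent_of hB hE fun m hm x hx => ?_
    rw [← cj_cj]
    exact ((h.cjE_le_W hx hE).trans hm.2).trans (h.S_norm m)
  obtain ⟨hIL, hidx⟩ := h.index bh hsq hLB hgood
  refine { toAct := h.toAct, four := h.four, PM := h.PM, MV := h.MV, VS := h.VS, bh := bh, sq := hsq, BQ := ?_,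
           LB := hLB, IL := hIL, idxV := hidx, good := ?_ }
  · rw [← h.o2_eq]
    exact le_inf (bh.le_W.trans h.WS) (bh.abel.trans (centralizer_le hLB))
  · intro m hm hmS hmE
    have h2 := cj_mono m⁻¹ hmE
    rw [cj_inv_cj] at h2
    have h3 := cj_mono m⁻¹ hmS
    rw [cj_inv_cj] at h3
    have h4 := cj_mono m (hgood m⁻¹ (inv_mem hm) h3 h2)
    rwa [cj_centralizer, cj_cj_inv] at h4

end Wv

end Cfsg.Agent.Omega.NO3S.SFive.One
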