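import Cfsg.Agent.Omega.NO3S.SFive.WCAlp
import Cfsg.Agent.Omega.NO3S.SFive.Chamber
import Cfsg.Agent.Omega.NO3S.SFive.WCOne
import Cfsg.Agent.Omega.NO3S.Level.Gamma

/-!
# GammaFF (S5): `k = 1` natural, `|K| ≥ 4`, is impossible (THEOREM WC1, helper879 #23006)

`five_one` : `FiveP G S P`, `NatP K (zl S P) P`, `4 ≤ |K|` ⟹ `False`; `redH_five`, `wH_five`.
-/

set_option autoImplicit false

namespace Cfsg.Agent.Omega.NO3S.SFive.WCPlug

open Subgroup Cfsg Cfsg.Agent.ZN Cfsg.Agent.Omega.MinPar Cfsg.Agent.Omega.Frame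
open Cfsg.Agent.Omega.NO3S.Level
open Cfsg.Agent.Omega.NO3S.SFive.One (Wv)
open scoped Pointwise

universe u

variable {G : Type u} [Group G] [Finite G]

/-- **`k = 1` natural, `|K| ≥ 4`, is impossible in (S5).** -/
theorem five_one {S : Sylow 2 G} {P : Subgroup G} (h : FiveP G S P) (K : Type) [Field K] [Finite K] [CharP K 2]
    (h4 : 4 ≤ Nat.card K) (hN : NatP K (zl (S : Subgroup G) P) P) : False := by
  obtain ⟨hpss, ⟨F, w⟩, hall, -⟩ := h
  have hn := hpss.nonLoc
  obtain ⟨N⟩ := Fld.exists_crd (w.toHypC.hypN w.par hn).toHyp hN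
  have v := fv_of w hn hall
  have a := act_of w hn
  have wv : Wv S P (X0 (S : Subgroup G)) (M0 (S : Subgroup G)) F N :=
    { toAct := a
      four := h4
      PM := v.PM
      MV := v.MV
      VS := v.VS
      WM := v.WM
      goodL := v.good
      noffL := v.noffL
      prin := v.prin }
  obtain ⟨T, hQT, hTS, n, hnT, -, hne⟩ := v.exists_move hall
  apply hne
  have h1 := wv.norm_le FF.Glob.ffthmM (fun T h1 h2 => Level.norm_le ((K0_le_o2 v.par).trans h1) h2) hQT hTS hnT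
  exact (NOne.Flat.conj_eq_of_norm h1).le

theorem redH_five (K : Cls.{u}) : RedH K FiveP := fun _ _ _ _ _ _ h F _ _ _ h4 _ hN =>
  (five_one h F h4 hN).elim

theorem wH_five (K : Cls.{u}) : WH K FiveP := fun _ _ _ _ _ _ h F _ _ _ h4 hN _ _ _ _ _ _ _ _ =>
  (five_one h F h4 hN).elim

end Cfsg.Agent.Omega.NO3S.SFive.WCPlug
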